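import Cfsg.Agent.Lib.SK.SuA

/-! # The Suzuki group from a four-group and `A₅`: the subgroup of type `L₃(4)` (copy of `SJ/SzB` under weaker hypotheses) -/

set_option autoImplicit false
set_option linter.unusedSectionVars false

namespace Cfsg.Lib.SK

open Subgroup Cfsg.Lib.BG Cfsg.Lib.RI Cfsg.Lib.UE Cfsg.Lib.Comp Cfsg.Lib.SL2s
open Cfsg.Lib.SzV (F4 ϖ Hz uc aa two0 ϖ0 Hs Tg)
open Cfsg.Lib.NG (bar img pre mem_img mem_pre bar_mul bar_mem_img img_le)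
open Cfsg.Lib.J1S (Oq ex_oq img_syl cover)
open Cfsg.Lib.GW (Od)
open Cfsg.Lib.SJ (hs_of hs_sub tg_sub fix4)
open scoped Cfsg.Lib.Transfer MatrixGroups

variable {G : Type*} [Group G] [Finite G] {A A' B D H K L M N S X Y : Subgroup G} {g h l m p q s t v w x y : G} {ε : F4 → G}
  {u : F4 → F4 → F4 → G} {a b c e f : F4}

namespace S1
variable (k : S1 t s q ε u B)
include k

/-- the normal closure of `z` -/
def L4 : Subgroup G := ncl (zpowers (u 0 0 1)) 𝐂(k.E)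

theorem LC : k.L4 ≤ 𝐂(k.E) := (ncl_nml (zpowers_le.2 (k.uC _ _ _))).1
theorem CL : 𝐂(k.E) ≤ 𝐍(k.L4) := norm_ncl _ _
theorem EK : k.E ≤ 𝐂(k.L4) := cent_symm k.LC
theorem Lle (m : u 0 0 1 ∈ N) (n : 𝐂(k.E) ≤ 𝐍(N)) : k.L4 ≤ N := ncl_le_of_norm (zpowers_le.2 m) n
theorem BL : B ≤ k.L4 := k.BN (k.BC.trans k.CL) (le_ncl _ _ (mem_zpowers _))
theorem PL : k.P ≤ k.L4 := k.PN (k.BL k.qB) fun _ _ _ => k.CL (k.uC _ _ _)
theorem nL (n : g ∈ 𝐍(k.E)) (m : cj g (u 0 0 1) ∈ k.L4) : g ∈ 𝐍(k.L4) := Transfer.mem_normalizer_of_conj_le (by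
  rw [L4, conj_ncl, conj_eq_of_norm (nm_cent n), Transfer.conj_zpowers]; exact ncl_le_of_norm (zpowers_le.2 m) k.CL)
theorem sL : s ∈ 𝐍(k.L4) := k.nL k.sE (k.su ▸ k.PL (k.mP ..))
theorem perf : ⁅k.L4, k.L4⁆ = k.L4 := le_antisymm (commutator_le_self _) (k.Lle
  (let ⟨_, j⟩ := k.qz 1; j ▸ commutator_mem_commutator (k.BL k.qB) (k.PL (k.mP ..))) (norm_comm k.CL k.CL))
theorem mC2 (i : Commute x (ε 1)) (j : Commute x (ε ϖ)) : x ∈ 𝐂(k.E) := k.mC.2 fun e => by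
  rcases SzV.cases4 e with rfl | rfl | rfl | rfl
  exacts [k.ε0 ▸ .one_right x, i, j, by rw [show ϖ ^ 2 = 1 + ϖ by decide, ← k.εa]; exact i.mul_right j]

theorem odd (o : Odd (Nat.card M)) (l : M ≤ 𝐂[ε 1]) (n : 𝐂(k.E) ≤ 𝐍(M)) : k.L4 ≤ 𝐂(M) := by
  have l1 : M ⊓ 𝐂[t] ≤ 𝐂[u 0 0 1] := by
    have n' : B ≤ 𝐍(M ⊓ 𝐂[t]) := fun g m => nm_inf (n (k.BC m)) (le_norm _ (k.Bt m))
    exact (Core.le_centralizer_of_inf_eq_bot (H := M ⊓ 𝐂[t]) (fun x m => (k.ca x (mc1.1 m.2) (mc1.1 (l m.1))).2) n' ((k.Bn n').resolve_left fun j =>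
      k.z1 one_ne_zero ((k.two ..).eq_one (odd_of_mem o (j (k.zB 1)).1)))).trans (cent_le_cent1 (k.zB 1))
  refine k.Lle (le_cent1_iff.1 (GW.gen_four ⟨k.t1, k.z1 one_ne_zero, fun j => k.nQ 1 ?_, k.t2, k.s1 0 1, (k.tz 1).eq⟩ (n k.tC) (n (k.uC _ _ _)) o l1
    inf_le_right fun x m => ?_)) (norm_cent n)
  · rw [show cj 1 t = u 0 0 1 by simp [j]]; exact k.PQ (k.mP ..)
  have e : cj (u 1 1 0) t = t * u 0 0 1 := by rw [k.ct, aa, mul_one]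
  exact cjm' (nm_c1 (k.zc 1 1 0 1).inv_left) (l1 ⟨cjm (inv_mem (n (k.uC _ _ _))) m.1, mc1.2 (commute_cj_right.1 (e ▸ mc1.1 m.2))⟩)

theorem ess (h : R2.ABS k.P A A' k.L4) (m : u 0 0 1 ∈ A) : ∃ x ∈ A' ⊓ A, ∃ g ∈ k.L4, cj g x ∈ A' ∧ cj g x ∉ A := by_contra fun n => by
  have n' := norm_ncl A k.L4
  exact h.nB (h.leB.trans ((le_inf le_rfl (k.PN (k.BN (k.BL.trans n') (le_ncl _ _ m) k.qB) fun _ _ _ => n' (k.PL (k.mP ..)))).trans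
    (h.inf_ncl (h.sc fun g i => nm_of fun x j => ⟨by_contra fun e => n ⟨x, ⟨j.2, j.1⟩, g, i.1, cjm i.2 j.2, e⟩, cjm i.2 j.2⟩)).le))

theorem exct (a c : F4) : ∃ p ∈ k.P, cj p t = t * u a a c := ⟨_, k.mP (a + c * c) (c * c) 0, by
  have := (by decide +kernel : ∀ b c : F4, b + c * c + c * c = b ∧ c * c * (c * c) = c) a c
  rw [k.ct]; exact congrArg _ (uc u this.1 this.1 this.2)⟩

theorem sylL : Syl 2 k.P k.L4 := Hall.of_le k.sylP k.PL (k.Lle (k.sylP.le (k.mP ..)) (norm_comm (le_norm _) (le_norm _)))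

theorem hs : ∃ p, Hs p k.L4 := by
  obtain ⟨G', _, _, φ, o⟩ := ex_oq (Y := k.L4) (E := ⊥) (fun _ _ => le_normalizer_of_normal (mem_top _)) bot_le .of_bot
  have l1 : k.E1 ≤ k.P := by rintro _ ⟨a, c, rfl⟩; exact k.mP ..
  have l2 : k.toHz.E2 ≤ k.P := by rintro _ ⟨a, c, rfl⟩; exact k.mP ..
  have e1 : El k.E1 := by rintro _ ⟨a, c, rfl⟩; exact k.s1 ..
  have e2 : El k.toHz.E2 := by rintro _ ⟨a, c, rfl⟩; exact k.s2 ..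
  have ab : R2.ABS k.P k.E1 k.toHz.E2 k.L4 := ⟨⟨e1.ea, e2.ea, l1, l2, by
    rintro _ ⟨a, b, c, rfl⟩
    exact ⟨_, k.mE1 a (c + a * b), _, k.mE2 b 0, by rw [k.mul]; exact uc u (add_zero _) (zero_add _) (by linear_combination (a * b) * two0)⟩, by
    rintro _ ⟨a, b, c, rfl⟩ j
    rcases k.of_sq j with rfl | rfl
    exacts [.inr (k.mE2 ..), .inl (k.mE1 ..)], fun j => let ⟨_, _, i⟩ := j (k.mE1 1 0); one_ne_zero (k.inj i).1,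
    fun j => let ⟨_, _, i⟩ := j (k.mE2 1 0); one_ne_zero (k.inj i).2.1⟩, k.sylL⟩
  have z : k.E1 ⊓ k.toHz.E2 = k.Z := le_antisymm (by rintro _ ⟨⟨a, c, rfl⟩, _, _, i⟩; exact ⟨c, by rw [(k.inj i).1]⟩)
    (by rintro _ ⟨c, rfl⟩; exact ⟨k.mE1 .., k.mE2 ..⟩)
  obtain ⟨h1, h2, r, -⟩ := o.core k.sylL bot_le l1 l2 e1 e2 ab.prod ab.inv (by rw [z, k.cardZ, card_bot]) (by rw [k.cardE2, card_bot])
    (k.ess ab.symm (k.mE2 ..)) (k.ess ab (k.mE1 ..))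
  obtain ⟨F, _, _, r', ⟨-, ⟨i⟩⟩ | ⟨n, -⟩⟩ := h1.iso (o.top.ge.trans ((NG.img_le_iff le_rfl).2 (ncl_le fun g m => by
    obtain ⟨l, m', j⟩ := k.sylL.exists_le_conj ((pgroup_conj g).2 (pg_zp (k.two 0 0 1))) (conj_le_ncl m)
    exact j.trans ((NG.img_le_iff (conj_le_of_mem k.PL m')).1 (NG.img_conj (f := φ) m' ▸ conj_le_ncl trivial)))))
  swap; · exact absurd h2.yA n
  refine hs_of (r'.trans r) k.perf (i.toMonoidHom.comp φ) (i.surjective.comp o.sj) fun x j => ?_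
  have m : x.1 ∈ Od k.L4 := by
    simpa using o.ker (fun _ _ => mc.2 fun y m => mem_bot.1 m ▸ .one_right _) x.2 ((NG.bar_mk x.2).trans ((map_eq_one_iff i i.injective).1 j))
  exact ⟨cent_symm (k.odd (GW.odd_Od _) ((GW.Od_le _).trans (k.LC.trans k.Ca)) (norm_pcore k.CL _)) m, GW.odd_of_mem_Od m⟩

theorem dec (m : cj g t ∈ 𝐂(k.E)) : ∃ c ∈ 𝐂(k.E), Commute (c * g) t := by
  obtain ⟨c, i, j⟩ := k.sylT.exists_conj_le (pg_zp ((two_of_sq k.t2).conj g)) (zpowers_le.2 m)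
  obtain ⟨p, l, j⟩ := k.cls (g := c * g) (cj_mul' c g t ▸ cj_le.1 j _ (mem_zpowers _))
  exact ⟨p⁻¹ * c, mul_mem (inv_mem (k.PC l)) i, cj_eq_iff.1 (by rw [mul_assoc, cj_mul', j, cj_inv_cj])⟩

theorem nEL (i : g ∈ 𝐂[ε 1]) (n : g ∈ 𝐍(k.E)) : g ∈ 𝐍(k.L4) := by
  obtain ⟨c, l, j⟩ := k.dec (cjm (nm_cent n) k.tC)
  exact (mul_mem_cancel_left (k.CL l)).1 (k.nL (mul_mem (cent_le_norm _ l) n) (k.BL (cjm (k.ca _ j (mc1.1 (mul_mem (k.Ca l) i))).2 (k.zB 1))))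

theorem k1 (i : g ∈ 𝐂[ε 1]) (m : h ∈ 𝐂(k.E)) (j : Commute (cj h t) (cj g (ε ϖ))) : g ∈ 𝐍(k.E) := by
  have i' := mul_mem (inv_mem i) (k.Ca m)
  obtain ⟨c, l, j⟩ := k.dec (g := g⁻¹ * h) (k.mC2 (mc1.1 (cj_mem i' (k.Ca k.tC))) (cj_mul' g⁻¹ h t ▸ commute_cj_right.1 j))
  exact inv_mem_iff.1 ((mul_mem_cancel_right (cent_le_norm _ m)).1 ((mul_mem_cancel_left (cent_le_norm _ l)).1
    (k.caE j (mc1.1 (mul_mem (k.Ca l) i')))))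

theorem k2 (i : w ∈ 𝐂[ε 1]) (w2 : w * w = 1) (n : w ∈ 𝐍(k.T)) : ∃ h ∈ 𝐂(k.E), Commute (cj h t) w := by
  have o : ∀ a c, ∃ a' c', cj w (t * u a a c) = t * u a' a' c' := fun a c => by
    obtain ⟨p, l, j⟩ := k.exct a c
    obtain ⟨_, ⟨_, _, _, rfl⟩, j'⟩ := k.cls (g := w * p) (cj_mul' w p t ▸ cjm n (cj_mem (k.PT l) k.tT))
    exact ⟨_, _, j ▸ (cj_mul' ..).symm.trans (j'.trans (k.ct ..))⟩
  by_cases n' : ∀ c, Commute w (u 0 0 c)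
  · obtain ⟨p, l, j⟩ := k.cls (cjm n k.tT)
    have p' := inv_mem (k.PC l)
    have wC : w ∈ 𝐂(k.E) := k.mC2 (mc1.1 i) (mc1.1 ((mul_mem_cancel_left (k.Ca p')).1 (mc1.2 (k.cza (p⁻¹ * w)
      (cj_eq_iff.1 (by rw [cj_mul', j, cj_inv_cj])) (mc1.1 (mul_mem (k.Ca p') i)) fun c => by
        obtain ⟨_, _, _, rfl⟩ := l; exact (k.zc ..).inv_left.mul_left (n' c)))))
    obtain ⟨e, a, b, c, rfl⟩ | ⟨e, p, l, rfl⟩ := k.invT (syl_mem k.sylT wC (two_of_sq w2) n) w2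
    swap; · exact ⟨p, k.PC l, Commute_cj p ((Commute.refl t).mul_right (k.tε e))⟩
    by_cases j : u a b c = 1
    · exact ⟨1, one_mem _, by simpa [j] using k.tε e⟩
    obtain ⟨_, h⟩ := k.hs
    obtain ⟨_, _, _, _, F⟩ := h.fr
    obtain ⟨x, x1, x2⟩ := F.clsL (k.PL (k.mP a b c)) (k.sqQ w2) j
    obtain ⟨y, y1, y2⟩ := F.clsL (k.PL (k.mP 0 0 1)) (k.s1 ..) (k.z1 one_ne_zero)
    have m := k.LC (mul_mem (inv_mem y1) x1)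
    refine ⟨_, inv_mem m, commute_cj_left.2 ?_⟩
    rw [inv_inv, cj_mul, cj_c m (k.mE e), cj_mul', x2, cj_of_inv y2]
    exact (k.tε e).mul_right (k.tz 1)
  obtain ⟨φ, κ, j⟩ := o 0 0
  rw [k.u0, mul_one] at j
  have o' : ∀ a c, ∃ a' c', cj w (u a a c) = u a' a' c' := fun a c => by
    obtain ⟨a', c', e⟩ := o a c
    rw [cj_mul, j, mul_assoc, mul_right_inj, ← eq_inv_mul_iff_mul_eq, k.inv, k.mul] at e
    exact ⟨_, _, e⟩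
  have sq : ∀ {a c a' c'}, cj w (u a a c) = u a' a' c' → cj w (u 0 0 (a * a)) = u 0 0 (a' * a') := fun e => by rw [← k.sq, cj_mul, e, k.sq]
  choose τ hτ using fun c => (let ⟨_, _, e⟩ := o' (c * c) 0; ⟨_, (by decide +kernel : ∀ c : F4, c * c * (c * c) = c) c ▸ sq e⟩ :
    ∃ c', cj w (u 0 0 c) = u 0 0 c')
  have fx : ∀ {c}, cj w (u 0 0 c) = u 0 0 c → ∃ x, c = x + τ x := fun e => fix4 (fun a b => (k.inj (by rw [← hτ, ← k.zz, ← k.zz, cj_mul, hτ, hτ])).2.2)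
    (fun a => (k.inj (by rw [← hτ, ← hτ, cj_sq w2])).2.2) (fun e => n' fun c => cj_eq_iff.1 (by rw [hτ, e])) (k.inj ((hτ _).symm.trans e)).2.2
  obtain ⟨x, e⟩ := fx (sq (c := κ) (c' := κ + φ * φ) (by
    have := cj_sq w2 t
    rw [j, cj_mul, j, mul_assoc, mul_eq_left, mul_eq_one_iff_inv_eq, k.inv] at this
    exact this.symm))
  obtain ⟨a, c, i⟩ := o' (x * x) 0
  obtain rfl : φ = x * x + a := (by decide +kernel : ∀ φ x a : F4, φ * φ = x + a * a → φ = x * x + a) _ _ _ (by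
    rw [e, (k.inj ((hτ _).symm.trans ((by decide +kernel : ∀ c : F4, c * c * (c * c) = c) x ▸ sq i))).2.2])
  replace i : ∀ d, cj w (t * u (x * x) (x * x) d) = t * u (x * x) (x * x) (κ + c + (x * x + a) * a + τ d) := fun d => by
    rw [← zero_add d, ← k.uz, cj_mul, cj_mul, j, i, hτ, mul_assoc, ← mul_assoc (u _ _ _), k.mul, k.uz, add_assoc _ a, aa, add_zero, zero_add]
  generalize κ + c + (x * x + a) * a = d at i
  have t0 : τ 0 = 0 := (k.eq1 (by rw [← hτ, k.u0, cj_one])).2.2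
  obtain ⟨y, e⟩ := fx (c := d) (by
    have := cj_sq w2 (t * u (x * x) (x * x) 0)
    rw [i, t0, add_zero, i, mul_right_inj] at this
    rw [hτ, ← CharTwo.add_eq_zero.1 (k.inj this).2.2])
  obtain ⟨p, l, j⟩ := k.exct (x * x) y
  exact ⟨p, k.PC l, (cj_eq_iff.1 (by rw [j, i, e, add_assoc, aa, add_zero])).symm⟩

theorem key (i : g ∈ 𝐂[ε 1]) (n : cj g (ε ϖ) ∈ 𝐍(k.E)) : g ∈ 𝐍(k.E) := by
  have CH : 𝐂(k.E) ≤ 𝐍(k.E) ⊓ 𝐂[ε 1] := le_inf (cent_le_norm _) k.Ca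
  obtain ⟨R, hR, l⟩ := Syl.exists_ge k.T2 (k.TC.trans CH)
  have m : cj g (ε ϖ) ∈ 𝐂[ε 1] := cj_mem i (mc1.2 (k.εε ..))
  obtain ⟨h, j, e⟩ := hR.exists_conj_le (pg_zp ((two_of_sq (k.ε2 ϖ)).conj g)) (zpowers_le.2 (mem_inf.2 ⟨n, m⟩))
  replace e := cj_le.1 e _ (mem_zpowers _)
  obtain ⟨x, x1, x2⟩ := k.k2 (hR.le e).2 (cj_mul_self (cj_mul_self (k.ε2 ϖ) g) h) (by
    rw [k.sylT.eq_of_le_pgroup (le_inf l k.TC) inf_le_right (pgroup_of_le hR.pgroup inf_le_left)]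
    exact nm_inf (le_norm _ e) (nm_cent (hR.le e).1))
  exact (mul_mem_cancel_left (mem_inf.1 j).1).1 (k.k1 (mul_mem j.2 i) x1 (cj_mul' h g _ ▸ x2))

theorem CN : 𝐂[ε 1] ≤ 𝐍(k.L4) := by
  have EC : k.E ≤ 𝐂[ε 1] := k.E2.cent.trans k.Ca
  have aE : zpowers (ε 1) ≤ k.E := zpowers_le.2 (k.mE 1)
  obtain ⟨R, hR, l⟩ := Syl.exists_ge k.E2.pg (le_inf EC (le_norm _))
  have sR : Syl 2 R 𝐂[ε 1] := Syl.of_norm (Hall.of_le hR (le_inf (hR.le.trans inf_le_left) (le_norm _)) fun g m =>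
    ⟨m.1, k.key m.1 (hR.le (cjm m.2 (l (k.mE ϖ)))).2⟩)
  obtain ⟨G', _, _, φ, o⟩ := ex_oq (Y := 𝐂[ε 1]) (E := zpowers (ε 1)) (fun g m => nm_zp (mc1.1 m)) (aE.trans EC) (pgroup_of_le k.E2.pg aE)
  have bC := EC (k.mE ϖ)
  have b2 : bar φ (ε ϖ) * bar φ (ε ϖ) = 1 := by rw [← bar_mul bC bC, k.ε2, NG.bar_one]
  have b1 : bar φ (ε ϖ) ≠ 1 := fun e => by
    rcases zp_sq (k.ε2 1) (o.k2 _ bC (two_of_sq (k.ε2 ϖ)) e) with j | j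
    exacts [k.εn ϖ0 j, k.εn (e := ϖ + 1) (by decide) (by rw [← k.εa, j, k.ε2])]
  have im : img φ k.E = zpowers (bar φ (ε ϖ)) := le_antisymm (img_le (by
    rintro _ ⟨e, rfl⟩ -
    have a1 := o.k1 _ (mem_zpowers _)
    rcases SzV.cases4 e with rfl | rfl | rfl | rfl
    exacts [by rw [k.ε0, NG.bar_one]; exact one_mem _, a1 ▸ one_mem _, mem_zpowers _, by
      rw [show ϖ ^ 2 = 1 + ϖ by decide, ← k.εa, bar_mul (EC (k.mE 1)) bC, a1, one_mul]; exact mem_zpowers _]))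
    (zpowers_le.2 (bar_mem_img (k.mE ϖ) bC))
  have hE : ∀ g ∈ 𝐂[ε 1], g ∈ 𝐍(k.E) → cj (bar φ g) (bar φ (ε ϖ)) = bar φ (ε ϖ) := fun g m n =>
    (zp_sq b2 (by rw [← o.bc m bC, ← im]; exact bar_mem_img (cjm n (k.mE ϖ)) (cj_mem m bC))).resolve_left (by simpa using b1)
  obtain ⟨P, e⟩ := Syl.top_iff_sylow.1 (o.top ▸ img_syl (φ := φ) sR le_rfl)
  have z := SzQ.zstar' ((GW.Od_top_eq _).symm.trans o.od) P b2 b1 (e ▸ bar_mem_img (l (k.mE ϖ)) bC) fun g j => by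
    obtain ⟨g, m, rfl⟩ := o.ex g
    obtain ⟨x, x1, x2, x3⟩ := o.into (aE.trans l) hR.pgroup sR.le (cj_mem m bC) ((two_of_sq (k.ε2 ϖ)).conj g) (by rwa [o.bc m bC, ← e])
    obtain ⟨r, r1, r2, j⟩ := mem_img.1 x2
    have := hE _ (mul_mem x1 m) (k.key (mul_mem x1 m) (cj_mul' x g _ ▸ (hR.le x3).2))
    rw [bar_mul x1 m, cj_mul', ← j, cj_eq_iff', ← NG.bar_inv r2] at this
    exact this.trans (hE _ (inv_mem r2) (inv_mem (hR.le r1).2))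
  have EN := k.EK.trans (cent_le_norm _)
  refine ((o.syl aE k.E2.pg EC).frattini ⟨NG.pre_le, fun g m => NG.norm_pre m (im ▸ nm_zp (z _))⟩).ge.trans
    (sup_le (fun x m => ?_) fun g m => k.nEL m.1 m.2)
  obtain ⟨m, y, y1, y2, j⟩ := mem_pre.1 m |>.imp_right mem_img.1
  exact (mul_mem_cancel_right (EN (inv_mem y1))).1 (sup_le ((cent_symm (k.odd (GW.odd_Od _) (GW.Od_le _) (k.Ca.trans (GW.Od_nml _).2))).trans
    (cent_le_norm _)) (aE.trans EN) (o.ker (cent_zpowers _).ge (mul_mem m (inv_mem y2)) (by rw [bar_mul m (inv_mem y2), NG.bar_inv y2, j, mul_inv_cancel])))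

theorem sylE1 : Syl 2 k.E (𝐂(k.L4) ⊓ 𝐂[ε 1]) := by
  have tE := cent_le_norm _ k.tC
  have mS : ∀ {x}, x ∈ k.E ⊔ zpowers t ↔ ∃ e, x = ε e ∨ x = t * ε e := by
    intro x; rw [mem_sup_zp' tE (k.t2 ▸ one_mem _), exists_or]
    exact or_congr_right (exists_congr fun _ => inv_mul_eq_iff_eq_mul)
  have S2 := pg_sup_zp k.E2.pg tE (two_of_sq k.t2)
  have EC : k.E ≤ 𝐂[ε 1] := k.E2.cent.trans k.Ca
  have tB : zpowers t ≤ 𝐂(B) ⊓ 𝐂[ε 1] := zpowers_le.2 ⟨le_cent1_iff.1 k.Bt, k.Ca k.tC⟩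
  have SB := sup_le (le_inf (cent_symm k.BC) EC) tB
  obtain ⟨S, hS, l⟩ := Syl.exists_ge S2 (le_inf SB (sup_le (le_cent1_iff.2 k.tC) (zpowers_le.2 (self_mem_cent1 t))))
  have := Hall.inf_nml (N := 𝐂(k.L4) ⊓ 𝐂[ε 1]) (Hall.of_le (syl_of_class hS S2 (fun g m => mS.2 (k.cB g (two_of hS.pgroup m) (mc1.1 (hS.le m).2)
    (mc1.1 (hS.le m).1.2) (hS.le m).1.1)) SB fun g _ n => by
    obtain ⟨e, j | j⟩ := mS.1 (cjm n zp_mem_sup)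
    exacts [absurd (k.EQ ⟨e, j⟩) (k.nQ g), ⟨1, one_mem _, by rw [j, k.d0 j, k.ε0]; simp⟩]) (sup_le_sup_right (le_inf k.EK EC) _)
    (sup_le (inf_le_inf_right _ (cent_anti k.BL)) tB))
    ⟨le_sup_left, sup_le_norm_left (zpowers_le.2 (nm_inf (nm_cent (k.CL k.tC)) (le_norm _ (k.Ca k.tC))))⟩
  rwa [show (k.E ⊔ zpowers t) ⊓ (𝐂(k.L4) ⊓ 𝐂[ε 1]) = k.E from le_antisymm (fun x m => ?_) (le_inf le_sup_left (le_inf k.EK EC))] at this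
  obtain ⟨e, rfl | rfl⟩ := mS.1 m.1
  · exact k.mE e
  exact absurd (k.inj ((k.tu 1 0 0).symm.trans (cj_c ((mul_mem_cancel_right (k.EK (k.mE e))).1 m.2.1) (k.PL (k.mP ..))))).1 (by decide)

theorem sylE : Syl 2 k.E 𝐂(k.L4) := Syl.of_norm (Syl.of_max (le_inf k.EK (le_norm _)) k.E2.pg fun Q hQ _ m x i => by
  obtain ⟨_, ⟨e, rfl⟩, n, l⟩ := ex_fix hQ k.E2.pg (m.trans inf_le_right) fun j => k.ε1 (j.le (k.mE 1))
  obtain ⟨r, j⟩ := k.to1 (e := e) (by rintro rfl; exact n k.ε0)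
  have sE := pow_mem k.sE r
  exact cjm' sE (syl_mem k.sylE1 ⟨cjm (nm_cent (pow_mem k.sL r)) (m i).1, mc1.2 (j ▸ Commute_cj _ (mc1.1 (l i)))⟩ ((two_of hQ i).conj _)
    (cj_mem sE (m i).2)))

theorem tg : Tg k.L4 := by
  have o : ∀ {x}, x ∈ 𝐂(k.L4) → Two x → ∃ g ∈ 𝐍(k.L4), ∃ e, cj g x = ε e := fun m j =>
    let ⟨g, i, l⟩ := k.sylE.exists_conj_le (pg_zp j) (zpowers_le.2 m); ⟨g, cent_le_norm _ i, cj_le.1 l _ (mem_zpowers _)⟩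
  have o' : ∀ {x}, x ∈ 𝐂(k.L4) → x * x = 1 → x ≠ 1 → ∃ g ∈ 𝐍(k.L4), cj g x = ε 1 := fun m j n => by
    obtain ⟨g, i, e, l⟩ := o m (two_of_sq j)
    obtain ⟨r, j⟩ := k.to1 (e := e) (by rintro rfl; exact n (cj_eq_one.1 (l.trans k.ε0)))
    exact ⟨_, mul_mem (pow_mem k.sL r) i, by rw [cj_mul', l, j]⟩
  refine ⟨fun x m g x2 x1 n => ?_, fun g n => ?_⟩
  · obtain ⟨a, a1, i⟩ := o' m x2 x1
    obtain ⟨b, b1, j⟩ := o' n (cj_mul_self x2 g) (by simpa using x1)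
    exact (mul_mem_cancel_left b1).1 ((mul_mem_cancel_right (inv_mem a1)).1 (k.CN (mc1.2 (cj_eq_iff.1 (by rw [cj_mul', cj_of_inv i, cj_mul', j])))))
  obtain ⟨h, -, e, j⟩ := o (n _ (k.PL (k.mP 1 1 0))) ((k.two ..).conj g)
  have := k.ε2 e
  rw [← j, ← cj_mul, ← cj_mul, cj_eq_one, cj_eq_one, k.sq] at this
  exact k.z1 (by decide) this

theorem suz' [X.Normal] [IsSimpleGroup X] (hz : u 0 0 1 ∈ X) (ha : ε 1 ∈ X) : Spor.IsoSuz X := by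
  obtain ⟨p, h⟩ := k.hs
  have l : k.L4 ≤ X := k.Lle hz fun _ _ => le_normalizer_of_normal (mem_top _)
  refine (hs_sub h l).suz (fun e => ?_) (tg_sub k.tg l) (r := ⟨ε 1, ha⟩) ((subOf_cent l).ge (k.EK (k.mE 1))) (Subtype.ext (k.ε2 1))
    fun e => k.ε1 (congrArg Subtype.val e)
  have : u 1 0 0 * u 0 1 0 = u 0 1 0 * u 1 0 0 := congrArg Subtype.val (e.1.1 (⟨_, l (k.PL (k.mP 1 0 0))⟩ : X) ⟨_, l (k.PL (k.mP 0 1 0))⟩)
  rw [k.mul, k.mul] at this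
  exact absurd (k.inj this).2.2 (by decide)

end S1

end Cfsg.Lib.SK
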