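import Cfsg.Agent.Lib.SK.Gu

/-! # Standard `M₁₂` with odd centraliser: facts on automorphisms (generated by tools/h13/tree.py) -/

set_option autoImplicit false
set_option maxRecDepth 1000000
set_option maxHeartbeats 0
set_option linter.unusedVariables false

namespace Cfsg.Lib.SK.Td

open Cfsg.Lib.Calc

variable {J G : Type*} [Group J] [Group G] [Finite G] {D : Dm J} {T : Cn J G} {o : Bool}

def pn0 : Pn := ⟨false, [.mul (.mul (.l 30) (.l 2)) (.inv (.mul (.l 2) (.l 30))), .mul (.mul (.l 30) (.l 3)) (.inv (.mul (.mul (.l 1) (.l 3)) (.l 30))), .mul (.mul (.l 30) (.l 4)) (.inv (.mul (.mul (.l 1) (.l 4)) (.l 30))), .mul (.mul (.l 30) (.l 5)) (.inv (.mul (.mul (.l 1) (.l 5)) (.l 30)))], [(false, [.mul (.l 30) (.inv (.mul (.mul (.l 2) (.l 3)) (.l 4)))]), (false, [.mul (.l 30) (.inv (.mul (.mul (.mul (.l 1) (.l 2)) (.l 3)) (.l 4)))])]⟩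

def pn1 : Pn := ⟨false, [.mul (.mul (.l 30) (.l 2)) (.inv (.mul (.l 2) (.l 30))), .mul (.mul (.l 30) (.l 3)) (.inv (.mul (.l 3) (.l 30))), .mul (.mul (.l 30) (.l 4)) (.inv (.mul (.l 4) (.l 30))), .mul (.mul (.l 30) (.l 5)) (.inv (.mul (.l 5) (.l 30)))], [(false, [.l 30]), (false, [.mul (.l 30) (.inv (.l 1))])]⟩

def pn2 : Pn := ⟨false, [.mul (.mul (.l 30) (.l 2)) (.inv (.mul (.l 2) (.l 30))), .mul (.mul (.l 30) (.l 3)) (.inv (.mul (.l 3) (.l 30))), .mul (.mul (.l 30) (.l 4)) (.inv (.mul (.l 4) (.l 30)))], [(false, [.l 30]), (false, [.mul (.l 30) (.inv (.l 2))]), (false, [.mul (.l 30) (.inv (.l 1))]), (false, [.mul (.l 30) (.inv (.mul (.l 1) (.l 2)))])]⟩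

def pn3 : Pn := ⟨false, [.mul (.mul (.l 30) (.l 2)) (.inv (.mul (.l 2) (.l 30))), .mul (.mul (.l 30) (.l 3)) (.inv (.mul (.mul (.l 2) (.l 3)) (.l 30))), .mul (.mul (.l 30) (.l 4)) (.inv (.mul (.mul (.mul (.l 1) (.l 2)) (.l 4)) (.l 30))), .mul (.mul (.l 30) (.l 5)) (.inv (.mul (.mul (.mul (.mul (.mul (.l 1) (.l 2)) (.l 3)) (.l 4)) (.l 5)) (.l 30)))], [(false, [.mul (.l 30) (.inv (.mul (.mul (.mul (.l 2) (.l 3)) (.l 4)) (.l 6)))]), (false, [.mul (.l 30) (.inv (.mul (.mul (.mul (.mul (.l 1) (.l 2)) (.l 3)) (.l 4)) (.l 6)))])]⟩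

def pn4 : Pn := ⟨false, [.mul (.mul (.l 30) (.l 2)) (.inv (.mul (.l 2) (.l 30))), .mul (.mul (.l 30) (.l 3)) (.inv (.mul (.mul (.l 2) (.l 3)) (.l 30))), .mul (.mul (.l 30) (.l 4)) (.inv (.mul (.mul (.l 2) (.l 4)) (.l 30))), .mul (.mul (.l 30) (.l 5)) (.inv (.mul (.mul (.mul (.mul (.l 2) (.l 3)) (.l 4)) (.l 5)) (.l 30)))], [(false, [.mul (.l 30) (.inv (.mul (.mul (.l 2) (.l 4)) (.l 6)))]), (false, [.mul (.l 30) (.inv (.mul (.mul (.mul (.l 1) (.l 2)) (.l 4)) (.l 6)))])]⟩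

def pn5 : Pn := ⟨false, [.mul (.mul (.l 30) (.l 2)) (.inv (.mul (.l 2) (.l 30))), .mul (.mul (.l 30) (.l 3)) (.inv (.mul (.l 3) (.l 30))), .mul (.mul (.l 30) (.l 4)) (.inv (.mul (.mul (.mul (.l 1) (.l 2)) (.l 4)) (.l 30))), .mul (.mul (.l 30) (.l 5)) (.inv (.mul (.mul (.mul (.l 1) (.l 3)) (.l 5)) (.l 30)))], [(true, [])]⟩

def pn6 : Pn := ⟨false, [.mul (.mul (.l 30) (.l 3)) (.inv (.mul (.l 3) (.l 30))), .mul (.mul (.l 30) (.l 4)) (.inv (.mul (.mul (.mul (.l 1) (.l 2)) (.l 4)) (.l 30))), .mul (.mul (.l 30) (.l 6)) (.inv (.mul (.mul (.mul (.l 1) (.l 2)) (.l 6)) (.l 30)))], []⟩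

def pn7 : Pn := ⟨false, [.mul (.mul (.l 30) (.l 2)) (.inv (.mul (.l 2) (.l 30))), .mul (.mul (.l 30) (.l 3)) (.inv (.mul (.l 3) (.l 30))), .mul (.mul (.l 30) (.l 4)) (.inv (.mul (.mul (.mul (.l 1) (.l 2)) (.l 4)) (.l 30))), .mul (.mul (.l 30) (.l 5)) (.inv (.mul (.mul (.mul (.l 1) (.l 3)) (.l 5)) (.l 30)))], [(true, [.mul (.l 30) (.inv (.mul (.mul (.mul (.mul (.l 11) (.l 2)) (.l 3)) (.l 4)) (.l 6)))]), (true, [.mul (.l 30) (.inv (.mul (.mul (.mul (.mul (.mul (.l 11) (.l 1)) (.l 2)) (.l 3)) (.l 4)) (.l 6)))])]⟩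

def pn8 : Pn := ⟨false, [.mul (.mul (.l 30) (.l 4)) (.inv (.mul (.mul (.mul (.l 1) (.l 2)) (.l 4)) (.l 30))), .mul (.mul (.l 30) (.l 3)) (.inv (.mul (.l 3) (.l 30))), .mul (.mul (.l 30) (.l 6)) (.inv (.mul (.mul (.l 1) (.l 6)) (.l 30)))], []⟩

def pn9 : Pn := ⟨false, [.mul (.mul (.l 30) (.l 2)) (.inv (.mul (.mul (.l 1) (.l 2)) (.l 30))), .mul (.mul (.l 30) (.l 3)) (.inv (.mul (.mul (.l 1) (.l 3)) (.l 30))), .mul (.mul (.l 30) (.l 4)) (.inv (.mul (.l 4) (.l 30))), .mul (.mul (.l 30) (.l 5)) (.inv (.mul (.l 5) (.l 30)))], [(false, [.mul (.l 30) (.inv (.mul (.l 4) (.l 5)))]), (false, [.mul (.l 30) (.inv (.mul (.mul (.l 1) (.l 4)) (.l 5)))])]⟩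

def pn10 : Pn := ⟨false, [.mul (.mul (.l 30) (.l 3)) (.inv (.mul (.l 3) (.l 30))), .mul (.mul (.l 30) (.l 9)) (.inv (.mul (.l 9) (.l 30)))], [(false, [.l 30])]⟩

def pn11 : Pn := ⟨false, [.mul (.mul (.l 30) (.l 3)) (.inv (.mul (.l 3) (.l 30))), .mul (.mul (.l 30) (.l 9)) (.inv (.mul (.mul (.mul (.l 9) (.l 1)) (.l 2)) (.l 30)))], [(false, [.mul (.l 30) (.inv (.l 2))])]⟩

def pn12 : Pn := ⟨false, [.mul (.mul (.l 30) (.l 3)) (.inv (.mul (.mul (.l 1) (.l 3)) (.l 30))), .mul (.mul (.l 30) (.l 9)) (.inv (.mul (.l 9) (.l 30)))], [(false, [.mul (.l 30) (.inv (.l 4))])]⟩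

def pn13 : Pn := ⟨false, [.mul (.mul (.l 30) (.l 2)) (.inv (.mul (.l 2) (.l 30))), .mul (.mul (.l 30) (.l 3)) (.inv (.mul (.l 3) (.l 30))), .mul (.mul (.l 30) (.l 4)) (.inv (.mul (.mul (.mul (.l 1) (.l 2)) (.l 4)) (.l 30))), .mul (.mul (.l 30) (.l 5)) (.inv (.mul (.mul (.l 3) (.l 5)) (.l 30)))], [(true, [.mul (.l 30) (.inv (.mul (.mul (.mul (.l 11) (.l 3)) (.l 4)) (.l 6)))]), (true, [.mul (.l 30) (.inv (.mul (.mul (.mul (.mul (.l 11) (.l 1)) (.l 3)) (.l 4)) (.l 6)))])]⟩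

def pn14 : Pn := ⟨false, [.mul (.mul (.l 30) (.l 3)) (.inv (.mul (.mul (.l 1) (.l 3)) (.l 30))), .mul (.mul (.l 30) (.l 9)) (.inv (.mul (.mul (.mul (.l 9) (.l 1)) (.l 2)) (.l 30)))], [(false, [.mul (.l 30) (.inv (.mul (.l 2) (.l 4)))])]⟩

def pn15 : Pn := ⟨false, [.mul (.mul (.l 30) (.l 2)) (.inv (.mul (.l 2) (.l 30))), .mul (.mul (.l 30) (.l 3)) (.inv (.mul (.l 3) (.l 30))), .mul (.mul (.l 30) (.l 4)) (.inv (.mul (.mul (.l 1) (.l 4)) (.l 30))), .mul (.mul (.l 30) (.l 5)) (.inv (.mul (.l 5) (.l 30)))], [(false, [.mul (.l 30) (.inv (.l 3))]), (false, [.mul (.l 30) (.inv (.mul (.l 1) (.l 3)))])]⟩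

def pn16 : Pn := ⟨false, [.mul (.mul (.l 30) (.l 2)) (.inv (.mul (.l 2) (.l 30))), .mul (.mul (.l 30) (.l 3)) (.inv (.mul (.mul (.mul (.l 1) (.l 2)) (.l 3)) (.l 30))), .mul (.mul (.l 30) (.l 4)) (.inv (.mul (.l 4) (.l 30)))], [(true, [])]⟩

def pn17 : Pn := ⟨false, [.mul (.mul (.l 30) (.l 2)) (.inv (.mul (.l 2) (.l 30))), .mul (.mul (.l 30) (.l 3)) (.inv (.mul (.mul (.l 2) (.l 3)) (.l 30))), .mul (.mul (.l 30) (.l 4)) (.inv (.mul (.l 4) (.l 30)))], [(true, [])]⟩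

def pn18 : Pn := ⟨false, [.mul (.mul (.mul (.mul (.l 30) (.l 30)) (.l 30)) (.l 30)) (.l 1), .mul (.mul (.mul (.mul (.mul (.mul (.mul (.mul (.l 30) (.l 7)) (.l 30)) (.l 7)) (.l 30)) (.l 7)) (.l 30)) (.l 7)) (.l 1), .mul (.mul (.mul (.mul (.mul (.mul (.mul (.mul (.l 30) (.l 7)) (.l 30)) (.l 30)) (.l 7)) (.l 30)) (.l 30)) (.l 7)) (.l 30)], [(false, [.mul (.l 30) (.inv (.mul (.l 5) (.l 6)))]), (false, [.mul (.l 30) (.inv (.mul (.mul (.mul (.l 2) (.l 3)) (.l 5)) (.l 6)))]), (false, [.mul (.l 30) (.inv (.mul (.mul (.l 1) (.l 5)) (.l 6)))]), (false, [.mul (.l 30) (.inv (.mul (.mul (.mul (.mul (.l 1) (.l 2)) (.l 3)) (.l 5)) (.l 6)))]), (false, [.mul (.l 30) (.inv (.mul (.mul (.l 7) (.l 3)) (.l 6)))]), (false, [.mul (.l 30) (.inv (.mul (.mul (.mul (.l 7) (.l 2)) (.l 3)) (.l 6)))]), (false, [.mul (.l 30) (.inv (.mul (.mul (.mul (.l 7)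 (.l 1)) (.l 3)) (.l 6)))]), (false, [.mul (.l 30) (.inv (.mul (.mul (.mul (.mul (.l 7) (.l 1)) (.l 2)) (.l 3)) (.l 6)))]), (false, [.mul (.l 30) (.inv (.mul (.mul (.mul (.mul (.inv (.l 7)) (.l 2)) (.l 4)) (.l 5)) (.l 6)))]), (false, [.mul (.l 30) (.inv (.mul (.mul (.mul (.mul (.mul (.inv (.l 7)) (.l 2)) (.l 3)) (.l 4)) (.l 5)) (.l 6)))]), (false, [.mul (.l 30) (.inv (.mul (.mul (.mul (.mul (.mul (.inv (.l 7)) (.l 1)) (.l 2)) (.l 4)) (.l 5)) (.l 6)))]), (false, [.mul (.l 30) (.inv (.mul (.mul (.mul (.mul (.mul (.mul (.inv (.l 7)) (.l 1)) (.l 2)) (.l 3)) (.l 4)) (.l 5)) (.l 6)))])]⟩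

/-- the facts -/
structure Ps (D : Dm J) : Prop where
  pQ : D.Pq pnQ
  pX : D.Pq pnX
  p0 : D.Pq pn0
  p1 : D.Pq pn1
  p2 : D.Pq pn2
  p3 : D.Pq pn3
  p4 : D.Pq pn4
  p5 : D.Pq pn5
  p6 : D.Pq pn6
  p7 : D.Pq pn7
  p8 : D.Pq pn8
  p9 : D.Pq pn9
  p10 : D.Pq pn10
  p11 : D.Pq pn11
  p12 : D.Pq pn12
  p13 : D.Pq pn13
  p14 : D.Pq pn14
  p15 : D.Pq pn15
  p16 : D.Pq pn16
  p17 : D.Pq pn17
  p18 : D.Pq pn18

end Cfsg.Lib.SK.Td
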