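import Cfsg.Agent.Lib.SK.TdA
import Cfsg.Agent.Lib.SK.TdB

/-! # Standard `M₁₂` with odd centraliser: involutions (generated by tools/h13/tree.py) -/

set_option autoImplicit false
set_option maxRecDepth 1000000
set_option maxHeartbeats 0
set_option linter.unusedVariables false

namespace Cfsg.Lib.SK.Td

open Cfsg.Lib.Calc

variable {J G : Type*} [Group J] [Group G] [Finite G] {D : Dm J} {T : Cn J G} {o : Bool}

def rT : List W := [.mul (.mul (.mul (.inv (.l 13)) (.inv (.l 4))) (.l 13)) (.l 4), .mul (.mul (.mul (.inv (.l 13)) (.inv (.l 5))) (.l 13)) (.l 5), .mul (.mul (.mul (.inv (.l 13)) (.inv (.l 6))) (.l 13)) (.l 6), .mul (.mul (.mul (.inv (.l 13)) (.inv (.l 7))) (.l 13)) (.l 7), .mul (.mul (.mul (.mul (.l 13) (.l 12)) (.l 13)) (.l 12)) (.l 1), .mul (.mul (.mul (.l 9) (.l 13)) (.inv (.l 9))) (.l 14), .mul (.mul (.mul (.inv (.l 9)) (.l 13)) (.l 9)) (.l 15), .mul (.mul (.mul (.l 7) (.l 14)) (.inv (.l 7))) (.l 16), .mul (.mul (.mul (.l 9) (.l 16))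 (.inv (.l 9))) (.l 17), .mul (.mul (.mul (.inv (.l 9)) (.l 16)) (.l 9)) (.l 18), .mul (.mul (.l 13) (.l 14)) (.l 15)] ++ rel0

def c31_F : Tr := .node (.leaf (nat_lit 0x6b71a751a2c6db11504db09b42db11444da6a21ad64b554c8634d8d4832a0d363118d263418d1831a0d062658cf63358ce7325ccd61ed8cc60ed80e00f000e00f403b603983d103840601f003d01e4006099427b003800f01ec07e01f407a632d87a6b19acb613d8ca61398c94ac94c748e94c61a206c482f60c268c1abf18d06bd2ae8abb48b543852e923800e403852e9239813e0ba82ba0b921a48b772b5cb66ac9a31700dc286819a2850d522800a40282ac4a3502cc035693dab42ad0ab052d12b32ac4ab352c52b06ab9ab02abca34293caae21388ad818e0aa22988a7827a0a66889a686825a2101300216a91a697179ca47275ca2201881d007801d001809f22808636a79aa020d089e21b489c209889b0a2829a1a0c69911a44997a3de977231c97785de1902480196a51a913190c943180c9119dc69011784906a31a8f6a29a8e113848c194868a0a2028980d208881be085106c48279cde8171b9c8109f826551f927d098c27d51ed27a69d1a7b69bda7a09e025a105c47669b9a7369b5a7208d026f10bc46d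107046c09a426a7979e697139c697965e677155c6711904656981a6468d1a636969a62116846050d522900d802900d403778d1e5f68dda5f096425e6939a5e6899a5d6871a5c095c20d080c2020010002000c05668e9a5b6955a596949a5808bc254089825308702520854251082c250513d23468a5a067859e187831e0e780de067809e0555a134c8d9e34b4d9954a5595340559133f4d8d53c558933c4d855395581338657d9354d79534557533465719334d6d53355693334564f325561331555d32f4558f2e555532d4550f2c554d32355493227d45f164d415164d3d5044d3950355353034530f02252c9014528f004d254ff4d214fe451cefd4d194f755152ed4d114e7550d2e665098e355052d94500ed444fced344f8ed244f4ed144f0ed04ced4cd54e92cd44e4ecb44e0eca54dd2c964d98c554d52c544d0ec444ccec254c92c144c4ebd44c0ebb44bceba1cb86ba44b4eb94cb14b84cad4b654a92b62ca4ab644a0eb54c9d4b22c98ab21c946b13490cb0448ceaf4488eae3484cae54812ad247c8ac1c786ac4474eaa6c71aa76c6daa64468ea67c65ea584620a0445cea04458e9e2c54a9c4c5149b4c4d499544929964458974c41497543d2971c386974434e964430e951c2c6954c2948f2c24a8e4420e8d541d28c241888b2c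14a8a4410e89440ce884c094878c0628654012862bfca8643f8e8553f52844bf14811bec68143e8e8043e4e7f1be067f43dce7a4bd94732bd4a7243d0e6f2bcca6d1bc866c23c486b4bc146a4bbd46953b926943b4e684bb146743ace6643a8e634ba545e33a0c5e439ce5d4398e5c2b94a5c639185a4b8d4593388c583384c572b80a541b7c6543378c533374c526371850336cc501b686504364e4f536124e335cc4e535924d3354c4b4b514454b4d444534924353452425341241433ce404338e3f4334e3e4b3143b532d23b4b2943a4324e3a3320c381b1c63563198344314e345311233630d83253092323304c323300c307afde2f4af942f52f522f2af0a2f52ed22e4ae942d52e522c2ae0a2c42dce2b42d8e2a2ad4a2a4ad142852cd22832c8c284ac542752c12274abd42652b922642b4e2632b0c2672adc2552a92258aa622472a1c24529d22452992234294e224290e21828e0204288e1f8a8621d528121d227c81d527921c4274e1c3270c1c2a6ca1c1a6861c4264e1b626181a425ce1a1a5861a125441a4a514191a4c6187a49e174a454174240e17423ce1622388161a346164230e15322cc152228815522521452212132a1ca13221881352152121210412420ce111a086114204e101a0061011fc41049f940f51f520f61f1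80e49ed40e51e920e11e440e49e140d41dce0d19d860d61d580c49d140c41cce0c31c8c0c11c440c09c020c51bd20b41b8e0b31b4c0b21b080b19ac60b41a8e0a41a4e0921a0809419ce08099820849954074991406518d206498940509842054981403517d2034178e032974a032170803616d80249694024164e022160802115c40209582024154e013150c01294ca01214880119446011140401493d4004138e007135c136931a09212c84a19286491124448092022d211c8463118c456115844911243a610d8336109841890623a610181b60fd83e80fa03a60f580f60f183b70edc3a60e980050e522d88e223450dd22948d943570d5c3450d120030ccc1388ca22f30c4c0670c1c2f30bcc0028b8a2d90b640088b222628aca0980aa02670a5c0328a0a27709dc262898a0088962062090823888e21c20888218086003208081f807e01c20788067075c1c2070800186c609806a01518646067061c15185c6036859a1518546001050413884e200884a20b1044409804200b103c4067039c0b10344036831a0b102c400082820980260008022001081c2067019c007015c010810203680da006809a0108042000000000))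
  (.leaf (nat_lit 0x881a224059c0248d9e20602a4006001814b0094024040401d004c0a802180a1022011c040011805281516d41b666da1b532d98b6825349681924647011c04a011804b01140d5035012e05001560d5c36565919656d81b641048413004c08402200fd051c10303f8104052014f656d9636d85b636105832010803264f1933010404304f413303400d204f813c60c984330c8c13030c043004c0c164cd93e00c80330220132057013e03080c405641030d3c35b04cc134056c15e057415a658995a6d7db62651996165059604cd955f0d7834f557935d0d3435d556d35a6d61b5a14cc5590cd435828b0a2d00b40b802e812c055012f04b4130255c9556d05b5714bc5566d49b5524b49542d40b5324d495325049522470918046c1183c611517545d176c69b51153854f6cd5b4d2d28b4c240c94c2d24b0024089496d19b480bf83478082003028c0030080021007c02202880a503981196d15b432cacb452d10b436cadb440820209002406603ac069019c06a03b00f06d09b3b64fd94074e1d3f64d193e64f193d7ce5f3c74d9d3c644193b60f981a633589700fc01a033809700f8040033c0cd606984010244101868609625d8cf02600400040011002407f04440cf006801b020408303e40690bc0310025c09904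40113044810f64e990f6cddb3a63dd9396cd9b39636593863619373b19136140c53474c5d331b08732131453124bc9307365d2f535532e4b2152e7489d2d2cb0ab92824a2a2ad8aed00a802b04a40ed02dc0b601a412824a88ee6c81b2a22d892830c0c06030000600c403002c80bf6af9b272c9cb24549132654993254c915252b1cb256c85b242c58b23231492323649222af8b2154852bc23609201bcc71f0c5431e7095c1302ac013009404d03580aa6c75b0373a9d1d4aa151c246c91c7459d1a7465ced4a855186c59b1723cc9151b787152c50a9e22bc9140c4c2f0544d3120bb8312186867f125c4f901fc0961a0469703e410d004010b03ec09703e810c020410e3440cfc544130f6c29b106c1db0f3c2d10e143050e1c3070d125c50d125850b0c282e333d8d0a1860606024c0060060019180c616005801719cc68f117848f024008f01781083424cf56c15b09123c5080b603072c18ade33c4d061a707063ba10f543cced733ccd050c0c3047ba9f037315d032c08a882220900221c8ff7bddefe73d1cfe0a142fd6bd9afc1be46fa12044fa12004f86bd1af76bcdaf513804f312684f213bc4f06b61aee2adcaed6a95aed6b8daec099c2eb6b15aea138c4e96b5dae87b9deb62b98ae76ab5ae77b99ea26a75ae621748e508142060184006001400701880656b91acc09682741a40673103040301d007801cc07701c4003003400c015c0706b6dae123848e26b75ae20af02e031accdf122c4df0ab02de236c8dd6941a70))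
def c31_T : Tr := .leaf (nat_lit 0x168b3d9acb64b1d8ac360afd7abb5cadd6ab358abd5aab54a9d4aa350a7d3a9b4ca5d2a9348a3d1a8b44a1d0a83409fcfa7b3c9dcea73389bcda6b3499cca633097cba5b2c95caa532893c9a4b2491c8a43208fc7a3b1c8dc6a33188bc5a2b1489c4a231087c3a1b0c85c2a130883c1a0b0481c0a03007fbf9fafc7dbe9f2f87bbd9eaf479bc9e2f077bb9daec75ba9d2e873b99cae471b89c2e06fb79badc6db69b2d86bb59aad469b49a2d067b399acc65b2992c863b198ac461b0982c05faf97abc5dae972b85bad96ab459ac962b057ab95aac55aa952a853a994aa451a8942a04fa793a9c4da6932984ba592a9449a49229047a391a8c45a29128843a190a8441a0902803f9f8fa7c3d9e8f2783b9d8ea74399c8e270379b8da6c359a8d26833998ca6431988c2602f978ba5c2d968b2582b958aa5429948a250279389a4c259289248239188a442190882401f8f87a3c1d8e872381b8d86a34198c86230178b85a2c158a85228138984a241188842200f8783a1c0d86832180b8582a14098482210078381a0c058281208038180a04018080200)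
def c31_P : Tr := .node (.node (.node (.node (.leaf (nat_lit 0x328070c900622190b5460801030c60181a400814622d316a0040c301790b50062260a1b00012437b030db00498bf98086b8020a17c01834803030be0a61bc008145e2f2166004362f00309d0000317401826800008b800c0e4000000d2f215e00016bc404000188ad5de026008c4560b75da1d003c00020b60080083a802020b20082ac0000c5800414a000002a00105f0000f14c00826800070a40040e4000345100205600018280010170000b0d027c000856a8530000a0600b4010280e0190040a01801c01028050050040a))
  (.leaf (nat_lit 0x445a1c94e008f68350d74d0047541d2ad0a3b90004b11e72508002004a8e952080102a502d45b40087a81980000400c7400c0c01203b89fee8a00954bf17d9f893a0001a7d4f19d2000033e12624f000279ed3d40008679bc149a0044e929c624900424494e60c78010aa4871690c00009234c09848b40087d233883160043c911c39b30021e9cc5e0be80013c0a8993891f1582ba90c00099203853620044a8f91ece198e008288f2024c40000c9ba558001604dcdb2af004b06b66c1548024c477359033f4804038d3350000291d3833aa0040e8e0a715100405)))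
  (.node (.leaf (nat_lit 0x20740d80600000710580af38600830711749bb00002380b9cbc800071be7f4fe46d0d70021637cfe9fe800081bc5ca5640003cdd0a41426dc01060700eb7fe6e000010750185bc6e401010db1b57eeb848b8020b1b61402a400048db2df1b60001e6d0500a30001035826888801029907662444989512e6ac01098d408a34e0005e6984419500209348218c4802179a2108684010bcd008277c00410678401330042e3381f8cd8021719a0f864c0081ccc3de1ee0005ef743c000293d87b41e600948cbbc81e8f62000bdea8f8000527a63c8000d03d3cf1f3004a407de78f380234))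
  (.leaf (nat_lit 0x46ac1f64a008c54fe0d5210049379305609bb3652000116360256e0005eb1ab4ac300206c0a2100014afc60110b004a57feb5800291a5bfa68200932f85faad5004a49f6fd2788024658b7715a5f08002fbea6180014af91820004010d7bcc3c0129265bda44200932f5ab8000523137a4c2401262b3bcc81a0091ab6de3573004a49a6f1a6680246a5578ee44011a5e0ba400062aeeef2b48024cba177ae6c0124dddbb6afacf5ce80804b9771d5fdda0020458959eea00102ac2a6aa34000bd605315060085eaf93526d0062fb42a72952bd00823))))
  (.node (.node (.leaf (nat_lit 0xb3169000212cc140b1800139602c6000425802715d002050d0134af8001395c09827c0009cad04c13a0043c550250c70020829c120a68011294c08c4f4008206837a08a00000de44c0002a9496ec3484cc0201b196e800014520210bd002072880f89d80103b6f078000744fdb683d8023a27c505b50c68002561ad99b4001001400744f4008149e0380d20044a4e01c0171b6008304d81c04d00017268b89a100006132674410838010e93206c34c00871acb480040a25c0d08c80103b55248000b64a5a912224b00c0cd3d8735000002))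
  (.leaf (nat_lit 0x58f28c000bc10ec69478025e08b62c20c011d14bb125120091919d87861004b733145d8450d0000b606bfd82000015154552b80013a86868a240009d444364ae0040d5e866000189d7af034a009198d57787d00462786ba9d880249a81592b9a848810000959651c9450a00808a01f8a7f0042e4fcfbd3880103a7c7da9a4010b93d3eb4f20085d59e99002052787d34b00081d3b5604420005f57c3f0002955d7ca000a555aad87f80252aa1561f24012919fab066a009193ad3843d542000bea793000052a98088000d2a54b900037)))
  (.leaf (nat_lit 0x91e498000dc19c8d24f0046ed5e44ad88025b9100b8000dc90c8223d0048d20e0f0001bc83696000691ea40b4a802344204688ea138fd1c4e84001044f8d91f00080909347416000028408d11f0021c41cd14d8801111bc14c0080b8d73c71d0010650640681278c00861063fc7f2d900105227c6e870004066b84e02b22a82e368011020a6c1128f20d81b679c008650434140e0043719e1e0020520667e62c0081c8810f40a0004e80086111002253fc430878000bc5d8a0008147f19e9e9002073f442085801111f86727b400818fa4523e07cc00874fa100206004387c07f10100010))))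
  (.node (.node (.node (.leaf (nat_lit 0x4a0190c9006242440b8608031212064c3b0778010e92005c2f4008708f02c2320000647016115000002300a84e8010e11405400c528020a11205044400888880260d200410428120df002082080881b8000833764800814408100dd002076223200f8fd008231f43f4000847d01e18e004443d07b800108f65ae3a4008187a01c1be0040ac206001b1e2010463b00d02f000101cc0606e800018e403036c000086f0160d2004443680b05f000121b00581c800088d402834c0086d8bafa0040a1a40484e80103b135d400814338080ab00207))
  (.leaf (nat_lit 0x2a4a220005210151c98c0129107a8a40a00918f9d421a50048cf9e9fa23802522674fc974012335ea7f2ce008ddae53f96d004694f25f00018a25a7487a009325e53a94b004934e69bd2f88d2ea0201250c79a5d4d8008113a3e34de0040a9c9e41ef0042e4e4f1e9600001a7078a6cc010b9373c33620085e9b0c518d0062e4d0ef5038010e26677698c0081d3218230a00448989db98b0021c4c0ed52f8010f25e7566cc0081e8ebf3000214b8ec0c88021225a7529140081cb91714b20004f4482b0001ed114a40007a5be8716c80246)))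
  (.node (.leaf (nat_lit 0x1ee6567a40000cf53233ce000027998fae6382008267918e935000103c0c6cef803111dc62e6c400814ed0d00ae5bc0087ced37d296000067618a9c7002063ac330678010d9d461a62c0000ce92fd38e00c447417d9af0000274b0c801028e742c3947340087ce72f92b600006dce17002051cc5ee4ec0000ce50b81760002f0a4610001880f84e30e008c465c2518900492f41f0423390c2a00011f0b2d842724010120d32800031830d30000de0b8e2000341e105074c01260ee82839e0090c0dc141c70046838609af4802318026de081c280202))
  (.leaf (nat_lit 0x3fe003fe003fe003ff91f2200030953c8591600987202cf000610978f8a9c0130a96c78dc6008e8a8e3b9bf004b050f1ca03802619a58dc88401264cac6a80200932d56358c70047569b19a9480246544a87182cc80006c598bad880000dafb3d8a8000016859d59a0004eb42cda9b00225c4c250000dc4be2511f004746af1188d80240a3d884d440124aadc3ea020091adbaafc38b2a0008b0de19baf6e002011655715920085eb22b7ac100205c28420000d0fde1322100498a3f0820680246))))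
  (.node (.node (.leaf (nat_lit 0x798cd0000c47dbca1e900498cc9e532f80249792f1cc630c66101008cad9098d78c004086583b3be002053281d04f800179920e8274010b8c739c2ca00848630340750062f31019888801121840c85ec00820bf0610000a2f417834801121760b85d40009dd78720004c75eeb400124382dd754eb20002039175000212e81684f801049720b057400820b70561a60043c5b02a15b002070c4e78b28000139b0a4000b0e6d6d0002ab9b60e0009259dcb3068024c72ee3c000f4352dd728e4200015c938b70e000025802896900027))
  (.leaf (nat_lit 0x2ba57a00042aea95a9b00222568adc000855a5295620040aaca93a670021c56149535801115c22e00007a966e0974802495536f92f40123522b7b6ca008ea91aafb74aaa00096dadadb7000400aba90a83002055589712f8010e2aaa36a9400815545184b60043ca9a77aa10002754d3b53580112aa49d6a0c00896d4cd00003ab4d68d1a23780403b488b91880203cc954600414a8a670000529e8d6a74018894d4674d60040aa62cb59852a0043ea62322070021e4007fd4980013a928c2814018954845f51a0040ca3a2d9fd0021b)))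
  (.leaf (nat_lit 0x8e1c0a3700200468dfd1680103c43466004148c0a01430040845cda51680001a2a6ca79c0005d154728ec0002a4f09ba2900027450d8caf80312c493bcd711380411a2444e00042891ae9dd002229684b0000de584990003492d2bc7fc011a4ad3ec0006f26e55c578023793d2a4814012321d9527de008de4e4a98a90046887110ca63f100849166494a20020243c884000851035b42a0040c879aca0f002054384b895a170041d4392624d8000821a92c8590c8010ea1a2584bc008710b12a25a000210e8e948442a01046852439ed00624))))
def c31_N_0 : Tr := .node (.node (.node (.node (.leaf (nat_lit 144525))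
  (.leaf (nat_lit 198)))
  (.node (.leaf (nat_lit 7621220582))
  (.leaf (nat_lit 561))))
  (.node (.node (.leaf (nat_lit 100450))
  (.leaf (nat_lit 11275)))
  (.leaf (nat_lit 33))))
  (.node (.node (.node (.leaf (nat_lit 567817))
  (.leaf (nat_lit 329)))
  (.leaf (nat_lit 45100)))
  (.node (.node (.leaf (nat_lit 2298052))
  (.leaf (nat_lit 462)))
  (.leaf (nat_lit 3075))))
def c31_N_1 : Tr := .node (.node (.node (.node (.leaf (nat_lit 1455501))
  (.leaf (nat_lit 8199)))
  (.node (.leaf (nat_lit 206953))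
  (.leaf (nat_lit 594))))
  (.node (.node (.leaf (nat_lit 1182851))
  (.leaf (nat_lit 429)))
  (.leaf (nat_lit 66))))
  (.node (.node (.node (.leaf (nat_lit 99425))
  (.leaf (nat_lit 298)))
  (.leaf (nat_lit 176300)))
  (.node (.node (.leaf (nat_lit 106567))
  (.leaf (nat_lit 15375)))
  (.leaf (nat_lit 165))))
def c31_N_2 : Tr := .node (.node (.node (.node (.leaf (nat_lit 210125))
  (.leaf (nat_lit 263)))
  (.node (.leaf (nat_lit 75817))
  (.leaf (nat_lit 17425))))
  (.node (.node (.leaf (nat_lit 198850))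
  (.leaf (nat_lit 396)))
  (.leaf (nat_lit 1025))))
  (.node (.node (.node (.leaf (nat_lit 15821))
  (.leaf (nat_lit 10249)))
  (.leaf (nat_lit 110700)))
  (.node (.node (.leaf (nat_lit 7399))
  (.leaf (nat_lit 495)))
  (.leaf (nat_lit 132))))
def c31_N_3 : Tr := .node (.node (.node (.node (.leaf (nat_lit 501162))
  (.leaf (nat_lit 232)))
  (.node (.leaf (nat_lit 36612286665))
  (.leaf (nat_lit 0))))
  (.node (.node (.leaf (nat_lit 68357315))
  (.leaf (nat_lit 13325)))
  (.leaf (nat_lit 99))))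
  (.node (.node (.node (.leaf (nat_lit 165025))
  (.leaf (nat_lit 363)))
  (.leaf (nat_lit 274668)))
  (.node (.node (.leaf (nat_lit 172167))
  (.leaf (nat_lit 528)))
  (.leaf (nat_lit 5125))))
def c31_N_4 : Tr := .node (.node (.node (.node (.leaf (nat_lit 177325))
  (.leaf (nat_lit 6150)))
  (.node (.leaf (nat_lit 9513))
  (.leaf (nat_lit 561))))
  (.node (.node (.leaf (nat_lit 133250))
  (.leaf (nat_lit 396)))
  (.leaf (nat_lit 33))))
  (.node (.node (.node (.leaf (nat_lit 599562))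
  (.leaf (nat_lit 329)))
  (.leaf (nat_lit 77900)))
  (.node (.node (.leaf (nat_lit 36612281541))
  (.leaf (nat_lit 14350)))
  (.leaf (nat_lit 132))))
def c31_N_5 : Tr := .node (.node (.node (.node (.leaf (nat_lit 469417))
  (.leaf (nat_lit 232)))
  (.node (.leaf (nat_lit 141449))
  (.leaf (nat_lit 18450))))
  (.node (.node (.leaf (nat_lit 167075))
  (.leaf (nat_lit 429)))
  (.leaf (nat_lit 2050))))
  (.node (.node (.node (.leaf (nat_lit 132225))
  (.leaf (nat_lit 9226)))
  (.leaf (nat_lit 209100)))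
  (.node (.node (.leaf (nat_lit 2203751))
  (.leaf (nat_lit 528)))
  (.leaf (nat_lit 165))))
def c31_N_6 : Tr := .node (.node (.node (.node (.leaf (nat_lit 242957))
  (.leaf (nat_lit 263)))
  (.node (.leaf (nat_lit 1124425))
  (.leaf (nat_lit 594))))
  (.node (.node (.leaf (nat_lit 1214626))
  (.leaf (nat_lit 12300)))
  (.leaf (nat_lit 66))))
  (.node (.node (.node (.leaf (nat_lit 66625))
  (.leaf (nat_lit 298)))
  (.leaf (nat_lit 143500)))
  (.node (.node (.leaf (nat_lit 40999))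
  (.leaf (nat_lit 495)))
  (.leaf (nat_lit 4100))))
def c31_N_7 : Tr := .node (.node (.node (.node (.leaf (nat_lit 532935))
  (.leaf (nat_lit 7176)))
  (.node (.leaf (nat_lit 300325))
  (.leaf (nat_lit 0))))
  (.node (.node (.leaf (nat_lit 168100))
  (.leaf (nat_lit 462)))
  (.leaf (nat_lit 99))))
  (.node (.node (.node (.leaf (nat_lit 197825))
  (.leaf (nat_lit 363)))
  (.leaf (nat_lit 340268)))
  (.node (.node (.leaf (nat_lit 4366503))
  (.leaf (nat_lit 16400)))
  (.leaf (nat_lit 198))))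
def c31_N : Tr := .node (.node (.node c31_N_0
  c31_N_1)
  (.node c31_N_2
  c31_N_3))
  (.node (.node c31_N_4
  c31_N_5)
  (.node c31_N_6
  c31_N_7))
noncomputable def c31 : TC :=
  ⟨[.l 0, .l 1, .l 2, .l 3, .l 4, .l 5, .l 6, .l 7, .l 8, .l 9, .l 10, .l 11, .l 12, .l 13, .l 14, .l 15, .l 16, .l 17, .l 18],
    (nat_lit 9), (nat_lit 11), (nat_lit 0x4a307b9ac5a547418a418820), (nat_lit 1), (nat_lit 361), (nat_lit 0), (nat_lit 32), (nat_lit 14), (nat_lit 104),
    get (nat_lit 10) (nat_lit 0x1003010030080400c02010030080400c02010030080400c02010030080400c02010030080400c02010030080400c02010030080400c02010030080400c02010030080400c020100401004010040100401008010040140400c0701404014040100302005010060100501404010040100401004010030100401004010050100401004), Tr.get c31_N, get (nat_lit 20) (nat_lit 0x3ff003ff003ff003ff003ff003ff003ff003ff003ff003ff003ff003ff003ff003ff003ff003ff003ff003ff003ff003ff003ff003ff003ff003ff003ff003ff003ff003ff003ff003ff003ff003ff003ff003ff003ff003ff003ff003ff003ff003ff003ff003ff003ff003ff003ff003ff003ff003ff003ff003ff003ff003ff003ff003ff003ff003ff0002f0002e0002d0002c0002b0002a000290002800027000260002500024000230002200021000200001f0001e0001d0001c0001b0001a000190001800017000160001500014000130001200011000100000f0000e0000d0000c0000b0000a00009000080000700006000050000400003000020000100000),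
    Tr.get3 c31_F (nat_lit 28) (nat_lit 5), Tr.get3 c31_T (nat_lit 9) (nat_lit 6), Tr.get c31_P⟩

theorem c31_head : c31.headOK rT ivA = true := by decide +kernel

theorem c31_b0 : allFrom (nat_lit 0) (nat_lit 14) c31.blockOK = true := by decide +kernel

theorem c31_blocks : ∀ t < c31.k, c31.blockOK t = true :=
  (of_allFrom_append of_lt_zero c31_b0)

theorem c31_mem0 {G : Type*} [Group G] {γ : ℕ → G} (hL : Lab γ ivA) (hr : ∀ t ∈ rT, t.ev γ = 1) {K : Subgroup G}
    (hK : ∀ t ∈ ([] : List W), t.ev γ ∈ K) :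
    W.ev γ (.mul (.mul (.mul (.l 1) (.l 13)) (.l 1)) (.l 13)) ∈ K :=
  TC.mem (D := c31) hL (List.forall_mem_cons.2 ⟨hL.zero_mem K, hK⟩) hr c31_head c31_blocks
    (n := (nat_lit 4)) (w := (nat_lit 427425)) (st := (nat_lit 63292055554)) (by decide +kernel) (by decide +kernel)

theorem c31_mem1 {G : Type*} [Group G] {γ : ℕ → G} (hL : Lab γ ivA) (hr : ∀ t ∈ rT, t.ev γ = 1) {K : Subgroup G}
    (hK : ∀ t ∈ ([] : List W), t.ev γ ∈ K) :
    W.ev γ (.mul (.mul (.mul (.l 1) (.l 14)) (.l 1)) (.l 14)) ∈ K :=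
  TC.mem (D := c31) hL (List.forall_mem_cons.2 ⟨hL.zero_mem K, hK⟩) hr c31_head c31_blocks
    (n := (nat_lit 4)) (w := (nat_lit 460225)) (st := (nat_lit 116144492546)) (by decide +kernel) (by decide +kernel)

theorem c31_mem2 {G : Type*} [Group G] {γ : ℕ → G} (hL : Lab γ ivA) (hr : ∀ t ∈ rT, t.ev γ = 1) {K : Subgroup G}
    (hK : ∀ t ∈ ([] : List W), t.ev γ ∈ K) :
    W.ev γ (.mul (.mul (.mul (.l 1) (.l 16)) (.l 1)) (.l 16)) ∈ K :=
  TC.mem (D := c31) hL (List.forall_mem_cons.2 ⟨hL.zero_mem K, hK⟩) hr c31_head c31_blocks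
    (n := (nat_lit 4)) (w := (nat_lit 525825)) (st := (nat_lit 169101787138)) (by decide +kernel) (by decide +kernel)

theorem c31_mem3 {G : Type*} [Group G] {γ : ℕ → G} (hL : Lab γ ivA) (hr : ∀ t ∈ rT, t.ev γ = 1) {K : Subgroup G}
    (hK : ∀ t ∈ ([] : List W), t.ev γ ∈ K) :
    W.ev γ (.mul (.mul (.mul (.l 2) (.l 13)) (.l 2)) (.l 13)) ∈ K :=
  TC.mem (D := c31) hL (List.forall_mem_cons.2 ⟨hL.zero_mem K, hK⟩) hr c31_head c31_blocks
    (n := (nat_lit 4)) (w := (nat_lit 428450)) (st := (nat_lit 64546193430)) (by decide +kernel) (by decide +kernel)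

theorem c31_mem4 {G : Type*} [Group G] {γ : ℕ → G} (hL : Lab γ ivA) (hr : ∀ t ∈ rT, t.ev γ = 1) {K : Subgroup G}
    (hK : ∀ t ∈ ([] : List W), t.ev γ ∈ K) :
    W.ev γ (.mul (.mul (.mul (.l 2) (.l 14)) (.l 2)) (.l 14)) ∈ K :=
  TC.mem (D := c31) hL (List.forall_mem_cons.2 ⟨hL.zero_mem K, hK⟩) hr c31_head c31_blocks
    (n := (nat_lit 4)) (w := (nat_lit 461250)) (st := (nat_lit 115792207894)) (by decide +kernel) (by decide +kernel)

theorem c31_mem5 {G : Type*} [Group G] {γ : ℕ → G} (hL : Lab γ ivA) (hr : ∀ t ∈ rT, t.ev γ = 1) {K : Subgroup G}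
    (hK : ∀ t ∈ ([] : List W), t.ev γ ∈ K) :
    W.ev γ (.mul (.mul (.mul (.l 2) (.l 16)) (.l 2)) (.l 16)) ∈ K :=
  TC.mem (D := c31) hL (List.forall_mem_cons.2 ⟨hL.zero_mem K, hK⟩) hr c31_head c31_blocks
    (n := (nat_lit 4)) (w := (nat_lit 526850)) (st := (nat_lit 168929853462)) (by decide +kernel) (by decide +kernel)

theorem c31_mem6 {G : Type*} [Group G] {γ : ℕ → G} (hL : Lab γ ivA) (hr : ∀ t ∈ rT, t.ev γ = 1) {K : Subgroup G}
    (hK : ∀ t ∈ ([] : List W), t.ev γ ∈ K) :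
    W.ev γ (.mul (.mul (.mul (.l 2) (.l 17)) (.l 2)) (.l 17)) ∈ K :=
  TC.mem (D := c31) hL (List.forall_mem_cons.2 ⟨hL.zero_mem K, hK⟩) hr c31_head c31_blocks
    (n := (nat_lit 4)) (w := (nat_lit 559650)) (st := (nat_lit 341546442774)) (by decide +kernel) (by decide +kernel)

theorem c31_mem7 {G : Type*} [Group G] {γ : ℕ → G} (hL : Lab γ ivA) (hr : ∀ t ∈ rT, t.ev γ = 1) {K : Subgroup G}
    (hK : ∀ t ∈ ([] : List W), t.ev γ ∈ K) :
    W.ev γ (.mul (.mul (.mul (.l 3) (.l 13)) (.l 3)) (.l 13)) ∈ K :=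
  TC.mem (D := c31) hL (List.forall_mem_cons.2 ⟨hL.zero_mem K, hK⟩) hr c31_head c31_blocks
    (n := (nat_lit 4)) (w := (nat_lit 429475)) (st := (nat_lit 65003413546)) (by decide +kernel) (by decide +kernel)

theorem c31_mem8 {G : Type*} [Group G] {γ : ℕ → G} (hL : Lab γ ivA) (hr : ∀ t ∈ rT, t.ev γ = 1) {K : Subgroup G}
    (hK : ∀ t ∈ ([] : List W), t.ev γ ∈ K) :
    W.ev γ (.mul (.mul (.mul (.l 3) (.l 14)) (.l 3)) (.l 14)) ∈ K :=
  TC.mem (D := c31) hL (List.forall_mem_cons.2 ⟨hL.zero_mem K, hK⟩) hr c31_head c31_blocks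
    (n := (nat_lit 4)) (w := (nat_lit 462275)) (st := (nat_lit 116572389418)) (by decide +kernel) (by decide +kernel)

theorem c31_mem9 {G : Type*} [Group G] {γ : ℕ → G} (hL : Lab γ ivA) (hr : ∀ t ∈ rT, t.ev γ = 1) {K : Subgroup G}
    (hK : ∀ t ∈ ([] : List W), t.ev γ ∈ K) :
    W.ev γ (.mul (.mul (.mul (.l 3) (.l 16)) (.l 3)) (.l 16)) ∈ K :=
  TC.mem (D := c31) hL (List.forall_mem_cons.2 ⟨hL.zero_mem K, hK⟩) hr c31_head c31_blocks
    (n := (nat_lit 4)) (w := (nat_lit 527875)) (st := (nat_lit 168925700138)) (by decide +kernel) (by decide +kernel)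

theorem c31_mem10 {G : Type*} [Group G] {γ : ℕ → G} (hL : Lab γ ivA) (hr : ∀ t ∈ rT, t.ev γ = 1) {K : Subgroup G}
    (hK : ∀ t ∈ ([] : List W), t.ev γ ∈ K) :
    W.ev γ (.mul (.mul (.mul (.l 4) (.l 14)) (.l 4)) (.l 14)) ∈ K :=
  TC.mem (D := c31) hL (List.forall_mem_cons.2 ⟨hL.zero_mem K, hK⟩) hr c31_head c31_blocks
    (n := (nat_lit 4)) (w := (nat_lit 463300)) (st := (nat_lit 115360256056)) (by decide +kernel) (by decide +kernel)

theorem c31_mem11 {G : Type*} [Group G] {γ : ℕ → G} (hL : Lab γ ivA) (hr : ∀ t ∈ rT, t.ev γ = 1) {K : Subgroup G}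
    (hK : ∀ t ∈ ([] : List W), t.ev γ ∈ K) :
    W.ev γ (.mul (.mul (.mul (.mul (.l 4) (.l 16)) (.l 4)) (.l 16)) (.l 13)) ∈ K :=
  TC.mem (D := c31) hL (List.forall_mem_cons.2 ⟨hL.zero_mem K, hK⟩) hr c31_head c31_blocks
    (n := (nat_lit 5)) (w := (nat_lit 14160388)) (st := (nat_lit 135386227667000)) (by decide +kernel) (by decide +kernel)

theorem c31_mem12 {G : Type*} [Group G] {γ : ℕ → G} (hL : Lab γ ivA) (hr : ∀ t ∈ rT, t.ev γ = 1) {K : Subgroup G}
    (hK : ∀ t ∈ ([] : List W), t.ev γ ∈ K) :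
    W.ev γ (.mul (.mul (.mul (.mul (.l 4) (.l 17)) (.l 4)) (.l 17)) (.l 14)) ∈ K :=
  TC.mem (D := c31) hL (List.forall_mem_cons.2 ⟨hL.zero_mem K, hK⟩) hr c31_head c31_blocks
    (n := (nat_lit 5)) (w := (nat_lit 15241764)) (st := (nat_lit 242511335534648)) (by decide +kernel) (by decide +kernel)

theorem c31_mem13 {G : Type*} [Group G] {γ : ℕ → G} (hL : Lab γ ivA) (hr : ∀ t ∈ rT, t.ev γ = 1) {K : Subgroup G}
    (hK : ∀ t ∈ ([] : List W), t.ev γ ∈ K) :
    W.ev γ (.mul (.mul (.mul (.mul (.l 5) (.l 14)) (.l 5)) (.l 14)) (.l 13)) ∈ K :=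
  TC.mem (D := c31) hL (List.forall_mem_cons.2 ⟨hL.zero_mem K, hK⟩) hr c31_head c31_blocks
    (n := (nat_lit 5)) (w := (nat_lit 14095813)) (st := (nat_lit 131117097316428)) (by decide +kernel) (by decide +kernel)

theorem c31_mem14 {G : Type*} [Group G] {γ : ℕ → G} (hL : Lab γ ivA) (hr : ∀ t ∈ rT, t.ev γ = 1) {K : Subgroup G}
    (hK : ∀ t ∈ ([] : List W), t.ev γ ∈ K) :
    W.ev γ (.mul (.mul (.mul (.l 5) (.l 16)) (.l 5)) (.l 16)) ∈ K :=
  TC.mem (D := c31) hL (List.forall_mem_cons.2 ⟨hL.zero_mem K, hK⟩) hr c31_head c31_blocks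
    (n := (nat_lit 4)) (w := (nat_lit 529925)) (st := (nat_lit 168669913164)) (by decide +kernel) (by decide +kernel)

theorem c31_mem15 {G : Type*} [Group G] {γ : ℕ → G} (hL : Lab γ ivA) (hr : ∀ t ∈ rT, t.ev γ = 1) {K : Subgroup G}
    (hK : ∀ t ∈ ([] : List W), t.ev γ ∈ K) :
    W.ev γ (.mul (.mul (.mul (.l 5) (.l 17)) (.l 5)) (.l 18)) ∈ K :=
  TC.mem (D := c31) hL (List.forall_mem_cons.2 ⟨hL.zero_mem K, hK⟩) hr c31_head c31_blocks
    (n := (nat_lit 4)) (w := (nat_lit 595493)) (st := (nat_lit 787879215180)) (by decide +kernel) (by decide +kernel)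

theorem c31_mem16 {G : Type*} [Group G] {γ : ℕ → G} (hL : Lab γ ivA) (hr : ∀ t ∈ rT, t.ev γ = 1) {K : Subgroup G}
    (hK : ∀ t ∈ ([] : List W), t.ev γ ∈ K) :
    W.ev γ (.mul (.mul (.mul (.l 6) (.l 14)) (.l 6)) (.l 14)) ∈ K :=
  TC.mem (D := c31) hL (List.forall_mem_cons.2 ⟨hL.zero_mem K, hK⟩) hr c31_head c31_blocks
    (n := (nat_lit 4)) (w := (nat_lit 465350)) (st := (nat_lit 117059027038)) (by decide +kernel) (by decide +kernel)

theorem c31_mem17 {G : Type*} [Group G] {γ : ℕ → G} (hL : Lab γ ivA) (hr : ∀ t ∈ rT, t.ev γ = 1) {K : Subgroup G}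
    (hK : ∀ t ∈ ([] : List W), t.ev γ ∈ K) :
    W.ev γ (.mul (.mul (.mul (.l 6) (.l 17)) (.l 6)) (.l 17)) ∈ K :=
  TC.mem (D := c31) hL (List.forall_mem_cons.2 ⟨hL.zero_mem K, hK⟩) hr c31_head c31_blocks
    (n := (nat_lit 4)) (w := (nat_lit 563750)) (st := (nat_lit 341412356190)) (by decide +kernel) (by decide +kernel)

theorem c31_mem18 {G : Type*} [Group G] {γ : ℕ → G} (hL : Lab γ ivA) (hr : ∀ t ∈ rT, t.ev γ = 1) {K : Subgroup G}
    (hK : ∀ t ∈ ([] : List W), t.ev γ ∈ K) :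
    W.ev γ (.mul (.mul (.mul (.mul (.l 9) (.l 14)) (.inv (.l 9))) (.l 14)) (.l 13)) ∈ K :=
  TC.mem (D := c31) hL (List.forall_mem_cons.2 ⟨hL.zero_mem K, hK⟩) hr c31_head c31_blocks
    (n := (nat_lit 5)) (w := (nat_lit 14100937)) (st := (nat_lit 123861517684840)) (by decide +kernel) (by decide +kernel)

theorem c31_mem19 {G : Type*} [Group G] {γ : ℕ → G} (hL : Lab γ ivA) (hr : ∀ t ∈ rT, t.ev γ = 1) {K : Subgroup G}
    (hK : ∀ t ∈ ([] : List W), t.ev γ ∈ K) :
    W.ev γ (.mul (.mul (.mul (.l 9) (.l 17)) (.inv (.l 9))) (.l 18)) ∈ K :=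
  TC.mem (D := c31) hL (List.forall_mem_cons.2 ⟨hL.zero_mem K, hK⟩) hr c31_head c31_blocks
    (n := (nat_lit 4)) (w := (nat_lit 600617)) (st := (nat_lit 785652088936)) (by decide +kernel) (by decide +kernel)

theorem c31_mem20 {G : Type*} [Group G] {γ : ℕ → G} (hL : Lab γ ivA) (hr : ∀ t ∈ rT, t.ev γ = 1) {K : Subgroup G}
    (hK : ∀ t ∈ ([] : List W), t.ev γ ∈ K) :
    W.ev γ (.mul (.mul (.mul (.mul (.l 12) (.l 14)) (.l 12)) (.l 2)) (.l 14)) ∈ K :=
  TC.mem (D := c31) hL (List.forall_mem_cons.2 ⟨hL.zero_mem K, hK⟩) hr c31_head c31_blocks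
    (n := (nat_lit 5)) (w := (nat_lit 14758348)) (st := (nat_lit 237146481078388)) (by decide +kernel) (by decide +kernel)

theorem c31_mem21 {G : Type*} [Group G] {γ : ℕ → G} (hL : Lab γ ivA) (hr : ∀ t ∈ rT, t.ev γ = 1) {K : Subgroup G}
    (hK : ∀ t ∈ ([] : List W), t.ev γ ∈ K) :
    W.ev γ (.mul (.mul (.mul (.mul (.l 12) (.l 16)) (.l 12)) (.l 3)) (.l 16)) ∈ K :=
  TC.mem (D := c31) hL (List.forall_mem_cons.2 ⟨hL.zero_mem K, hK⟩) hr c31_head c31_blocks
    (n := (nat_lit 5)) (w := (nat_lit 16888332)) (st := (nat_lit 345965399892084)) (by decide +kernel) (by decide +kernel)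

theorem c31_mem22 {G : Type*} [Group G] {γ : ℕ → G} (hL : Lab γ ivA) (hr : ∀ t ∈ rT, t.ev γ = 1) {K : Subgroup G}
    (hK : ∀ t ∈ ([] : List W), t.ev γ ∈ K) :
    W.ev γ (.mul (.mul (.mul (.mul (.l 12) (.l 17)) (.l 12)) (.l 6)) (.l 17)) ∈ K :=
  TC.mem (D := c31) hL (List.forall_mem_cons.2 ⟨hL.zero_mem K, hK⟩) hr c31_head c31_blocks
    (n := (nat_lit 5)) (w := (nat_lit 18035244)) (st := (nat_lit 699218557931636)) (by decide +kernel) (by decide +kernel)

theorem c31_mem23 {G : Type*} [Group G] {γ : ℕ → G} (hL : Lab γ ivA) (hr : ∀ t ∈ rT, t.ev γ = 1) {K : Subgroup G}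
    (hK : ∀ t ∈ ([] : List W), t.ev γ ∈ K) :
    W.ev γ (.mul (.mul (.mul (.mul (.mul (.mul (.mul (.mul (.l 12) (.l 18)) (.l 12)) (.l 6)) (.l 4)) (.l 3)) (.l 2)) (.l 1)) (.l 18)) ∈ K :=
  TC.mem (D := c31) hL (List.forall_mem_cons.2 ⟨hL.zero_mem K, hK⟩) hr c31_head c31_blocks
    (n := (nat_lit 9)) (w := (nat_lit 19827821589068)) (st := (nat_lit 0x5b12224f1408e11822844074)) (by decide +kernel) (by decide +kernel)

theorem c31_mem24 {G : Type*} [Group G] {γ : ℕ → G} (hL : Lab γ ivA) (hr : ∀ t ∈ rT, t.ev γ = 1) {K : Subgroup G}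
    (hK : ∀ t ∈ ([] : List W), t.ev γ ∈ K) :
    W.ev γ (.mul (.mul (.mul (.l 13) (.l 14)) (.l 13)) (.l 14)) ∈ K :=
  TC.mem (D := c31) hL (List.forall_mem_cons.2 ⟨hL.zero_mem K, hK⟩) hr c31_head c31_blocks
    (n := (nat_lit 4)) (w := (nat_lit 472525)) (st := (nat_lit 114735353862)) (by decide +kernel) (by decide +kernel)

theorem c31_mem25 {G : Type*} [Group G] {γ : ℕ → G} (hL : Lab γ ivA) (hr : ∀ t ∈ rT, t.ev γ = 1) {K : Subgroup G}
    (hK : ∀ t ∈ ([] : List W), t.ev γ ∈ K) :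
    W.ev γ (.mul (.mul (.mul (.l 13) (.l 16)) (.l 13)) (.l 16)) ∈ K :=
  TC.mem (D := c31) hL (List.forall_mem_cons.2 ⟨hL.zero_mem K, hK⟩) hr c31_head c31_blocks
    (n := (nat_lit 4)) (w := (nat_lit 538125)) (st := (nat_lit 166941822982)) (by decide +kernel) (by decide +kernel)

theorem c31_mem26 {G : Type*} [Group G] {γ : ℕ → G} (hL : Lab γ ivA) (hr : ∀ t ∈ rT, t.ev γ = 1) {K : Subgroup G}
    (hK : ∀ t ∈ ([] : List W), t.ev γ ∈ K) :
    W.ev γ (.mul (.mul (.mul (.l 14) (.l 17)) (.l 14)) (.l 17)) ∈ K :=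
  TC.mem (D := c31) hL (List.forall_mem_cons.2 ⟨hL.zero_mem K, hK⟩) hr c31_head c31_blocks
    (n := (nat_lit 4)) (w := (nat_lit 571950)) (st := (nat_lit 340237897740)) (by decide +kernel) (by decide +kernel)

def c31_loops : List W := [.mul (.mul (.mul (.l 1) (.l 13)) (.l 1)) (.l 13), .mul (.mul (.mul (.l 1) (.l 14)) (.l 1)) (.l 14), .mul (.mul (.mul (.l 1) (.l 16)) (.l 1)) (.l 16), .mul (.mul (.mul (.l 2) (.l 13)) (.l 2)) (.l 13), .mul (.mul (.mul (.l 2) (.l 14)) (.l 2)) (.l 14), .mul (.mul (.mul (.l 2) (.l 16)) (.l 2)) (.l 16), .mul (.mul (.mul (.l 2) (.l 17)) (.l 2)) (.l 17), .mul (.mul (.mul (.l 3) (.l 13)) (.l 3)) (.l 13), .mul (.mul (.mul (.l 3) (.l 14)) (.l 3)) (.l 14), .mul (.mul (.mul (.l 3) (.l 16)) (.l 3)) (.l 16), .mul (.mul (.mul (.l 4) (.l 14)) (.l 4)) (.l 14), .mul (.mul (.mul (.mul (.l 4) (.l 16)) (.l 4)) (.l 16)) (.l 13), .mul (.mul (.mul (.mul (.l 4) (.l 17)) (.l 4)) (.l 17)) (.l 14), .mul (.mul (.mul (.mul (.l 5) (.l 14)) (.l 5))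 (.l 14)) (.l 13), .mul (.mul (.mul (.l 5) (.l 16)) (.l 5)) (.l 16), .mul (.mul (.mul (.l 5) (.l 17)) (.l 5)) (.l 18), .mul (.mul (.mul (.l 6) (.l 14)) (.l 6)) (.l 14), .mul (.mul (.mul (.l 6) (.l 17)) (.l 6)) (.l 17), .mul (.mul (.mul (.mul (.l 9) (.l 14)) (.inv (.l 9))) (.l 14)) (.l 13), .mul (.mul (.mul (.l 9) (.l 17)) (.inv (.l 9))) (.l 18), .mul (.mul (.mul (.mul (.l 12) (.l 14)) (.l 12)) (.l 2)) (.l 14), .mul (.mul (.mul (.mul (.l 12) (.l 16)) (.l 12)) (.l 3)) (.l 16), .mul (.mul (.mul (.mul (.l 12) (.l 17)) (.l 12)) (.l 6)) (.l 17), .mul (.mul (.mul (.mul (.mul (.mul (.mul (.mul (.l 12) (.l 18)) (.l 12)) (.l 6)) (.l 4)) (.l 3)) (.l 2)) (.l 1)) (.l 18), .mul (.mul (.mul (.l 13) (.l 14)) (.l 13)) (.l 14), .mul (.mul (.mul (.l 13) (.l 16)) (.l 13)) (.l 16), .mul (.mul (.mul (.l 14) (.l 17)) (.l 14)) (.l 17)]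

theorem c31_mems {G : Type*} [Group G] {γ : ℕ → G} (hL : Lab γ ivA) (hr : ∀ t ∈ rT, t.ev γ = 1) {K : Subgroup G}
    (hK : ∀ t ∈ ([] : List W), t.ev γ ∈ K) :
    ∀ t ∈ c31_loops, t.ev γ ∈ K :=
  List.forall_mem_cons.2 ⟨c31_mem0 hL hr hK,
    List.forall_mem_cons.2 ⟨c31_mem1 hL hr hK,
    List.forall_mem_cons.2 ⟨c31_mem2 hL hr hK,
    List.forall_mem_cons.2 ⟨c31_mem3 hL hr hK,
    List.forall_mem_cons.2 ⟨c31_mem4 hL hr hK,
    List.forall_mem_cons.2 ⟨c31_mem5 hL hr hK,
    List.forall_mem_cons.2 ⟨c31_mem6 hL hr hK,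
    List.forall_mem_cons.2 ⟨c31_mem7 hL hr hK,
    List.forall_mem_cons.2 ⟨c31_mem8 hL hr hK,
    List.forall_mem_cons.2 ⟨c31_mem9 hL hr hK,
    List.forall_mem_cons.2 ⟨c31_mem10 hL hr hK,
    List.forall_mem_cons.2 ⟨c31_mem11 hL hr hK,
    List.forall_mem_cons.2 ⟨c31_mem12 hL hr hK,
    List.forall_mem_cons.2 ⟨c31_mem13 hL hr hK,
    List.forall_mem_cons.2 ⟨c31_mem14 hL hr hK,
    List.forall_mem_cons.2 ⟨c31_mem15 hL hr hK,
    List.forall_mem_cons.2 ⟨c31_mem16 hL hr hK,
    List.forall_mem_cons.2 ⟨c31_mem17 hL hr hK,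
    List.forall_mem_cons.2 ⟨c31_mem18 hL hr hK,
    List.forall_mem_cons.2 ⟨c31_mem19 hL hr hK,
    List.forall_mem_cons.2 ⟨c31_mem20 hL hr hK,
    List.forall_mem_cons.2 ⟨c31_mem21 hL hr hK,
    List.forall_mem_cons.2 ⟨c31_mem22 hL hr hK,
    List.forall_mem_cons.2 ⟨c31_mem23 hL hr hK,
    List.forall_mem_cons.2 ⟨c31_mem24 hL hr hK,
    List.forall_mem_cons.2 ⟨c31_mem25 hL hr hK,
    List.forall_mem_cons.2 ⟨c31_mem26 hL hr hK,
    fun _ h => absurd h List.not_mem_nil⟩⟩⟩⟩⟩⟩⟩⟩⟩⟩⟩⟩⟩⟩⟩⟩⟩⟩⟩⟩⟩⟩⟩⟩⟩⟩⟩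

def rn32 : List W := [.mul (.mul (.mul (.l 1) (.l 13)) (.l 1)) (.l 13), .mul (.mul (.mul (.l 1) (.l 14)) (.l 1)) (.l 14), .mul (.mul (.mul (.l 1) (.l 16)) (.l 1)) (.l 16), .mul (.mul (.mul (.l 2) (.l 13)) (.l 2)) (.l 13), .mul (.mul (.mul (.l 2) (.l 14)) (.l 2)) (.l 14), .mul (.mul (.mul (.l 2) (.l 16)) (.l 2)) (.l 16), .mul (.mul (.mul (.l 2) (.l 17)) (.l 2)) (.l 17), .mul (.mul (.mul (.l 3) (.l 13)) (.l 3)) (.l 13), .mul (.mul (.mul (.l 3) (.l 14)) (.l 3)) (.l 14), .mul (.mul (.mul (.l 3) (.l 16)) (.l 3)) (.l 16), .mul (.mul (.mul (.l 4) (.l 14)) (.l 4)) (.l 14), .mul (.mul (.mul (.mul (.l 4) (.l 16)) (.l 4)) (.l 16)) (.l 13), .mul (.mul (.mul (.mul (.l 4) (.l 17)) (.l 4)) (.l 17)) (.l 14), .mul (.mul (.mul (.mul (.l 5) (.l 14)) (.l 5)) (.l 14)) (.l 13), .mul (.mul (.mul (.l 5) (.l 16)) (.l 5)) (.l 16), .mul (.mul (.mul (.l 5) (.l 17)) (.l 5)) (.l 18), .mul (.mul (.mul (.l 6) (.l 14)) (.l 6)) (.l 14), .mul (.mul (.mul (.l 6) (.l 17)) (.l 6)) (.l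 17), .mul (.mul (.mul (.mul (.l 9) (.l 14)) (.inv (.l 9))) (.l 14)) (.l 13), .mul (.mul (.mul (.l 9) (.l 17)) (.inv (.l 9))) (.l 18), .mul (.mul (.mul (.mul (.l 12) (.l 14)) (.l 12)) (.l 2)) (.l 14), .mul (.mul (.mul (.mul (.l 12) (.l 16)) (.l 12)) (.l 3)) (.l 16), .mul (.mul (.mul (.mul (.l 12) (.l 17)) (.l 12)) (.l 6)) (.l 17), .mul (.mul (.mul (.mul (.mul (.mul (.mul (.mul (.l 12) (.l 18)) (.l 12)) (.l 6)) (.l 4)) (.l 3)) (.l 2)) (.l 1)) (.l 18), .mul (.mul (.mul (.l 13) (.l 14)) (.l 13)) (.l 14), .mul (.mul (.mul (.l 13) (.l 16)) (.l 13)) (.l 16), .mul (.mul (.mul (.l 14) (.l 17)) (.l 14)) (.l 17)] ++ rT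

def c33_F : Tr := .leaf (nat_lit 0x86108020020060600d02a1542ae1442b0b21a52aaa891b23c1300f01a04233c65722e9dd2b9e24849631c6422248c43089014024030211442723046212c2802f05c08a1180d80600a01c4f89d82707e28c5e82f0762b45c82506a2ac5912625da7b5455696555258152260540922ce53e5348d2ca534b214c2c652cb1149142224b01484bea18af1464baa14ae1450b61154d2431322082c0424aea04ab14112a205ca3804a6a01492402a25024848f71ee39a734021a4324648b216400450869132204408008e11a4348090b204220438871022144108210000000)
def c33_T : Tr := .leaf (nat_lit 0xaeaa689e69648e28607de75c6da6585d65544d24503ce34c2ca2481c61440c2040)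
def c33_P : Tr := .node (.leaf (nat_lit 0x569252550020e565d9000207523033000095024032b0040e8d4c00043218b4d80243204f884a80004846586002064e58282300203657e8082008024a1a490000c481847002044616230000c7b140001343791580213424576713c8060b61727400001441241002044010032d0040b386e3d0000a6d36000100f6b37802100e3f683a8040d635b66000003e0c27002083c0c23002043a0a2f00208380a2d002043406250020732042b002012e02270060d281d1f00005))
  (.leaf (nat_lit 0x1ff001ff001ff001ff001ff001ff001ff001ff001ff001ff001ff001ff001ff001ff001ff001ff001ff001ff001ff001ff001ff001ff001ff001ff001ff001ff001ff001ff9d0800010319b09802105599348022b9695505e80200))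
def c33_N_0 : Tr := .node (.node (.node (.node (.leaf (nat_lit 526850))
  (.leaf (nat_lit 561)))
  (.leaf (nat_lit 6150)))
  (.node (.leaf (nat_lit 33))
  (.leaf (nat_lit 396))))
  (.node (.node (.leaf (nat_lit 599562))
  (.leaf (nat_lit 329)))
  (.node (.leaf (nat_lit 132))
  (.leaf (nat_lit 14350))))
def c33_N_1 : Tr := .node (.node (.node (.node (.leaf (nat_lit 595493))
  (.leaf (nat_lit 18450)))
  (.leaf (nat_lit 232)))
  (.node (.leaf (nat_lit 2050))
  (.leaf (nat_lit 429))))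
  (.node (.node (.leaf (nat_lit 168100))
  (.leaf (nat_lit 9226)))
  (.node (.leaf (nat_lit 165))
  (.leaf (nat_lit 528))))
def c33_N_2 : Tr := .node (.node (.node (.node (.leaf (nat_lit 15241764))
  (.leaf (nat_lit 594)))
  (.leaf (nat_lit 263)))
  (.node (.leaf (nat_lit 66))
  (.leaf (nat_lit 12300))))
  (.node (.node (.leaf (nat_lit 165025))
  (.leaf (nat_lit 298)))
  (.node (.leaf (nat_lit 4100))
  (.leaf (nat_lit 495))))
def c33_N_3 : Tr := .node (.node (.node (.node (.leaf (nat_lit 571950))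
  (.leaf (nat_lit 0)))
  (.leaf (nat_lit 7176)))
  (.node (.leaf (nat_lit 99))
  (.leaf (nat_lit 462))))
  (.node (.node (.leaf (nat_lit 1124425))
  (.leaf (nat_lit 363)))
  (.node (.leaf (nat_lit 198))
  (.leaf (nat_lit 16400))))
def c33_N_4 : Tr := .node (.node (.node (.node (.leaf (nat_lit 559650))
  (.leaf (nat_lit 17425)))
  (.leaf (nat_lit 263)))
  (.node (.leaf (nat_lit 1025))
  (.leaf (nat_lit 396))))
  (.node (.node (.leaf (nat_lit 66625))
  (.leaf (nat_lit 10249)))
  (.node (.leaf (nat_lit 132))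
  (.leaf (nat_lit 495))))
def c33_N_5 : Tr := .node (.node (.node (.node (.leaf (nat_lit 472525))
  (.leaf (nat_lit 0)))
  (.leaf (nat_lit 232)))
  (.node (.leaf (nat_lit 99))
  (.leaf (nat_lit 13325))))
  (.node (.node (.leaf (nat_lit 75817))
  (.leaf (nat_lit 363)))
  (.node (.leaf (nat_lit 5125))
  (.leaf (nat_lit 528))))
def c33_N_6 : Tr := .node (.node (.node (.node (.leaf (nat_lit 14095813))
  (.leaf (nat_lit 594)))
  (.leaf (nat_lit 8199)))
  (.node (.leaf (nat_lit 66))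
  (.leaf (nat_lit 429))))
  (.node (.node (.leaf (nat_lit 1214626))
  (.leaf (nat_lit 298)))
  (.node (.leaf (nat_lit 165))
  (.leaf (nat_lit 15375))))
def c33_N : Tr := .node (.node (.node c33_N_0
  c33_N_1)
  (.node c33_N_2
  c33_N_3))
  (.node (.node c33_N_4
  c33_N_5)
  (.node c33_N_6
  (.node (.node (.node (.leaf (nat_lit 567817))
  (.leaf (nat_lit 329)))
  (.node (.leaf (nat_lit 3075))
  (.leaf (nat_lit 462))))
  (.node (.node (.leaf (nat_lit 33))
  (.leaf (nat_lit 11275)))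
  (.node (.leaf (nat_lit 198))
  (.leaf (nat_lit 561)))))))
noncomputable def c33 : TC :=
  ⟨[.l 0, .l 1, .l 2, .l 3, .l 4, .l 5, .l 6, .l 7, .l 8, .l 9, .l 10, .l 11, .l 12, .l 13, .l 14, .l 15, .l 16, .l 17, .l 18],
    (nat_lit 6), (nat_lit 8), (nat_lit 0x4a307b9ac5a547418a418820), (nat_lit 1), (nat_lit 44), (nat_lit 0), (nat_lit 32), (nat_lit 2), (nat_lit 71),
    get (nat_lit 10) (nat_lit 0x400c0400c02010030080400c02010030080400c02010030080400c02010030080400c02010030080400c02010030080400c02010030080400c02010030080400c02010030080501004014040100401004010040140501004), Tr.get c33_N, get (nat_lit 20) (nat_lit 0x3ff003ff003ff003ff003ff003ff003ff003ff003ff003ff003ff003ff003ff003ff003ff003ff003ff003ff003ff003ff003ff003ff003ff003ff003ff003ff003ff003ff003ff003ff003ff003ff003ff003ff003ff003ff003ff003ff003ff003ff003ff003ff003ff003ff003ff003ff003ff003ff003ff003ff003ff003ff003ff003ff003ff003ff0003e0003d000320002e000290002600024000230001a000180000f0000d0000c0000600005),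
    Tr.get3 c33_F (nat_lit 22) (nat_lit 5), Tr.get3 c33_T (nat_lit 6) (nat_lit 7), Tr.get c33_P⟩

theorem c33_head : c33.headOK rn32 ivA = true := by decide +kernel

theorem c33_b0 : allFrom (nat_lit 0) (nat_lit 2) c33.blockOK = true := by decide +kernel

theorem c33_blocks : ∀ t < c33.k, c33.blockOK t = true :=
  (of_allFrom_append of_lt_zero c33_b0)

theorem c33_mem0 {G : Type*} [Group G] {γ : ℕ → G} (hL : Lab γ ivA) (hr : ∀ t ∈ rn32, t.ev γ = 1) {K : Subgroup G}
    (hK : ∀ t ∈ ([] : List W), t.ev γ ∈ K) :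
    W.ev γ (.mul (.mul (.mul (.l 1) (.l 17)) (.l 1)) (.l 17)) ∈ K :=
  TC.mem (D := c33) hL (List.forall_mem_cons.2 ⟨hL.zero_mem K, hK⟩) hr c33_head c33_blocks
    (n := (nat_lit 4)) (w := (nat_lit 558625)) (st := (nat_lit 127796226)) (by decide +kernel) (by decide +kernel)

theorem c33_mem1 {G : Type*} [Group G] {γ : ℕ → G} (hL : Lab γ ivA) (hr : ∀ t ∈ rn32, t.ev γ = 1) {K : Subgroup G}
    (hK : ∀ t ∈ ([] : List W), t.ev γ ∈ K) :
    W.ev γ (.mul (.mul (.mul (.l 1) (.l 18)) (.l 1)) (.l 18)) ∈ K :=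
  TC.mem (D := c33) hL (List.forall_mem_cons.2 ⟨hL.zero_mem K, hK⟩) hr c33_head c33_blocks
    (n := (nat_lit 4)) (w := (nat_lit 591425)) (st := (nat_lit 225380866)) (by decide +kernel) (by decide +kernel)

theorem c33_mem2 {G : Type*} [Group G] {γ : ℕ → G} (hL : Lab γ ivA) (hr : ∀ t ∈ rn32, t.ev γ = 1) {K : Subgroup G}
    (hK : ∀ t ∈ ([] : List W), t.ev γ ∈ K) :
    W.ev γ (.mul (.mul (.mul (.l 2) (.l 18)) (.l 2)) (.l 18)) ∈ K :=
  TC.mem (D := c33) hL (List.forall_mem_cons.2 ⟨hL.zero_mem K, hK⟩) hr c33_head c33_blocks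
    (n := (nat_lit 4)) (w := (nat_lit 592450)) (st := (nat_lit 226234896)) (by decide +kernel) (by decide +kernel)

theorem c33_mem3 {G : Type*} [Group G] {γ : ℕ → G} (hL : Lab γ ivA) (hr : ∀ t ∈ rn32, t.ev γ = 1) {K : Subgroup G}
    (hK : ∀ t ∈ ([] : List W), t.ev γ ∈ K) :
    W.ev γ (.mul (.mul (.mul (.mul (.mul (.l 4) (.l 18)) (.l 4)) (.l 18)) (.l 14)) (.l 13)) ∈ K :=
  TC.mem (D := c33) hL (List.forall_mem_cons.2 ⟨hL.zero_mem K, hK⟩) hr c33_head c33_blocks
    (n := (nat_lit 6)) (w := (nat_lit 451482180)) (st := (nat_lit 32021382043670)) (by decide +kernel) (by decide +kernel)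

def c33_loops : List W := [.mul (.mul (.mul (.l 1) (.l 17)) (.l 1)) (.l 17), .mul (.mul (.mul (.l 1) (.l 18)) (.l 1)) (.l 18), .mul (.mul (.mul (.l 2) (.l 18)) (.l 2)) (.l 18), .mul (.mul (.mul (.mul (.mul (.l 4) (.l 18)) (.l 4)) (.l 18)) (.l 14)) (.l 13)]

theorem c33_mems {G : Type*} [Group G] {γ : ℕ → G} (hL : Lab γ ivA) (hr : ∀ t ∈ rn32, t.ev γ = 1) {K : Subgroup G}
    (hK : ∀ t ∈ ([] : List W), t.ev γ ∈ K) :
    ∀ t ∈ c33_loops, t.ev γ ∈ K :=
  List.forall_mem_cons.2 ⟨c33_mem0 hL hr hK,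
    List.forall_mem_cons.2 ⟨c33_mem1 hL hr hK,
    List.forall_mem_cons.2 ⟨c33_mem2 hL hr hK,
    List.forall_mem_cons.2 ⟨c33_mem3 hL hr hK,
    fun _ h => absurd h List.not_mem_nil⟩⟩⟩⟩

def rn34 : List W := [.mul (.mul (.mul (.l 1) (.l 17)) (.l 1)) (.l 17), .mul (.mul (.mul (.l 1) (.l 18)) (.l 1)) (.l 18), .mul (.mul (.mul (.l 2) (.l 18)) (.l 2)) (.l 18), .mul (.mul (.mul (.mul (.mul (.l 4) (.l 18)) (.l 4)) (.l 18)) (.l 14)) (.l 13)] ++ rn32

def c35_F : Tr := .leaf (nat_lit 0x23023704203703003823624f24d25233d35214f15135034f2c72d084d84f14a14e1cc1cd14914c34734b0c00ca0bf0c90b00c820f20801000800f04300e04163e60d34633e12514664562524424564462483b84434134320824323024212714012613e6b46bd32e30700702f22e21f21e23c6ad6bc10a13b2b42ab2ac2b383a82c2ba2b273a7396816ba6826ac6836ab20122a2282211981a819f1a71a619e1951a51821a41811a322021910612010511f10411e10311d10211c60a61b10111b2182110860980850970840960830950820940810936d26b53513301501302cf2a70ce0a72cd2a62cc29e24b2171ca1972c92962c829114711164660c14510c14410b6436062c22866416051c01852bf2841be1842bd28333c30263b6017ba7806b96802382373373368368353353342342338338327327312b12802b028732f32e82e82d32d32c22c22b82b82a72a7292292003283278278263263252252248248237237221a21801a118732031f81f81e31e31d21d21c81c81b71b71a11a10011910731831781781631631521521481481371371209208009108721020f30f30e80e80d30d30c20c20b80b80a70a709609600608607207206306305805804304303203202802801701700000000)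
def c35_T : Tr := .leaf (nat_lit 0x14a8d09f3a6cc972a4c88f1a2c4870a0c07ef9ebc76e9cb86ed9ab466c98b05eb96ac56a94a84e992a446890a03e78e9c3668c982e58a9426488901e3868c16284880e182840608080)
def c35_P : Tr := .node (.node (.leaf (nat_lit 0x1d968b7002202cb80d20043a666eb7800025ae046c00106190c4736d802041c8ea00420740180008161aa060000d2b34c0a07008072a148060000c4211acd9c004345066afd5c310041c273287e0000abd560b1904d0001c2531d502b0041a243140a0000a462200c00010640e600010b9017e0d000181f2f416000063c5d8240006074b9038000b8e16a05000031b0d026150000a1b0d0060000422072c00084c60af068000a8b95a0b00001162ac120002a2a5481c0004c50a70280000898480300000))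
  (.leaf (nat_lit 0xff800ff800ff800ff800ff800ff800ff800ff800ff800ff800ff800ff800ff800ff800ff800ff800ff800ff800ff800ff800ff800ff800ff800ff800ffcc5ee0005a7197bda008b4e06e964994500c3d2195290da0080f293d024ff148d4700207d486a7800107a89432400018)))
  (.leaf (nat_lit 0x4f2763e944bc66440043ea0892411e004329e2726c0082538f48b00108a6994990001b4c2f55893004194b0c5648f0061e4a2bd020002492569fc000512022308000a43c400005af886886008b5f70b0fc0119a08147d840760082c348d83000113cc9904002184622e04004404a7fc00000851418448010b9218a777e00005a202ce400203430310600444860784400885080f308000ea017ccc000163e2f1960002c7a6a38c00039d85e000332f3a97e0d07c020f0f9d0e72e802039e00eba1e8020f1e1ac5b0000f))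
def c35_N_0 : Tr := .node (.node (.node (.node (.leaf (nat_lit 460225))
  (.leaf (nat_lit 9226)))
  (.leaf (nat_lit 77900)))
  (.node (.node (.leaf (nat_lit 15821))
  (.leaf (nat_lit 528)))
  (.leaf (nat_lit 165))))
  (.node (.node (.node (.leaf (nat_lit 14095813))
  (.leaf (nat_lit 429)))
  (.leaf (nat_lit 2050)))
  (.node (.leaf (nat_lit 198850))
  (.leaf (nat_lit 232))))
def c35_N_1 : Tr := .node (.node (.node (.node (.leaf (nat_lit 462275))
  (.leaf (nat_lit 396)))
  (.leaf (nat_lit 33)))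
  (.node (.node (.leaf (nat_lit 165025))
  (.leaf (nat_lit 0)))
  (.leaf (nat_lit 6150))))
  (.node (.node (.node (.leaf (nat_lit 538125))
  (.leaf (nat_lit 14350)))
  (.leaf (nat_lit 132)))
  (.node (.leaf (nat_lit 68357315))
  (.leaf (nat_lit 329))))
def c35_N_2 : Tr := .node (.node (.node (.node (.leaf (nat_lit 461250))
  (.leaf (nat_lit 363)))
  (.leaf (nat_lit 209100)))
  (.node (.node (.leaf (nat_lit 99425))
  (.leaf (nat_lit 16400)))
  (.leaf (nat_lit 198))))
  (.node (.node (.node (.leaf (nat_lit 14758348))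
  (.leaf (nat_lit 462)))
  (.leaf (nat_lit 99)))
  (.node (.leaf (nat_lit 1182851))
  (.leaf (nat_lit 7176))))
def c35_N_3 : Tr := .node (.node (.node (.node (.leaf (nat_lit 463300))
  (.leaf (nat_lit 12300)))
  (.leaf (nat_lit 66)))
  (.node (.leaf (nat_lit 100450))
  (.leaf (nat_lit 263))))
  (.node (.node (.node (.leaf (nat_lit 177325))
  (.leaf (nat_lit 495)))
  (.leaf (nat_lit 4100)))
  (.node (.leaf (nat_lit 2298052))
  (.leaf (nat_lit 298))))
def c35_N_4 : Tr := .node (.node (.node (.node (.leaf (nat_lit 525825))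
  (.leaf (nat_lit 363)))
  (.leaf (nat_lit 143500)))
  (.node (.node (.leaf (nat_lit 66625))
  (.leaf (nat_lit 528)))
  (.leaf (nat_lit 5125))))
  (.node (.node (.node (.leaf (nat_lit 529925))
  (.leaf (nat_lit 13325)))
  (.leaf (nat_lit 99)))
  (.node (.leaf (nat_lit 1214626))
  (.leaf (nat_lit 232))))
def c35_N_5 : Tr := .node (.node (.node (.node (.leaf (nat_lit 527875))
  (.leaf (nat_lit 396)))
  (.leaf (nat_lit 1025)))
  (.node (.leaf (nat_lit 197825))
  (.leaf (nat_lit 263))))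
  (.node (.node (.node (.leaf (nat_lit 144525))
  (.leaf (nat_lit 495)))
  (.leaf (nat_lit 132)))
  (.node (.leaf (nat_lit 168100))
  (.leaf (nat_lit 10249))))
def c35_N_6 : Tr := .node (.node (.node (.node (.leaf (nat_lit 526850))
  (.leaf (nat_lit 11275)))
  (.leaf (nat_lit 33)))
  (.node (.node (.leaf (nat_lit 132225))
  (.leaf (nat_lit 0)))
  (.leaf (nat_lit 198))))
  (.node (.node (.node (.leaf (nat_lit 16888332))
  (.leaf (nat_lit 462)))
  (.leaf (nat_lit 3075)))
  (.node (.leaf (nat_lit 167075))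
  (.leaf (nat_lit 329))))
def c35_N_7 : Tr := .node (.node (.node (.node (.leaf (nat_lit 14160388))
  (.leaf (nat_lit 429)))
  (.leaf (nat_lit 66)))
  (.node (.leaf (nat_lit 133250))
  (.leaf (nat_lit 8199))))
  (.node (.node (.node (.leaf (nat_lit 210125))
  (.leaf (nat_lit 15375)))
  (.leaf (nat_lit 165)))
  (.node (.leaf (nat_lit 36612281541))
  (.leaf (nat_lit 298))))
def c35_N : Tr := .node (.node (.node c35_N_0
  c35_N_1)
  (.node c35_N_2
  c35_N_3))
  (.node (.node c35_N_4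
  c35_N_5)
  (.node c35_N_6
  c35_N_7))
noncomputable def c35 : TC :=
  ⟨[.l 0, .l 1, .l 2, .l 3, .l 4, .l 5, .l 6, .l 7, .l 8, .l 9, .l 10, .l 11, .l 12, .l 13, .l 14, .l 15, .l 16],
    (nat_lit 7), (nat_lit 9), (nat_lit 0x107b9ac5a547418a418820), (nat_lit 1), (nat_lit 83), (nat_lit 0), (nat_lit 32), (nat_lit 3), (nat_lit 85),
    get (nat_lit 10) (nat_lit 0x400c0400c02010030080400c02010030080400c02010030080400c02010030080400c02010030080400c02010030080400c02010030080400c0201003008040100402005010060100501404010040100401004010030100401004014050100501404010040100401004), Tr.get c35_N, get (nat_lit 20) (nat_lit 0x3ff003ff003ff003ff003ff003ff003ff003ff003ff003ff003ff003ff003ff003ff003ff003ff003ff003ff003ff003ff003ff003ff003ff003ff003ff003ff003ff003ff003ff003ff003ff003ff003ff003ff003ff003ff003ff003ff003ff003ff003ff003ff003ff003ff003ff003ff003ff003ff003ff003ff0004c0004a000480003800037000360003500034000330003200031000300002f0002e0002d0002c0002b0002a0002900021000200001f0001d000190001800012000110000f0000e0000d0000c00009000080000600005),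
    Tr.get3 c35_F (nat_lit 24) (nat_lit 5), Tr.get3 c35_T (nat_lit 7) (nat_lit 7), Tr.get c35_P⟩

theorem c35_head : c35.headOK rn34 ivA = true := by decide +kernel

theorem c35_b0 : allFrom (nat_lit 0) (nat_lit 3) c35.blockOK = true := by decide +kernel

theorem c35_blocks : ∀ t < c35.k, c35.blockOK t = true :=
  (of_allFrom_append of_lt_zero c35_b0)

theorem c35_mem0 {G : Type*} [Group G] {γ : ℕ → G} (hL : Lab γ ivA) (hr : ∀ t ∈ rn34, t.ev γ = 1) {K : Subgroup G}
    (hK : ∀ t ∈ ([] : List W), t.ev γ ∈ K) :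
    W.ev γ (.mul (.mul (.mul (.mul (.l 14) (.l 16)) (.mul (.mul (.mul (.mul (.l 4) (.l 6)) (.l 16)) (.l 6)) (.l 4))) (.l 12)) (.inv (.mul (.l 12) (.mul (.mul (.l 14) (.l 16)) (.mul (.mul (.mul (.mul (.l 4) (.l 6)) (.l 16)) (.l 6)) (.l 4)))))) ∈ K :=
  TC.mem (D := c35) hL (List.forall_mem_cons.2 ⟨hL.zero_mem K, hK⟩) hr c35_head c35_blocks
    (n := (nat_lit 16)) (w := (nat_lit 0x63a04340c4610d03120e)) (st := (nat_lit 0x98542e190d8743f1008038180a040180802)) (by decide +kernel) (by decide +kernel)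

theorem c35_mem1 {G : Type*} [Group G] {γ : ℕ → G} (hL : Lab γ ivA) (hr : ∀ t ∈ rn34, t.ev γ = 1) {K : Subgroup G}
    (hK : ∀ t ∈ ([] : List W), t.ev γ ∈ K) :
    W.ev γ (.mul (.mul (.mul (.mul (.l 14) (.l 16)) (.mul (.mul (.mul (.mul (.l 4) (.l 6)) (.l 16)) (.l 6)) (.l 4))) (.l 1)) (.inv (.mul (.l 1) (.mul (.mul (.l 14) (.l 16)) (.mul (.mul (.mul (.mul (.l 4) (.l 6)) (.l 16)) (.l 6)) (.l 4)))))) ∈ K :=
  TC.mem (D := c35) hL (List.forall_mem_cons.2 ⟨hL.zero_mem K, hK⟩) hr c35_head c35_blocks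
    (n := (nat_lit 16)) (w := (nat_lit 0xba04340c4090d03120e)) (st := (nat_lit 0x1289c522b168bc62b211038180a040180802)) (by decide +kernel) (by decide +kernel)

theorem c35_mem2 {G : Type*} [Group G] {γ : ℕ → G} (hL : Lab γ ivA) (hr : ∀ t ∈ rn34, t.ev γ = 1) {K : Subgroup G}
    (hK : ∀ t ∈ ([] : List W), t.ev γ ∈ K) :
    W.ev γ (.mul (.mul (.mul (.mul (.l 14) (.l 16)) (.mul (.mul (.mul (.mul (.l 4) (.l 6)) (.l 16)) (.l 6)) (.l 4))) (.l 2)) (.inv (.mul (.l 2) (.mul (.mul (.l 14) (.l 16)) (.mul (.mul (.mul (.mul (.l 4) (.l 6)) (.l 16)) (.l 6)) (.l 4)))))) ∈ K :=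
  TC.mem (D := c35) hL (List.forall_mem_cons.2 ⟨hL.zero_mem K, hK⟩) hr c35_head c35_blocks
    (n := (nat_lit 16)) (w := (nat_lit 0x13a04340c4110d03120e)) (st := (nat_lit 0x1a8dc723b1e8fc82c219038180a040180802)) (by decide +kernel) (by decide +kernel)

theorem c35_mem3 {G : Type*} [Group G] {γ : ℕ → G} (hL : Lab γ ivA) (hr : ∀ t ∈ rn34, t.ev γ = 1) {K : Subgroup G}
    (hK : ∀ t ∈ ([] : List W), t.ev γ ∈ K) :
    W.ev γ (.mul (.mul (.mul (.mul (.l 14) (.l 16)) (.mul (.mul (.mul (.mul (.l 4) (.l 6)) (.l 16)) (.l 6)) (.l 4))) (.l 3)) (.inv (.mul (.l 3) (.mul (.mul (.l 14) (.l 16)) (.mul (.mul (.mul (.mul (.l 4) (.l 6)) (.l 16)) (.l 6)) (.l 4)))))) ∈ K :=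
  TC.mem (D := c35) hL (List.forall_mem_cons.2 ⟨hL.zero_mem K, hK⟩) hr c35_head c35_blocks
    (n := (nat_lit 16)) (w := (nat_lit 0x1ba04340c4190d03120e)) (st := (nat_lit 0x2291c924b2693ca2d021038180a040180802)) (by decide +kernel) (by decide +kernel)

theorem c35_mem4 {G : Type*} [Group G] {γ : ℕ → G} (hL : Lab γ ivA) (hr : ∀ t ∈ rn34, t.ev γ = 1) {K : Subgroup G}
    (hK : ∀ t ∈ ([] : List W), t.ev γ ∈ K) :
    W.ev γ (.mul (.mul (.mul (.mul (.l 14) (.l 16)) (.mul (.mul (.mul (.mul (.l 4) (.l 6)) (.l 16)) (.l 6)) (.l 4))) (.l 4)) (.inv (.mul (.l 4) (.mul (.mul (.l 14) (.l 16)) (.mul (.mul (.mul (.mul (.l 4) (.l 6)) (.l 16)) (.l 6)) (.l 4)))))) ∈ K :=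
  TC.mem (D := c35) hL (List.forall_mem_cons.2 ⟨hL.zero_mem K, hK⟩) hr c35_head c35_blocks
    (n := (nat_lit 14)) (w := (nat_lit 0x8e810d0310d03120e)) (st := (nat_lit 0xa6552b964b65d77038180a040180802)) (by decide +kernel) (by decide +kernel)

theorem c35_mem5 {G : Type*} [Group G] {γ : ℕ → G} (hL : Lab γ ivA) (hr : ∀ t ∈ rn34, t.ev γ = 1) {K : Subgroup G}
    (hK : ∀ t ∈ ([] : List W), t.ev γ ∈ K) :
    W.ev γ (.mul (.mul (.mul (.mul (.l 14) (.l 16)) (.mul (.mul (.mul (.mul (.l 4) (.l 6)) (.l 16)) (.l 6)) (.l 4))) (.l 5)) (.inv (.mul (.l 5) (.mul (.mul (.l 14) (.l 16)) (.mul (.mul (.mul (.mul (.l 4) (.l 6)) (.l 16)) (.l 6)) (.l 4)))))) ∈ K :=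
  TC.mem (D := c35) hL (List.forall_mem_cons.2 ⟨hL.zero_mem K, hK⟩) hr c35_head c35_blocks
    (n := (nat_lit 16)) (w := (nat_lit 0x2ba04340c4290d03120e)) (st := (nat_lit 0x31994ce69359b4df3330038180a040180802)) (by decide +kernel) (by decide +kernel)

def c35_loops : List W := [.mul (.mul (.mul (.mul (.l 14) (.l 16)) (.mul (.mul (.mul (.mul (.l 4) (.l 6)) (.l 16)) (.l 6)) (.l 4))) (.l 12)) (.inv (.mul (.l 12) (.mul (.mul (.l 14) (.l 16)) (.mul (.mul (.mul (.mul (.l 4) (.l 6)) (.l 16)) (.l 6)) (.l 4))))), .mul (.mul (.mul (.mul (.l 14) (.l 16)) (.mul (.mul (.mul (.mul (.l 4) (.l 6)) (.l 16)) (.l 6)) (.l 4))) (.l 1)) (.inv (.mul (.l 1) (.mul (.mul (.l 14) (.l 16)) (.mul (.mul (.mul (.mul (.l 4) (.l 6)) (.l 16)) (.l 6)) (.l 4))))), .mul (.mul (.mul (.mul (.l 14) (.l 16)) (.mul (.mul (.mul (.mul (.l 4) (.l 6)) (.l 16)) (.l 6)) (.l 4))) (.l 2)) (.inv (.mul (.l 2) (.mul (.mul (.l 14) (.l 16)) (.mul (.mul (.mul (.mul (.l 4) (.l 6)) (.l 16)) (.l 6)) (.l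 4))))), .mul (.mul (.mul (.mul (.l 14) (.l 16)) (.mul (.mul (.mul (.mul (.l 4) (.l 6)) (.l 16)) (.l 6)) (.l 4))) (.l 3)) (.inv (.mul (.l 3) (.mul (.mul (.l 14) (.l 16)) (.mul (.mul (.mul (.mul (.l 4) (.l 6)) (.l 16)) (.l 6)) (.l 4))))), .mul (.mul (.mul (.mul (.l 14) (.l 16)) (.mul (.mul (.mul (.mul (.l 4) (.l 6)) (.l 16)) (.l 6)) (.l 4))) (.l 4)) (.inv (.mul (.l 4) (.mul (.mul (.l 14) (.l 16)) (.mul (.mul (.mul (.mul (.l 4) (.l 6)) (.l 16)) (.l 6)) (.l 4))))), .mul (.mul (.mul (.mul (.l 14) (.l 16)) (.mul (.mul (.mul (.mul (.l 4) (.l 6)) (.l 16)) (.l 6)) (.l 4))) (.l 5)) (.inv (.mul (.l 5) (.mul (.mul (.l 14) (.l 16)) (.mul (.mul (.mul (.mul (.l 4) (.l 6)) (.l 16)) (.l 6)) (.l 4)))))]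

theorem c35_mems {G : Type*} [Group G] {γ : ℕ → G} (hL : Lab γ ivA) (hr : ∀ t ∈ rn34, t.ev γ = 1) {K : Subgroup G}
    (hK : ∀ t ∈ ([] : List W), t.ev γ ∈ K) :
    ∀ t ∈ c35_loops, t.ev γ ∈ K :=
  List.forall_mem_cons.2 ⟨c35_mem0 hL hr hK,
    List.forall_mem_cons.2 ⟨c35_mem1 hL hr hK,
    List.forall_mem_cons.2 ⟨c35_mem2 hL hr hK,
    List.forall_mem_cons.2 ⟨c35_mem3 hL hr hK,
    List.forall_mem_cons.2 ⟨c35_mem4 hL hr hK,
    List.forall_mem_cons.2 ⟨c35_mem5 hL hr hK,
    fun _ h => absurd h List.not_mem_nil⟩⟩⟩⟩⟩⟩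

def rn36 : List W := List.map (sb (.mul (.mul (.l 14) (.l 16)) (.mul (.mul (.mul (.mul (.l 4) (.l 6)) (.l 16)) (.l 6)) (.l 4)))) [.l 30] ++ rn34

def c37_F : Tr := .leaf (nat_lit 0x881c414064005001801806203d04802209104b485842d1366a883591ace42120402e8010020011007804801606202a829192acb14be2ac135ea7a3551abc8f84af2d715f0d586ae13b0ab4b505ac23a92b0d386ab23892ac8f64aa0b906a4d346a81370aa02de1a870d3821a34d1100f002003601100d011c0d60967513a9e1030a6235929e11d0a73359a99a30d1700c805c03003f04881a1d4ae8f234129612f0a594aca91d46e95230928c8be4a284c428a02b009032802402c01500681900f205b750ba35ceeea03501a74b405a1250127cab659f1ad8e79d36e9d33b9a6e1330906bd36648984987473a61d14e97225925d48e99674b397cd246959044825a8ed11730b914092009024004408a04f6afb51801000a023014212908b223125048a29349faa4487a48f845423cb1858d2461225aeed8c21c122dce8e8b29b9624d046871418a1c7063861180a183081863421a1470438509786162f91833261a05d02e8031d9a006e237f11509fc6a637e11409f825417d09405f06da37b4321de4ec68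7973cb8dcaee57823b91cc84a47429195cc8444721918dc0caa66f09085b824016d70b38700b801c00b0075cd8e66819c1b247526a8a5459d0c676481b418dcc2e4f329198607105f6a8357e49525e72e3858cae616802c035a2cd0d00700360b304a32b196206b05782a4158c4065430f994da22d527853c45ca2e11919c939c30e4d71db931a48d4b69d3529c42e4a6a3b520c846461a08d0e0530429134901c7ee3e68bb4fe26713c692b4edc66e3a68e34e506e736691b4dda26d36685b4d5a44d34690b4cc65832f1958cba24d12b31298a464032718f8c99c0ce176873459a0ad097803c15568983259920c964482958c9f496047a2d795d895c47635699d4558272655b1bc75436f2d495b895046d4d3a9a934ca69552a59c9484626d1b581344a5e250916cf4085a3cfa164f3c85844e9d59938c5544d9d5093445334c992d330a4a54ba529f2cf4624a9115328a44349990c924443748b8f4d2063d547a4f131ca3a24690dcf188344c5a8cd5149333c4a0ccd106311c38cc0d0c62f14288b870832d34198ac50422b7c0bca5b00d2963fb09ccfc62763eb098cf862613d8898cf46247bcbc8c8f04233bba088cec62213a88892e8a213b9a084ae4521638b080ee082023790808dc41f136887c8d841c4b5a8688d441a1b48c694d0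91823390608cc416832c055ac8d156b1b4524c52126b0b4488c04124afa8448bc41192ec841eb8f0d3ada034ab450d22c90344b020d6abb4304ac20c22a902c4a820b0a9842dca4e0a6a8b4292a0a0a327982889c40a8a6c425298a09525a424894409924c821e90f08723b82128ca0832298208884081218821284a07120881c28010779fbc19a7cd0651ea41887840649da81487440581cc011270a0439ba01106c70431a9810a685042199012265103518a40cc60603117880c25c10331698084582020958409854c01494a804c50601113880424c101492a801448900391a000a44500210900044020008f8401c3ce1a70eb87203900068db46a43520068cb46223110088bc41202d00938aa0520290134099c00c24611908c810c2060f907c82e01d005306983201900b3059802415209704b800610307903c80620d105702b811a08d001818c0a2051011808c00000000)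
def c37_T : Tr := .leaf (nat_lit 0xb4b3b2b1b0afaeadacabaaa9a8a7a6a5a4a3a2a1a09f9e9d9c9b9a999897969594939291908f8e8d8c8b8a898887868584838281807f7e7d7c7b7a797877767574737271706f6e6d6c6b6a696867666564636261605f5e5d5c5b5a595857565554535251504f4e4d4c4b4a494847464544434241403f3e3d3c3b3a393837363534333231302f2e2d2c2b2a292827262524232221201f1e1d1c1b1a191817161514131211100f0e0d0c0b0a09080706050403020100)
def c37_P : Tr := .node (.node (.node (.leaf (nat_lit 0x268120c40003c985b477006142581212400850945b475000102501210c008149023c000648c040850062d2181020c0087c8403853002182000e134008087c1fc008647e5c000064785c02e19c0081c765ac4b002151d00a19c0081472020390000e1b06f000281b80811c0104c6c02027000131a80805c000486802045000111980810c000405e018590021f1700615c0086c560104d002011480212c018b44e008410021f130020fc0086c2e02c0d0000f0b16d07400038120240b0000d0280800419))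
  (.leaf (nat_lit 0x541e537c00072a30f000176a10d8001688fa7c3d8025d9269f0de0096a50a74d68024e93a7ca6a9780005a5e92a660f9627a00000a4e96a56569660e00800538d435c018b94e7651d00218530d235c018b68f0c80016992a34338025a8ca8a3420094686a223148e00816314865d4ca52a10000014a338d10022e529d74bc0085d48310c151e80006034aa479f80081546300c300210510bc2fc018b94472531002189dcca000630b67432e0098cc99cdc18025a7ea702da00921439b91a7de008162d8a66c9a0008226a9865f002094e9ba4f66350e690042c)))
  (.leaf (nat_lit 0x461813bc0104d16198710062e4597f3a401851121986f0062a43a1a86616854008910e86a1d0001f4317d1605741c010910c17861000214321285c0007a154105616d09002244297b4140087d0a1705f0001a419793e40082a0c82da60000940103002194017763800848fe5d4e3002323f84e154008c4fc5d4400fdb2004243f04e14400084fa13055002303e04c14400078f65ccdb0021f7e5d4000287d98874801059873cc00864f07b9f3002257bc46114ef0082b3a04212c018b8e6108470062a3904211400094e01004700629)))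
  (.node (.node (.leaf (nat_lit 0xde100172ac00898dc0f8430001c3683e10400069e1718001743b77dc78025d0e8d9770cc80005331c56e46a19dda000003618a1c867002063503410d7e6300180cce6a09a2540081cc80a8c70061331828610008389e295ce00209308246c000848be08871002182f9af28400854bc6c0a40509500203700b9002197001a2bc00849bf0700018dbf5b800168b36f0945b41d806066844205c1906cb3002002c01a2b400884ae061820020e2b0182a400810a80584100221298160fc00878a428dac0000d6b4a200419088676a89c28c0200c9c0509568d8d00603))
  (.leaf (nat_lit 0x7fee5190001980db8c65802661eee118a0094521b791080245b72db5825a972018196859ed80022e5a211b180085d101885d42e15596d60042f59a1e8856500226b4cba0006908ed12ee009a425b3c2180245316cd07e009a549b2caa8023fa0ec858a0181a09acab54e201031623e99620083669259300103160b16c10042e3d0480fcdb7f2b0b08010bd5e3b0440fcdb7f2b0006275795daf800095ff80a054d6acae2bc00027572ba56ab600226568ea3b40008558ab952aa800889587b4eb00220559e94e4008d156378e300233552a8541fc00223549e73940007550369b24d40089950368dd00020)))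
  (.leaf (nat_lit 0x1429926700225994b62d5410082b4f8b22dc018a93c2c0b7006294e9b74dc00859366d4e17acf17d4010b1208c22f952534cc0200132694f5000124c094264018b93068d1d006144b9a3635150020b4b89425c008ba4e2fa49000148f92d002194aa344992500226914920006990d9f0005a901d10005d0563d24e009a5af8f4918026027a3d22e009163a72800168a18ec8c8024e729cd89a398de0001a257c5766619c8d800801282208d0062e4988622c00085221e87d6540102d1e1e07b0022e479914540085d1a88a2b0022588c6e1a5190082b)))
def c37_N_0 : Tr := .node (.node (.node (.node (.leaf (nat_lit 4513272334))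
  (.leaf (nat_lit 4100)))
  (.node (.leaf (nat_lit 133250))
  (.leaf (nat_lit 495))))
  (.node (.node (.leaf (nat_lit 144525))
  (.leaf (nat_lit 298)))
  (.leaf (nat_lit 45100))))
  (.node (.node (.node (.leaf (nat_lit 14095813))
  (.leaf (nat_lit 263)))
  (.node (.leaf (nat_lit 7399))
  (.leaf (nat_lit 594))))
  (.node (.node (.leaf (nat_lit 599562))
  (.leaf (nat_lit 12300)))
  (.leaf (nat_lit 66))))
def c37_N_1 : Tr := .node (.node (.node (.node (.leaf (nat_lit 526850))
  (.leaf (nat_lit 198)))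
  (.node (.leaf (nat_lit 68357315))
  (.leaf (nat_lit 16400))))
  (.node (.node (.leaf (nat_lit 469417))
  (.leaf (nat_lit 363)))
  (.leaf (nat_lit 209100))))
  (.node (.node (.node (.leaf (nat_lit 19827821589068))
  (.leaf (nat_lit 7176)))
  (.node (.leaf (nat_lit 7621220582))
  (.leaf (nat_lit 0))))
  (.node (.node (.leaf (nat_lit 132225))
  (.leaf (nat_lit 462)))
  (.leaf (nat_lit 99))))
def c37_N_2 : Tr := .node (.node (.node (.node (.leaf (nat_lit 591425))
  (.leaf (nat_lit 165)))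
  (.node (.leaf (nat_lit 1214626))
  (.leaf (nat_lit 528))))
  (.node (.node (.leaf (nat_lit 210125))
  (.leaf (nat_lit 9226)))
  (.leaf (nat_lit 110700))))
  (.node (.node (.node (.leaf (nat_lit 563750))
  (.leaf (nat_lit 232)))
  (.node (.leaf (nat_lit 172167))
  (.leaf (nat_lit 18450))))
  (.node (.node (.leaf (nat_lit 66625))
  (.leaf (nat_lit 429)))
  (.leaf (nat_lit 2050))))
def c37_N_3 : Tr := .node (.node (.node (.node (.leaf (nat_lit 14160388))
  (.leaf (nat_lit 6150)))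
  (.node (.leaf (nat_lit 2298052))
  (.leaf (nat_lit 561))))
  (.node (.node (.leaf (nat_lit 532935))
  (.leaf (nat_lit 396)))
  (.leaf (nat_lit 33))))
  (.node (.node (.node (.leaf (nat_lit 538125))
  (.leaf (nat_lit 329)))
  (.leaf (nat_lit 141449)))
  (.node (.node (.leaf (nat_lit 197825))
  (.leaf (nat_lit 14350)))
  (.leaf (nat_lit 132))))
def c37_N_4 : Tr := .node (.node (.node (.node (.leaf (nat_lit 558625))
  (.leaf (nat_lit 165)))
  (.node (.leaf (nat_lit 198850))
  (.leaf (nat_lit 15375))))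
  (.node (.node (.leaf (nat_lit 177325))
  (.leaf (nat_lit 298)))
  (.leaf (nat_lit 77900))))
  (.node (.node (.node (.leaf (nat_lit 465350))
  (.leaf (nat_lit 8199)))
  (.node (.leaf (nat_lit 106567))
  (.leaf (nat_lit 594))))
  (.node (.node (.leaf (nat_lit 15821))
  (.leaf (nat_lit 429)))
  (.leaf (nat_lit 66))))
def c37_N_5 : Tr := .node (.node (.node (.node (.leaf (nat_lit 463300))
  (.leaf (nat_lit 198)))
  (.node (.leaf (nat_lit 168100))
  (.leaf (nat_lit 561))))
  (.node (.node (.leaf (nat_lit 501162))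
  (.leaf (nat_lit 11275)))
  (.leaf (nat_lit 33))))
  (.node (.node (.node (.leaf (nat_lit 472525))
  (.leaf (nat_lit 329)))
  (.leaf (nat_lit 206953)))
  (.node (.node (.leaf (nat_lit 165025))
  (.leaf (nat_lit 462)))
  (.leaf (nat_lit 3075))))
def c37_N_6 : Tr := .node (.node (.node (.node (.leaf (nat_lit 451482180))
  (.leaf (nat_lit 5125)))
  (.node (.leaf (nat_lit 1182851))
  (.leaf (nat_lit 528))))
  (.node (.node (.leaf (nat_lit 242957))
  (.leaf (nat_lit 363)))
  (.leaf (nat_lit 143500))))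
  (.node (.node (.node (.leaf (nat_lit 14100937))
  (.leaf (nat_lit 232)))
  (.node (.leaf (nat_lit 4366503))
  (.leaf (nat_lit 0))))
  (.node (.node (.leaf (nat_lit 99425))
  (.leaf (nat_lit 13325)))
  (.leaf (nat_lit 99))))
def c37_N_7 : Tr := .node (.node (.node (.node (.leaf (nat_lit 15241764))
  (.leaf (nat_lit 263)))
  (.node (.leaf (nat_lit 36612281541))
  (.leaf (nat_lit 17425))))
  (.node (.node (.leaf (nat_lit 567817))
  (.leaf (nat_lit 396)))
  (.leaf (nat_lit 1025))))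
  (.node (.node (.node (.leaf (nat_lit 571950))
  (.leaf (nat_lit 10249)))
  (.leaf (nat_lit 36612286665)))
  (.node (.node (.leaf (nat_lit 100450))
  (.leaf (nat_lit 495)))
  (.leaf (nat_lit 132))))
def c37_N : Tr := .node (.node (.node c37_N_0
  c37_N_1)
  (.node c37_N_2
  c37_N_3))
  (.node (.node c37_N_4
  c37_N_5)
  (.node c37_N_6
  c37_N_7))
noncomputable def c37 : TC :=
  ⟨[.l 0, .l 1, .l 2, .l 3, .l 4, .l 5, .l 6, .l 7, .l 8, .l 9, .l 10, .l 11, .l 12, .l 13, .l 14, .l 15, .l 16, .l 17, .l 18],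
    (nat_lit 8), (nat_lit 10), (nat_lit 0x4a307b9ac5a547418a418820), (nat_lit 1), (nat_lit 181), (nat_lit 0), (nat_lit 32), (nat_lit 6), (nat_lit 109),
    get (nat_lit 10) (nat_lit 0x400c0400c02010030080400c02010030080400c02010030080400c02010030080400c02010030080400c02010030080400c02010030080400c02010030080400c0201003008040100401004020040100701404010030200501006014050100401004010040100400c04010040100401004010040100401009014040100501405010040180401007), Tr.get c37_N, get (nat_lit 20) (nat_lit 0x3ff003ff003ff003ff003ff003ff003ff003ff003ff003ff003ff003ff003ff003ff003ff003ff003ff003ff003ff003ff003ff003ff003ff003ff003ff003ff003ff003ff003ff003ff003ff003ff003ff003ff003ff003ff003ff003ff003ff003ff003ff003ff003ff003ff003ff003ff003ff003ff003ff003ff003ff003ff003ff003ff003ff003ff0004d0004b0004a0004900048000460004500044000400003f0003e0003c0003a0003900038000370003600034000330003200031000300002f0002e0002d0002c0002b0002a0002900028000270002600025000230002200021000200001f0001e0001d0001c0001700016000150001200011000100000f0000a00004000020000100000),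
    Tr.get3 c37_F (nat_lit 26) (nat_lit 5), Tr.get3 c37_T (nat_lit 8) (nat_lit 6), Tr.get c37_P⟩

theorem c37_head : c37.headOK rn36 ivA = true := by decide +kernel

theorem c37_b0 : allFrom (nat_lit 0) (nat_lit 6) c37.blockOK = true := by decide +kernel

theorem c37_blocks : ∀ t < c37.k, c37.blockOK t = true :=
  (of_allFrom_append of_lt_zero c37_b0)

theorem c37_mem0 {G : Type*} [Group G] {γ : ℕ → G} (hL : Lab γ ivA) (hr : ∀ t ∈ rn36, t.ev γ = 1) {K : Subgroup G}
    (hK : ∀ t ∈ ([] : List W), t.ev γ ∈ K) :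
    W.ev γ (.mul (.mul (.mul (.mul (.mul (.l 3) (.l 17)) (.l 3)) (.l 17)) (.l 14)) (.l 13)) ∈ K :=
  TC.mem (D := c37) hL (List.forall_mem_cons.2 ⟨hL.zero_mem K, hK⟩) hr c37_head c37_blocks
    (n := (nat_lit 6)) (w := (nat_lit 451448355)) (st := (nat_lit 0x240bb9c0601002)) (by decide +kernel) (by decide +kernel)

theorem c37_mem1 {G : Type*} [Group G] {γ : ℕ → G} (hL : Lab γ ivA) (hr : ∀ t ∈ rn36, t.ev γ = 1) {K : Subgroup G}
    (hK : ∀ t ∈ ([] : List W), t.ev γ ∈ K) :
    W.ev γ (.mul (.mul (.mul (.mul (.l 3) (.l 18)) (.l 3)) (.l 18)) (.l 14)) ∈ K :=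
  TC.mem (D := c37) hL (List.forall_mem_cons.2 ⟨hL.zero_mem K, hK⟩) hr c37_head c37_blocks
    (n := (nat_lit 5)) (w := (nat_lit 15273539)) (st := (nat_lit 21521024169986)) (by decide +kernel) (by decide +kernel)

theorem c37_mem2 {G : Type*} [Group G] {γ : ℕ → G} (hL : Lab γ ivA) (hr : ∀ t ∈ rn36, t.ev γ = 1) {K : Subgroup G}
    (hK : ∀ t ∈ ([] : List W), t.ev γ ∈ K) :
    W.ev γ (.mul (.mul (.mul (.mul (.mul (.l 6) (.l 16)) (.l 6)) (.l 16)) (.l 14)) (.l 13)) ∈ K :=
  TC.mem (D := c37) hL (List.forall_mem_cons.2 ⟨hL.zero_mem K, hK⟩) hr c37_head c37_blocks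
    (n := (nat_lit 6)) (w := (nat_lit 451418630)) (st := (nat_lit 0x240b7081a06016)) (by decide +kernel) (by decide +kernel)

theorem c37_mem3 {G : Type*} [Group G] {γ : ℕ → G} (hL : Lab γ ivA) (hr : ∀ t ∈ rn36, t.ev γ = 1) {K : Subgroup G}
    (hK : ∀ t ∈ ([] : List W), t.ev γ ∈ K) :
    W.ev γ (.mul (.mul (.mul (.mul (.l 6) (.l 18)) (.l 6)) (.l 18)) (.l 13)) ∈ K :=
  TC.mem (D := c37) hL (List.forall_mem_cons.2 ⟨hL.zero_mem K, hK⟩) hr c37_head c37_blocks
    (n := (nat_lit 5)) (w := (nat_lit 14228038)) (st := (nat_lit 10674101057558)) (by decide +kernel) (by decide +kernel)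

theorem c37_mem4 {G : Type*} [Group G] {γ : ℕ → G} (hL : Lab γ ivA) (hr : ∀ t ∈ rn36, t.ev γ = 1) {K : Subgroup G}
    (hK : ∀ t ∈ ([] : List W), t.ev γ ∈ K) :
    W.ev γ (.mul (.mul (.mul (.mul (.l 7) (.l 16)) (.inv (.l 7))) (.l 16)) (.l 14)) ∈ K :=
  TC.mem (D := c37) hL (List.forall_mem_cons.2 ⟨hL.zero_mem K, hK⟩) hr c37_head c37_blocks
    (n := (nat_lit 5)) (w := (nat_lit 15213063)) (st := (nat_lit 21570443583526)) (by decide +kernel) (by decide +kernel)

theorem c37_mem5 {G : Type*} [Group G] {γ : ℕ → G} (hL : Lab γ ivA) (hr : ∀ t ∈ rn36, t.ev γ = 1) {K : Subgroup G}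
    (hK : ∀ t ∈ ([] : List W), t.ev γ ∈ K) :
    W.ev γ (.mul (.mul (.mul (.l 13) (.l 17)) (.l 13)) (.l 17)) ∈ K :=
  TC.mem (D := c37) hL (List.forall_mem_cons.2 ⟨hL.zero_mem K, hK⟩) hr c37_head c37_blocks
    (n := (nat_lit 4)) (w := (nat_lit 570925)) (st := (nat_lit 53301262344)) (by decide +kernel) (by decide +kernel)

theorem c37_mem6 {G : Type*} [Group G] {γ : ℕ → G} (hL : Lab γ ivA) (hr : ∀ t ∈ rn36, t.ev γ = 1) {K : Subgroup G}
    (hK : ∀ t ∈ ([] : List W), t.ev γ ∈ K) :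
    W.ev γ (.mul (.mul (.mul (.l 13) (.l 18)) (.l 13)) (.l 18)) ∈ K :=
  TC.mem (D := c37) hL (List.forall_mem_cons.2 ⟨hL.zero_mem K, hK⟩) hr c37_head c37_blocks
    (n := (nat_lit 4)) (w := (nat_lit 603725)) (st := (nat_lit 57617188872)) (by decide +kernel) (by decide +kernel)

theorem c37_mem7 {G : Type*} [Group G] {γ : ℕ → G} (hL : Lab γ ivA) (hr : ∀ t ∈ rn36, t.ev γ = 1) {K : Subgroup G}
    (hK : ∀ t ∈ ([] : List W), t.ev γ ∈ K) :
    W.ev γ (.mul (.mul (.mul (.l 14) (.l 16)) (.l 14)) (.l 16)) ∈ K :=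
  TC.mem (D := c37) hL (List.forall_mem_cons.2 ⟨hL.zero_mem K, hK⟩) hr c37_head c37_blocks
    (n := (nat_lit 4)) (w := (nat_lit 539150)) (st := (nat_lit 61709791250)) (by decide +kernel) (by decide +kernel)

theorem c37_mem8 {G : Type*} [Group G] {γ : ℕ → G} (hL : Lab γ ivA) (hr : ∀ t ∈ rn36, t.ev γ = 1) {K : Subgroup G}
    (hK : ∀ t ∈ ([] : List W), t.ev γ ∈ K) :
    W.ev γ (.mul (.mul (.mul (.l 14) (.l 18)) (.l 14)) (.l 18)) ∈ K :=
  TC.mem (D := c37) hL (List.forall_mem_cons.2 ⟨hL.zero_mem K, hK⟩) hr c37_head c37_blocks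
    (n := (nat_lit 4)) (w := (nat_lit 604750)) (st := (nat_lit 57619851282)) (by decide +kernel) (by decide +kernel)

def c37_loops : List W := [.mul (.mul (.mul (.mul (.mul (.l 3) (.l 17)) (.l 3)) (.l 17)) (.l 14)) (.l 13), .mul (.mul (.mul (.mul (.l 3) (.l 18)) (.l 3)) (.l 18)) (.l 14), .mul (.mul (.mul (.mul (.mul (.l 6) (.l 16)) (.l 6)) (.l 16)) (.l 14)) (.l 13), .mul (.mul (.mul (.mul (.l 6) (.l 18)) (.l 6)) (.l 18)) (.l 13), .mul (.mul (.mul (.mul (.l 7) (.l 16)) (.inv (.l 7))) (.l 16)) (.l 14), .mul (.mul (.mul (.l 13) (.l 17)) (.l 13)) (.l 17), .mul (.mul (.mul (.l 13) (.l 18)) (.l 13)) (.l 18), .mul (.mul (.mul (.l 14) (.l 16)) (.l 14)) (.l 16), .mul (.mul (.mul (.l 14) (.l 18)) (.l 14)) (.l 18)]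

theorem c37_mems {G : Type*} [Group G] {γ : ℕ → G} (hL : Lab γ ivA) (hr : ∀ t ∈ rn36, t.ev γ = 1) {K : Subgroup G}
    (hK : ∀ t ∈ ([] : List W), t.ev γ ∈ K) :
    ∀ t ∈ c37_loops, t.ev γ ∈ K :=
  List.forall_mem_cons.2 ⟨c37_mem0 hL hr hK,
    List.forall_mem_cons.2 ⟨c37_mem1 hL hr hK,
    List.forall_mem_cons.2 ⟨c37_mem2 hL hr hK,
    List.forall_mem_cons.2 ⟨c37_mem3 hL hr hK,
    List.forall_mem_cons.2 ⟨c37_mem4 hL hr hK,
    List.forall_mem_cons.2 ⟨c37_mem5 hL hr hK,
    List.forall_mem_cons.2 ⟨c37_mem6 hL hr hK,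
    List.forall_mem_cons.2 ⟨c37_mem7 hL hr hK,
    List.forall_mem_cons.2 ⟨c37_mem8 hL hr hK,
    fun _ h => absurd h List.not_mem_nil⟩⟩⟩⟩⟩⟩⟩⟩⟩

def rn38 : List W := [.mul (.mul (.mul (.mul (.mul (.l 3) (.l 17)) (.l 3)) (.l 17)) (.l 14)) (.l 13), .mul (.mul (.mul (.mul (.l 3) (.l 18)) (.l 3)) (.l 18)) (.l 14), .mul (.mul (.mul (.mul (.mul (.l 6) (.l 16)) (.l 6)) (.l 16)) (.l 14)) (.l 13), .mul (.mul (.mul (.mul (.l 6) (.l 18)) (.l 6)) (.l 18)) (.l 13), .mul (.mul (.mul (.mul (.l 7) (.l 16)) (.inv (.l 7))) (.l 16)) (.l 14), .mul (.mul (.mul (.l 13) (.l 17)) (.l 13)) (.l 17), .mul (.mul (.mul (.l 13) (.l 18)) (.l 13)) (.l 18), .mul (.mul (.mul (.l 14) (.l 16)) (.l 14)) (.l 16), .mul (.mul (.mul (.l 14) (.l 18)) (.l 14)) (.l 18)] ++ rn36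

def c39_F : Tr := .leaf (nat_lit 0x70770d03900d00700e04003a33834364064363e6421be1c163164188e8c083e84074073f83d83f88d8bf8bc8be73e73d8bb8bd73c73b72371d02401d1a21841b81a189d8b58868b883483873873672b72502502c22b20520422a2372298338378328368858b61b41a02282348b08b47347326b36b48af8b273072f22722f1891ae6ad6a760961f18119f71c71610511c10411b10311a10211910111871570f0850950840940830930820920810918438311c21b18c18ae7c078b6bf68b7be78a6bd68a7bc7896bb6898ba8877397077b87837377036b66831b51837b47827337026b26823313027b07816af68162e60122d20172c72b6ab6aa8aa8a98298288a88a78278262262002252067247236a36a28a28a18218208a089f81f81e19e18019d18669c69b89b89a81a81989989881881711710011610669569489489381381289289181181009008008f08670e70d68d68c88c88b80b80a88a889809808608600607606706705685684884883803802882881801800000000)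
def c39_T : Tr := .leaf (nat_lit 0x870a0c07ef9ebc76e9cb86ed9ab466c98b05eb96ac56a94a84e992a446890a03e78e9c3668c982e58a9426488901e3868c16284880e182840608080)
def c39_P : Tr := .node (.leaf (nat_lit 0x62160000fcb0c20692e0003414c02b8010a1517e6e048020794968af5e002071b80c670020336018ca004246c0482c0080880a12faad6400800b056aa4a20001eb056aac0084cc869002153419c00054c8042f80101178c20042a5e2da9000850b8a0518010b13898032d804070f8781109800080f878030000c160313800412384d82c000206c9904800058d12e070000a192540a00016301700c000283c0c48001030a91e0b00005142341200008264581c0001c48890280002088400300007))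
  (.leaf (nat_lit 0xff800ff800ff800ff800ff800ffbe4e40007e1d7b9ce008fdd0f43a401241d01ccc793c6010450c6232ac594008028642bbdcc0002084753b40005904a73bb65bc00800822e014c600822e4708740084dc8e36e801019f9020042a7e0b1ec00848fc190d80101371b6d9002133d1f400854f4143b801011d8f20042ad5240001fb38d4096991c93010000b06b31a04500000212dd94000186a36b259a3b00200642e41a00426c85dac40080cd87100215))
def c39_N_0 : Tr := .node (.node (.node (.node (.leaf (nat_lit 451448355))
  (.leaf (nat_lit 14350)))
  (.leaf (nat_lit 132)))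
  (.node (.leaf (nat_lit 16888332))
  (.leaf (nat_lit 329))))
  (.node (.node (.node (.leaf (nat_lit 428450))
  (.leaf (nat_lit 561)))
  (.leaf (nat_lit 6150)))
  (.node (.leaf (nat_lit 33))
  (.leaf (nat_lit 396))))
def c39_N_1 : Tr := .node (.node (.node (.node (.leaf (nat_lit 558625))
  (.leaf (nat_lit 528)))
  (.leaf (nat_lit 165)))
  (.node (.leaf (nat_lit 144525))
  (.leaf (nat_lit 9226))))
  (.node (.node (.leaf (nat_lit 527875))
  (.leaf (nat_lit 232)))
  (.node (.leaf (nat_lit 2050))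
  (.leaf (nat_lit 429))))
def c39_N_2 : Tr := .node (.node (.node (.node (.leaf (nat_lit 570925))
  (.leaf (nat_lit 495)))
  (.leaf (nat_lit 4100)))
  (.node (.leaf (nat_lit 538125))
  (.leaf (nat_lit 298))))
  (.node (.node (.node (.leaf (nat_lit 526850))
  (.leaf (nat_lit 0)))
  (.leaf (nat_lit 263)))
  (.node (.leaf (nat_lit 66))
  (.leaf (nat_lit 12300))))
def c39_N_3 : Tr := .node (.node (.node (.node (.leaf (nat_lit 460225))
  (.leaf (nat_lit 16400)))
  (.leaf (nat_lit 198)))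
  (.node (.leaf (nat_lit 110700))
  (.leaf (nat_lit 363))))
  (.node (.node (.leaf (nat_lit 14160388))
  (.leaf (nat_lit 7176)))
  (.node (.leaf (nat_lit 99))
  (.leaf (nat_lit 462))))
def c39_N_4 : Tr := .node (.node (.node (.node (.leaf (nat_lit 451418630))
  (.leaf (nat_lit 495)))
  (.leaf (nat_lit 132)))
  (.node (.leaf (nat_lit 18035244))
  (.leaf (nat_lit 10249))))
  (.node (.node (.node (.leaf (nat_lit 461250))
  (.leaf (nat_lit 17425)))
  (.leaf (nat_lit 263)))
  (.node (.leaf (nat_lit 1025))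
  (.leaf (nat_lit 396))))
def c39_N_5 : Tr := .node (.node (.node (.node (.leaf (nat_lit 427425))
  (.leaf (nat_lit 528)))
  (.leaf (nat_lit 5125)))
  (.node (.leaf (nat_lit 15821))
  (.leaf (nat_lit 363))))
  (.node (.node (.leaf (nat_lit 463300))
  (.leaf (nat_lit 232)))
  (.node (.leaf (nat_lit 99))
  (.leaf (nat_lit 13325))))
def c39_N_6 : Tr := .node (.node (.node (.node (.leaf (nat_lit 539150))
  (.leaf (nat_lit 15375)))
  (.leaf (nat_lit 165)))
  (.node (.leaf (nat_lit 571950))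
  (.leaf (nat_lit 298))))
  (.node (.node (.node (.leaf (nat_lit 559650))
  (.leaf (nat_lit 0)))
  (.leaf (nat_lit 8199)))
  (.node (.leaf (nat_lit 66))
  (.leaf (nat_lit 429))))
def c39_N_7 : Tr := .node (.node (.node (.node (.leaf (nat_lit 525825))
  (.leaf (nat_lit 561)))
  (.leaf (nat_lit 198)))
  (.node (.leaf (nat_lit 33))
  (.leaf (nat_lit 11275))))
  (.node (.node (.leaf (nat_lit 15241764))
  (.leaf (nat_lit 329)))
  (.node (.leaf (nat_lit 3075))
  (.leaf (nat_lit 462))))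
def c39_N : Tr := .node (.node (.node c39_N_0
  c39_N_1)
  (.node c39_N_2
  c39_N_3))
  (.node (.node c39_N_4
  c39_N_5)
  (.node c39_N_6
  c39_N_7))
noncomputable def c39 : TC :=
  ⟨[.l 0, .l 1, .l 2, .l 3, .l 4, .l 5, .l 6, .l 7, .l 8, .l 9, .l 10, .l 11, .l 12, .l 13, .l 14, .l 15, .l 16, .l 17],
    (nat_lit 7), (nat_lit 9), (nat_lit 0x2307b9ac5a547418a418820), (nat_lit 1), (nat_lit 68), (nat_lit 0), (nat_lit 32), (nat_lit 2), (nat_lit 76),
    get (nat_lit 10) (nat_lit 0x1003010030080400c02010030080400c02010030080400c02010030080400c02010030080400c02010030080400c02010030080400c02010030080400c02010030080400c0401004014050140501004010040100401004010040100401806), Tr.get c39_N, get (nat_lit 20) (nat_lit 0x3ff003ff003ff003ff003ff003ff003ff003ff003ff003ff003ff003ff003ff003ff003ff003ff003ff003ff003ff003ff003ff003ff003ff003ff003ff003ff003ff003ff003ff003ff003ff003ff003ff003ff003ff003ff003ff003ff003ff003ff003ff003ff003ff003ff003ff003ff003ff003ff003ff003ff003ff003ff003ff000530003300029000280002700024000230001a00019000180001700014000130001200011000100000f0000e0000a00007000050000200000),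
    Tr.get3 c39_F (nat_lit 24) (nat_lit 5), Tr.get3 c39_T (nat_lit 7) (nat_lit 7), Tr.get c39_P⟩

theorem c39_head : c39.headOK rn38 ivA = true := by decide +kernel

theorem c39_b0 : allFrom (nat_lit 0) (nat_lit 2) c39.blockOK = true := by decide +kernel

theorem c39_blocks : ∀ t < c39.k, c39.blockOK t = true :=
  (of_allFrom_append of_lt_zero c39_b0)

theorem c39_mem0 {G : Type*} [Group G] {γ : ℕ → G} (hL : Lab γ ivA) (hr : ∀ t ∈ rn38, t.ev γ = 1) {K : Subgroup G}
    (hK : ∀ t ∈ ([] : List W), t.ev γ ∈ K) :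
    W.ev γ (.mul (.mul (.mul (.mul (.pow (.mul (.l 16) (.l 17)) 2) (.l 13)) (.l 14)) (.l 12)) (.inv (.mul (.l 12) (.mul (.mul (.pow (.mul (.l 16) (.l 17)) 2) (.l 13)) (.l 14))))) ∈ K :=
  TC.mem (D := c39) hL (List.forall_mem_cons.2 ⟨hL.zero_mem K, hK⟩) hr c39_head c39_blocks
    (n := (nat_lit 14)) (w := (nat_lit 0x1908c22d731cd8c230)) (st := (nat_lit 0x22130a85c321b7d838180a040180802)) (by decide +kernel) (by decide +kernel)

theorem c39_mem1 {G : Type*} [Group G] {γ : ℕ → G} (hL : Lab γ ivA) (hr : ∀ t ∈ rn38, t.ev γ = 1) {K : Subgroup G}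
    (hK : ∀ t ∈ ([] : List W), t.ev γ ∈ K) :
    W.ev γ (.mul (.mul (.mul (.mul (.pow (.mul (.l 16) (.l 17)) 2) (.l 13)) (.l 14)) (.l 1)) (.inv (.mul (.l 1) (.mul (.mul (.pow (.mul (.l 16) (.l 17)) 2) (.l 13)) (.l 14))))) ∈ K :=
  TC.mem (D := c39) hL (List.forall_mem_cons.2 ⟨hL.zero_mem K, hK⟩) hr c39_head c39_blocks
    (n := (nat_lit 14)) (w := (nat_lit 0x308c22d705cd8c230)) (st := (nat_lit 0x42231289c522b49078180a040180802)) (by decide +kernel) (by decide +kernel)

theorem c39_mem2 {G : Type*} [Group G] {γ : ℕ → G} (hL : Lab γ ivA) (hr : ∀ t ∈ rn38, t.ev γ = 1) {K : Subgroup G}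
    (hK : ∀ t ∈ ([] : List W), t.ev γ ∈ K) :
    W.ev γ (.mul (.mul (.mul (.mul (.pow (.mul (.l 16) (.l 17)) 2) (.l 13)) (.l 14)) (.l 2)) (.inv (.mul (.l 2) (.mul (.mul (.pow (.mul (.l 16) (.l 17)) 2) (.l 13)) (.l 14))))) ∈ K :=
  TC.mem (D := c39) hL (List.forall_mem_cons.2 ⟨hL.zero_mem K, hK⟩) hr c39_head c39_blocks
    (n := (nat_lit 14)) (w := (nat_lit 0x508c22d709cd8c230)) (st := (nat_lit 0x5e31198d46e394f0b0180a040180802)) (by decide +kernel) (by decide +kernel)

theorem c39_mem3 {G : Type*} [Group G] {γ : ℕ → G} (hL : Lab γ ivA) (hr : ∀ t ∈ rn38, t.ev γ = 1) {K : Subgroup G}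
    (hK : ∀ t ∈ ([] : List W), t.ev γ ∈ K) :
    W.ev γ (.mul (.mul (.mul (.mul (.pow (.mul (.l 16) (.l 17)) 2) (.l 13)) (.l 14)) (.l 3)) (.inv (.mul (.l 3) (.mul (.mul (.pow (.mul (.l 16) (.l 17)) 2) (.l 13)) (.l 14))))) ∈ K :=
  TC.mem (D := c39) hL (List.forall_mem_cons.2 ⟨hL.zero_mem K, hK⟩) hr c39_head c39_blocks
    (n := (nat_lit 14)) (w := (nat_lit 0x708c22d70dcd8c230)) (st := (nat_lit 0x7a3f2090c8a476b0e8180a040180802)) (by decide +kernel) (by decide +kernel)

theorem c39_mem4 {G : Type*} [Group G] {γ : ℕ → G} (hL : Lab γ ivA) (hr : ∀ t ∈ rn38, t.ev γ = 1) {K : Subgroup G}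
    (hK : ∀ t ∈ ([] : List W), t.ev γ ∈ K) :
    W.ev γ (.mul (.mul (.mul (.mul (.pow (.mul (.l 16) (.l 17)) 2) (.l 13)) (.l 14)) (.l 4)) (.inv (.mul (.l 4) (.mul (.mul (.pow (.mul (.l 16) (.l 17)) 2) (.l 13)) (.l 14))))) ∈ K :=
  TC.mem (D := c39) hL (List.forall_mem_cons.2 ⟨hL.zero_mem K, hK⟩) hr c39_head c39_blocks
    (n := (nat_lit 14)) (w := (nat_lit 0x908c22d711cd8c230)) (st := (nat_lit 0x9a4f2894caa5763128180a040180802)) (by decide +kernel) (by decide +kernel)

def c39_loops : List W := [.mul (.mul (.mul (.mul (.pow (.mul (.l 16) (.l 17)) 2) (.l 13)) (.l 14)) (.l 12)) (.inv (.mul (.l 12) (.mul (.mul (.pow (.mul (.l 16) (.l 17)) 2) (.l 13)) (.l 14)))), .mul (.mul (.mul (.mul (.pow (.mul (.l 16) (.l 17)) 2) (.l 13)) (.l 14)) (.l 1)) (.inv (.mul (.l 1) (.mul (.mul (.pow (.mul (.l 16) (.l 17)) 2) (.l 13)) (.l 14)))), .mul (.mul (.mul (.mul (.pow (.mul (.l 16) (.l 17)) 2) (.l 13)) (.l 14)) (.l 2)) (.inv (.mul (.l 2) (.mul (.mul (.pow (.mul (.l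 16) (.l 17)) 2) (.l 13)) (.l 14)))), .mul (.mul (.mul (.mul (.pow (.mul (.l 16) (.l 17)) 2) (.l 13)) (.l 14)) (.l 3)) (.inv (.mul (.l 3) (.mul (.mul (.pow (.mul (.l 16) (.l 17)) 2) (.l 13)) (.l 14)))), .mul (.mul (.mul (.mul (.pow (.mul (.l 16) (.l 17)) 2) (.l 13)) (.l 14)) (.l 4)) (.inv (.mul (.l 4) (.mul (.mul (.pow (.mul (.l 16) (.l 17)) 2) (.l 13)) (.l 14))))]

theorem c39_mems {G : Type*} [Group G] {γ : ℕ → G} (hL : Lab γ ivA) (hr : ∀ t ∈ rn38, t.ev γ = 1) {K : Subgroup G}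
    (hK : ∀ t ∈ ([] : List W), t.ev γ ∈ K) :
    ∀ t ∈ c39_loops, t.ev γ ∈ K :=
  List.forall_mem_cons.2 ⟨c39_mem0 hL hr hK,
    List.forall_mem_cons.2 ⟨c39_mem1 hL hr hK,
    List.forall_mem_cons.2 ⟨c39_mem2 hL hr hK,
    List.forall_mem_cons.2 ⟨c39_mem3 hL hr hK,
    List.forall_mem_cons.2 ⟨c39_mem4 hL hr hK,
    fun _ h => absurd h List.not_mem_nil⟩⟩⟩⟩⟩

def rn40 : List W := List.map (sb (.mul (.mul (.pow (.mul (.l 16) (.l 17)) 2) (.l 13)) (.l 14))) [.l 30] ++ rn38

def c41_F : Tr := .leaf (nat_lit 0x43e3b203f0328428458b28c552449b02501b81b84474074474174330f3426a96c182284083a83f73b73e8ba88789c8b98338387347378aa8b182b83072c72f1a91a280082970972872272581c82171d72081581a71671970071450f49178078f70170f60c60b6886896866876846856826833453291c419484380f7427068418011c01803bf43e4be53d6bd6bc53c4bb43b3ba63a6394b95383b84374b75366b66b55354b44343b353349c6326314b15303b042f4af52e6ae6ad52d4ac42c3ab52b4aa62a6293a94284a85276a76a65264894a55246a46a35234a26226213a14204a051f69f69e51e49d41d39c61c60061b61a39a41949951869869751749641639561561449451369369251248069169049050048f50e68e68d50d48108c08068b68a60a601409380408381307300306301285280284281203200202201681680000000)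
def c41_T : Tr := .leaf (nat_lit 0x22c4870a0c07ef9ebc76e9cb86ed9ab466c98b05eb96ac56a94a84e992a446890a03e78e9c3668c982e58a9426488901e3868c16284880e182840608080)
def c41_P : Tr := .node (.leaf (nat_lit 0x22056a01b804032213a81002034325d06000048406258000150402550000420154ac002043f2f4ec00c207c3d1e0018381c395c1d40201ce4b733003089c16a6800610371b0d400c1c625895801844c0af2c00308178b85a0060e2229470aa00606292a42400c2050271300183894482300307109463a00610200f87800c1c344f8b001840643017003070a04c240060e11081300081e970100209078381a0060e0b05004190060d0900c22000180e018340002c14030480005018060500009))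
  (.leaf (nat_lit 0xff800ff800ff800ff800ff800ff800ff800ff800ff800ff800ff800ff800ff800ff800ff800ff800ff800ff800ff800ff800ff800ff800ff800ff800ff800ffb54fc0004cd069a1120bb5f4020022984c643310008051455591940201d9a4a0002c6532582a680002))
def c41_N_0 : Tr := .node (.node (.node (.node (.leaf (nat_lit 483967536))
  (.leaf (nat_lit 528)))
  (.leaf (nat_lit 165)))
  (.node (.leaf (nat_lit 532935))
  (.leaf (nat_lit 9226))))
  (.node (.node (.leaf (nat_lit 538125))
  (.leaf (nat_lit 232)))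
  (.node (.leaf (nat_lit 2050))
  (.leaf (nat_lit 429))))
def c41_N_1 : Tr := .node (.node (.node (.node (.leaf (nat_lit 527875))
  (.leaf (nat_lit 561)))
  (.leaf (nat_lit 6150)))
  (.node (.leaf (nat_lit 33))
  (.leaf (nat_lit 396))))
  (.node (.node (.leaf (nat_lit 242957))
  (.leaf (nat_lit 329)))
  (.node (.leaf (nat_lit 132))
  (.leaf (nat_lit 14350))))
def c41_N_2 : Tr := .node (.node (.node (.node (.leaf (nat_lit 539150))
  (.leaf (nat_lit 16400)))
  (.leaf (nat_lit 198)))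
  (.node (.leaf (nat_lit 15821))
  (.leaf (nat_lit 363))))
  (.node (.node (.leaf (nat_lit 177325))
  (.leaf (nat_lit 7176)))
  (.node (.leaf (nat_lit 99))
  (.leaf (nat_lit 462))))
def c41_N_3 : Tr := .node (.node (.node (.node (.leaf (nat_lit 16888332))
  (.leaf (nat_lit 0)))
  (.leaf (nat_lit 263)))
  (.node (.leaf (nat_lit 66))
  (.leaf (nat_lit 12300))))
  (.node (.node (.leaf (nat_lit 469417))
  (.leaf (nat_lit 298)))
  (.node (.leaf (nat_lit 4100))
  (.leaf (nat_lit 495))))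
def c41_N_4 : Tr := .node (.node (.node (.node (.leaf (nat_lit 451418630))
  (.leaf (nat_lit 528)))
  (.leaf (nat_lit 5125)))
  (.node (.leaf (nat_lit 567817))
  (.leaf (nat_lit 363))))
  (.node (.node (.leaf (nat_lit 144525))
  (.leaf (nat_lit 232)))
  (.node (.leaf (nat_lit 99))
  (.leaf (nat_lit 13325))))
def c41_N_5 : Tr := .node (.node (.node (.node (.leaf (nat_lit 465350))
  (.leaf (nat_lit 17425)))
  (.leaf (nat_lit 263)))
  (.node (.leaf (nat_lit 1025))
  (.leaf (nat_lit 396))))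
  (.node (.node (.leaf (nat_lit 1455501))
  (.leaf (nat_lit 10249)))
  (.node (.leaf (nat_lit 132))
  (.leaf (nat_lit 495))))
def c41_N_6 : Tr := .node (.node (.node (.node (.leaf (nat_lit 462275))
  (.leaf (nat_lit 561)))
  (.leaf (nat_lit 198)))
  (.node (.leaf (nat_lit 33))
  (.leaf (nat_lit 11275))))
  (.node (.node (.leaf (nat_lit 210125))
  (.leaf (nat_lit 329)))
  (.node (.leaf (nat_lit 3075))
  (.leaf (nat_lit 462))))
def c41_N_7 : Tr := .node (.node (.node (.node (.leaf (nat_lit 18035244))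
  (.leaf (nat_lit 0)))
  (.leaf (nat_lit 8199)))
  (.node (.leaf (nat_lit 66))
  (.leaf (nat_lit 429))))
  (.node (.node (.leaf (nat_lit 501162))
  (.leaf (nat_lit 298)))
  (.node (.leaf (nat_lit 165))
  (.leaf (nat_lit 15375))))
def c41_N : Tr := .node (.node (.node c41_N_0
  c41_N_1)
  (.node c41_N_2
  c41_N_3))
  (.node (.node c41_N_4
  c41_N_5)
  (.node c41_N_6
  c41_N_7))
noncomputable def c41 : TC :=
  ⟨[.l 0, .l 1, .l 2, .l 3, .l 4, .l 5, .l 6, .l 7, .l 8, .l 9, .l 10, .l 11, .l 12, .l 13, .l 14, .l 15, .l 16, .l 17],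
    (nat_lit 7), (nat_lit 9), (nat_lit 0x2307b9ac5a547418a418820), (nat_lit 1), (nat_lit 70), (nat_lit 0), (nat_lit 32), (nat_lit 2), (nat_lit 72),
    get (nat_lit 10) (nat_lit 0x1003010030080400c02010030080400c02010030080400c02010030080400c02010030080400c02010030080400c02010030080400c02010030080400c020100300803010040100401404010040100401405010040100401806), Tr.get c41_N, get (nat_lit 20) (nat_lit 0x3ff003ff003ff003ff003ff003ff003ff003ff003ff003ff003ff003ff003ff003ff003ff003ff003ff003ff003ff003ff003ff003ff003ff003ff003ff003ff003ff003ff003ff003ff003ff003ff003ff003ff003ff003ff003ff003ff003ff003ff003ff003ff003ff003ff003ff003ff003ff003ff003ff003ff003ff003ff003ff000340003200031000300002f0002e0002d0002c0002b0002a0002800025000240001f0001800017000080000300000),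
    Tr.get3 c41_F (nat_lit 24) (nat_lit 5), Tr.get3 c41_T (nat_lit 7) (nat_lit 7), Tr.get c41_P⟩

theorem c41_head : c41.headOK rn40 ivA = true := by decide +kernel

theorem c41_b0 : allFrom (nat_lit 0) (nat_lit 2) c41.blockOK = true := by decide +kernel

theorem c41_blocks : ∀ t < c41.k, c41.blockOK t = true :=
  (of_allFrom_append of_lt_zero c41_b0)

theorem c41_mem0 {G : Type*} [Group G] {γ : ℕ → G} (hL : Lab γ ivA) (hr : ∀ t ∈ rn40, t.ev γ = 1) {K : Subgroup G}
    (hK : ∀ t ∈ ([] : List W), t.ev γ ∈ K) :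
    W.ev γ (.mul (.mul (.l 13) (.l 4)) (.inv (.mul (.l 4) (.l 13)))) ∈ K :=
  TC.mem (D := c41) hL (List.forall_mem_cons.2 ⟨hL.zero_mem K, hK⟩) hr c41_head c41_blocks
    (n := (nat_lit 4)) (w := (nat_lit 144525)) (st := (nat_lit 976488450)) (by decide +kernel) (by decide +kernel)

theorem c41_mem1 {G : Type*} [Group G] {γ : ℕ → G} (hL : Lab γ ivA) (hr : ∀ t ∈ rn40, t.ev γ = 1) {K : Subgroup G}
    (hK : ∀ t ∈ ([] : List W), t.ev γ ∈ K) :
    W.ev γ (.mul (.mul (.l 13) (.l 5)) (.inv (.mul (.l 5) (.l 13)))) ∈ K :=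
  TC.mem (D := c41) hL (List.forall_mem_cons.2 ⟨hL.zero_mem K, hK⟩) hr c41_head c41_blocks
    (n := (nat_lit 4)) (w := (nat_lit 177325)) (st := (nat_lit 1513885698)) (by decide +kernel) (by decide +kernel)

theorem c41_mem2 {G : Type*} [Group G] {γ : ℕ → G} (hL : Lab γ ivA) (hr : ∀ t ∈ rn40, t.ev γ = 1) {K : Subgroup G}
    (hK : ∀ t ∈ ([] : List W), t.ev γ ∈ K) :
    W.ev γ (.mul (.mul (.l 13) (.l 6)) (.inv (.mul (.l 6) (.l 13)))) ∈ K :=
  TC.mem (D := c41) hL (List.forall_mem_cons.2 ⟨hL.zero_mem K, hK⟩) hr c41_head c41_blocks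
    (n := (nat_lit 4)) (w := (nat_lit 210125)) (st := (nat_lit 2051282946)) (by decide +kernel) (by decide +kernel)

theorem c41_mem3 {G : Type*} [Group G] {γ : ℕ → G} (hL : Lab γ ivA) (hr : ∀ t ∈ rn40, t.ev γ = 1) {K : Subgroup G}
    (hK : ∀ t ∈ ([] : List W), t.ev γ ∈ K) :
    W.ev γ (.mul (.mul (.l 13) (.l 7)) (.inv (.mul (.l 7) (.l 13)))) ∈ K :=
  TC.mem (D := c41) hL (List.forall_mem_cons.2 ⟨hL.zero_mem K, hK⟩) hr c41_head c41_blocks
    (n := (nat_lit 4)) (w := (nat_lit 275693)) (st := (nat_lit 2588680194)) (by decide +kernel) (by decide +kernel)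

theorem c41_mem4 {G : Type*} [Group G] {γ : ℕ → G} (hL : Lab γ ivA) (hr : ∀ t ∈ rn40, t.ev γ = 1) {K : Subgroup G}
    (hK : ∀ t ∈ ([] : List W), t.ev γ ∈ K) :
    W.ev γ (.mul (.mul (.l 13) (.mul (.l 12) (.l 13))) (.inv (.mul (.l 1) (.l 12)))) ∈ K :=
  TC.mem (D := c41) hL (List.forall_mem_cons.2 ⟨hL.zero_mem K, hK⟩) hr c41_head c41_blocks
    (n := (nat_lit 5)) (w := (nat_lit 1455501)) (st := (nat_lit 1737856919554)) (by decide +kernel) (by decide +kernel)

theorem c41_mem5 {G : Type*} [Group G] {γ : ℕ → G} (hL : Lab γ ivA) (hr : ∀ t ∈ rn40, t.ev γ = 1) {K : Subgroup G}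
    (hK : ∀ t ∈ ([] : List W), t.ev γ ∈ K) :
    W.ev γ (.mul (.mul (.l 13) (.mul (.l 9) (.mul (.l 13) (.l 10)))) (.inv (.mul (.l 10) (.mul (.l 13) (.l 9))))) ∈ K :=
  TC.mem (D := c41) hL (List.forall_mem_cons.2 ⟨hL.zero_mem K, hK⟩) hr c41_head c41_blocks
    (n := (nat_lit 7)) (w := (nat_lit 10110711085)) (st := (nat_lit 0x84469b0f0703402)) (by decide +kernel) (by decide +kernel)

theorem c41_mem6 {G : Type*} [Group G] {γ : ℕ → G} (hL : Lab γ ivA) (hr : ∀ t ∈ rn40, t.ev γ = 1) {K : Subgroup G}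
    (hK : ∀ t ∈ ([] : List W), t.ev γ ∈ K) :
    W.ev γ (.mul (.mul (.mul (.l 9) (.mul (.l 13) (.l 10))) (.mul (.l 12) (.mul (.l 7) (.mul (.l 9) (.mul (.l 13) (.mul (.l 10) (.mul (.l 8) (.l 12)))))))) (.inv (.mul (.mul (.l 12) (.mul (.l 7) (.mul (.l 9) (.mul (.l 13) (.mul (.l 10) (.mul (.l 8) (.l 12))))))) (.mul (.l 9) (.mul (.l 13) (.l 10)))))) ∈ K :=
  TC.mem (D := c41) hL (List.forall_mem_cons.2 ⟨hL.zero_mem K, hK⟩) hr c41_head c41_blocks
    (n := (nat_lit 20)) (w := (nat_lit 0x6214d49d8a6a58853527629a9)) (st := (nat_lit 0x1c8ec7a3f2090c8a4724b386c34190c05c2c150a04c24)) (by decide +kernel) (by decide +kernel)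

theorem c41_mem7 {G : Type*} [Group G] {γ : ℕ → G} (hL : Lab γ ivA) (hr : ∀ t ∈ rn40, t.ev γ = 1) {K : Subgroup G}
    (hK : ∀ t ∈ ([] : List W), t.ev γ ∈ K) :
    W.ev γ (.mul (.mul (.mul (.l 7) (.mul (.l 9) (.mul (.l 13) (.mul (.l 10) (.l 8))))) (.mul (.l 12) (.mul (.l 9) (.mul (.l 7) (.mul (.l 9) (.mul (.l 13) (.mul (.l 10) (.mul (.l 8) (.mul (.l 10) (.l 12)))))))))) (.inv (.mul (.mul (.l 12) (.mul (.l 9) (.mul (.l 7) (.mul (.l 9) (.mul (.l 13) (.mul (.l 10) (.mul (.l 8) (.mul (.l 10) (.l 12))))))))) (.mul (.l 7) (.mul (.l 9) (.mul (.l 13) (.mul (.l 10) (.l 8)))))))) ∈ K :=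
  TC.mem (D := c41) hL (List.forall_mem_cons.2 ⟨hL.zero_mem K, hK⟩) hr c41_head c41_blocks
    (n := (nat_lit 28)) (w := (nat_lit 0x6290a6a4e96214d49d8a429a93a58853527)) (st := (nat_lit 0x1c99cd26b369bce2733a9dcf27b3eb58c86230178b85a2c158a852281389812)) (by decide +kernel) (by decide +kernel)

def c41_loops : List W := [.mul (.mul (.l 13) (.l 4)) (.inv (.mul (.l 4) (.l 13))), .mul (.mul (.l 13) (.l 5)) (.inv (.mul (.l 5) (.l 13))), .mul (.mul (.l 13) (.l 6)) (.inv (.mul (.l 6) (.l 13))), .mul (.mul (.l 13) (.l 7)) (.inv (.mul (.l 7) (.l 13))), .mul (.mul (.l 13) (.mul (.l 12) (.l 13))) (.inv (.mul (.l 1) (.l 12))), .mul (.mul (.l 13) (.mul (.l 9) (.mul (.l 13) (.l 10)))) (.inv (.mul (.l 10) (.mul (.l 13) (.l 9)))), .mul (.mul (.mul (.l 9) (.mul (.l 13) (.l 10))) (.mul (.l 12) (.mul (.l 7) (.mul (.l 9) (.mul (.l 13) (.mul (.l 10) (.mul (.l 8) (.l 12)))))))) (.inv (.mul (.mul (.l 12) (.mul (.l 7) (.mul (.l 9) (.mul (.l 13) (.mul (.l 10) (.mul (.l 8)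 (.l 12))))))) (.mul (.l 9) (.mul (.l 13) (.l 10))))), .mul (.mul (.mul (.l 7) (.mul (.l 9) (.mul (.l 13) (.mul (.l 10) (.l 8))))) (.mul (.l 12) (.mul (.l 9) (.mul (.l 7) (.mul (.l 9) (.mul (.l 13) (.mul (.l 10) (.mul (.l 8) (.mul (.l 10) (.l 12)))))))))) (.inv (.mul (.mul (.l 12) (.mul (.l 9) (.mul (.l 7) (.mul (.l 9) (.mul (.l 13) (.mul (.l 10) (.mul (.l 8) (.mul (.l 10) (.l 12))))))))) (.mul (.l 7) (.mul (.l 9) (.mul (.l 13) (.mul (.l 10) (.l 8)))))))]

theorem c41_mems {G : Type*} [Group G] {γ : ℕ → G} (hL : Lab γ ivA) (hr : ∀ t ∈ rn40, t.ev γ = 1) {K : Subgroup G}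
    (hK : ∀ t ∈ ([] : List W), t.ev γ ∈ K) :
    ∀ t ∈ c41_loops, t.ev γ ∈ K :=
  List.forall_mem_cons.2 ⟨c41_mem0 hL hr hK,
    List.forall_mem_cons.2 ⟨c41_mem1 hL hr hK,
    List.forall_mem_cons.2 ⟨c41_mem2 hL hr hK,
    List.forall_mem_cons.2 ⟨c41_mem3 hL hr hK,
    List.forall_mem_cons.2 ⟨c41_mem4 hL hr hK,
    List.forall_mem_cons.2 ⟨c41_mem5 hL hr hK,
    List.forall_mem_cons.2 ⟨c41_mem6 hL hr hK,
    List.forall_mem_cons.2 ⟨c41_mem7 hL hr hK,
    fun _ h => absurd h List.not_mem_nil⟩⟩⟩⟩⟩⟩⟩⟩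

theorem tn40 {γ : ℕ → G} (S : T.Wk D o γ ivA 4096) (F : Fo D) (R : Ps D) (h : Al γ rn40) : T.Fin D :=
  S.good F ((Al.bot (c41_mems S.lab h (nil_bot γ))).triv S.lab (by decide +kernel))

def rn42 : List W := List.map (sb (.mul (.mul (.pow (.mul (.l 16) (.l 17)) 2) (.l 13)) (.l 14))) [.mul (.l 30) (.inv (.l 2))] ++ rn38

def c43_F : Tr := .leaf (nat_lit 0x80040000000100200b00ac05c850c27c13e0a9854c2841500a152726a148a9a77a2bd3a0a709e12b0971202a2c051827814005c01980b00a006501580fc07605502680b811e03a00700e00de08104702140ee08203801e40be0a6052818249b26f05101bc1020a4847c21410a0984d329e430417981c4208106079046820811408604201dc128073044821d5069a651b26944de2a449e29840c2092048817652b23c4a82a8c5022a251fa5714569a08464258aa65a1294966c13609c49eaa804ac2a0949c8cc24a15e02f025d44695a4afa9c153c9652cf167e44329e54e253ca5259c6cdb56c13405b514266d43c99a78f3ca127ea978c7c4fcb0e5960c38651d0ee8412a0a4d26ca951430a51d0ce836c034fa31918054924f1c78e905092649422991788bc49cf2e8a84440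a843428f6bbb5bcaee58e13b8a35ae2d3873bba24a6e58c1398a29c20e7610689d80ec07802601f02e6189497294dc9ce1948b295022c13968cb514b045858b2c53409a06a01881ac0d803002501a25092660338055c2ce6603301f5c2ce7d1410a10304183905ca0a2c910b2891600a1657e6b635280d204a10589f42161366bc35f1270a5510689e02e017708684dda98d76806c1cdc98e4280441b9ad2d6c10e89a5a60d681318991c60e44803418dabad612ad15794ac92511a0814a8055b49629694a490c690b560a4255710d89542a4154729394e409252290153da5cd0b297153848c23011709344062318a5445406204300a812da24d321208931a82d0d51024a5a14d036a1b52dc3ee402851521c0ce4628e151440c244101890c2061321040909c10e4170e38b844823310c08fca6453e29a14f5224a3c48728eca1c53a10988e441c23870738ddc26e3668734d540293468ab4c600702e491a8b0a0252b481a8a4a06528304189ca0a525487a891412922483a885406920485287da30d1e703b875a18d1c484a86ca1251a286146440e217106085841421510108502181130850448204111104884021210e704b83600100c90048262011075002415e00f03854c2a1b50da7553a66614d0a5552a656149071851c14e54524d8d0c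66cb405338cfc55db3cd9d94ec961d38e596cdb66953494754ca51613108f0cb849632d1886cab64e529239549a44db24d91548a6415209112c794e211d03a846c0e051828b2c595da115076844c0dcb10516943c85a50d2138c2c5fa50927d941c8d9b04d81940c8b850027f2bf94560fd04883ec0562f917b83dc1ea2f517083cc041cf0e1083bc03a2ed17583ac1d22e916e33999ca0e502713888d60e1009837c0d5cdce6d836c1062d916b835c1aa2d5165734b85e2d1167833c19a2cd163832c01e0c9044731b98a0c50468b0c5820c105f8afc4884bc23d72eb8d0ab852c72db9582b41052ac947e0b101f82bc158aac5048aac4b24a9224929c8a5aa4d51928c87e2a112e527a4a209d028826c0c64992438a5c52a0950498a4c471c90e1e523a47a28d103822c07a289114721b852485214920c80d48090229f948dc7ce2b51ea4ada78d3389dc4ce27512b81cc08e47122391bc84a06d01291ac845468933519a405c64e11898c4c206102f897c430c5c62d816c09845820411588a8a5450f714b811c50e18913c898c4c600512a4602481041118806045005810c011a40d0568fb410a3c50288ec42a03900288dc41223511880cc060a3050088bc43e02d00f70ab83da28d0f809c005c24e01688b40642120f107880241d201906c829c18e0b805c029c14e00684b422411202683b41a20d102502a411408900701b809a04d000808400000000)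
def c43_T : Tr := .leaf (nat_lit 0xa9a8a7a6a5a4a3a2a1a09f9e9d9c9b9a999897969594939291908f8e8d8c8b8a898887868584838281807f7e7d7c7b7a797877767574737271706f6e6d6c6b6a696867666564636261605f5e5d5c5b5a595857565554535251504f4e4d4c4b4a494847464544434241403f3e3d3c3b3a393837363534333231302f2e2d2c2b2a292827262524232221201f1e1d1c1b1a191817161514131211100f0e0d0c0b0a09080706050403020100)
def c43_P : Tr := .node (.node (.node (.leaf (nat_lit 0x580200311c01084561501e00c01878520200501c0104c500c00501c010404e13005044010084a0c156000221200807c010804455d5a0041b10808560010684055d54004190f808054010603c01031000170e81456000058380115c000150d80856801050340c15a004120c830570000442e079580000f0b01e570000382a078150000d0a01e01400030260095c0000b09002054000282200805000090801e568000201c0095a00007068145680001818058140020504810010008100e0300400203028080001f018040041c))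
  (.leaf (nat_lit 0x136a468e004194d08e0001f1417c0041c4b84a6b801081af0d6680020f4b11043c01049289250f000078e23543c00019265a56e928008852a4999c004184a1a343400021066750d000066b5d18980005e271be5c002126a6720001f48022095a800213492719b801065224800007c2408c0107114964f3000051502d444008451e685615d001078de66cef00015471a53bc000451a684ef0000e6859a38c008311267cef000054611695e120061e452578380003a543c00012e5485c0009e1a94e1080248)))
  (.node (.leaf (nat_lit 0x19f5855e0000a3b0ea3a20b6da0d00800398e462c1357801805b76d1ce0020d370da6d400814d8358d43297034c02000d25c57a0000d340ce331ff6f20100800321bd7f800039bd701dc0020d318c470400814c2300be111f72ec02000bc6adf62d40187989028ad00222028496c069002212d8ac0fdc4004102d00a164010815d025e40041b2c03e10c00054ae2b043000112a8580dc0003ca8121e4000072985279000018a42883e002042798d600000881672194000152718d65000044637648d0000f269d965000039d46ec0009dd225800151c674d9680248))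
  (.leaf (nat_lit 0x150c470e00419539320001f932460041cc1d4600051c16ad00027c0c660003fa8301afa008f2bbbfeb88023f2aefd1da0095242be8a180254a2ef81d20095219bdda68023c40ef5ba60095d1dbcae380251b6af13ba0094505bc66680248916f1992008c2dcbbe1480224b7eeda8a008f14cba8c08025130ec7b054b80414b9d4400057b22e5af20089d48982da41200056e04c0001453047ada91200046d9b30000fed98b400092d7468001466cb527c8024b8bad298a0089e7eb425a80227))))
  (.node (.node (.leaf (nat_lit 0x1c76edc95b200031b97256600209261bb20c000201a720830000463d800001f554150001c25894248385a88700800200040557e002132403c010150041023006034000588a0f039000112216b0340003c865ac070000d1916501c00028845ac110000820806044000199501839000051980207d86002211f846008310041e1f19108c65004101e991660000887819825004181d86607401050746441d004121c84609c00038701181d000081b824074000186c09027000051a82207400010681980007c621805e5741f0ac020005c1684c0140700601))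
  (.leaf (nat_lit 0x97acea120092e50b3a8680224a22b79751380211532cb41c0106d4aa040007d48388df0000eb12760003f492c27f200920ba1a0799d123804131e2ab4ac008114693ca10041a511db40c00020b864c7f00222abc7a0001f4b26a15c7d9ee790040050ab329c0104ab0a64000c29a27a928001fab5f8aa0bc00421501b1120ad0041e6c4a9a0800822a64b8000928d1faa47ea00089f364c0007ce0610bf0041a32982a700106d3e7b69c004124f13a7bc00811e372a98002224e0b20f85300410a5537000487d4800f69080222)))
  (.node (.leaf (nat_lit 0x21b85dcd73a000311284e0e0000b79df05e1b2004135cd786c9de002107a5f05b801081a35a56e0001d6fd795c80005d0a8962a00412900d40005435e3f26e00944d98f063802548123b88e00920d08d9d7802548c909000573ee3333e00946328c40012e1f8a6033360083e1f0656e0020d4221f8a800021068762a000074110278000810165b02a0a48932400801003f96d59801878fc70c170001188608000487596d0ee068000f3e96d05c000386c59c170000b3e0f63d0e0588f1008007ad77581a0004213c16357800034ee584e10000b))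
  (.leaf (nat_lit 0x7fc007fc007fc007fc007fc007fc007fc007fc007fc007fc007fc007fc007fc007fc007fc007fc007fc007fc007fc007fc007fc007fc007fc007ff200080009308c7c088023f2e71d2b2008c30b2de9750f1a4f8ae80000c631600051c5ab5c329e80011c555300051ad64f77b1280222))))
def c43_N_0 : Tr := .node (.node (.node (.node (.leaf (nat_lit 2631451184))
  (.leaf (nat_lit 9226)))
  (.leaf (nat_lit 75817)))
  (.node (.node (.leaf (nat_lit 14095813))
  (.leaf (nat_lit 528)))
  (.leaf (nat_lit 165))))
  (.node (.node (.node (.leaf (nat_lit 592450))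
  (.leaf (nat_lit 429)))
  (.leaf (nat_lit 2050)))
  (.node (.node (.leaf (nat_lit 469417))
  (.leaf (nat_lit 18450)))
  (.leaf (nat_lit 232))))
def c43_N_1 : Tr := .node (.node (.node (.node (.leaf (nat_lit 603725))
  (.leaf (nat_lit 396)))
  (.leaf (nat_lit 33)))
  (.node (.node (.leaf (nat_lit 600617))
  (.leaf (nat_lit 561)))
  (.leaf (nat_lit 6150))))
  (.node (.node (.node (.leaf (nat_lit 428450))
  (.leaf (nat_lit 14350)))
  (.leaf (nat_lit 132)))
  (.node (.leaf (nat_lit 15821))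
  (.leaf (nat_lit 329))))
def c43_N_2 : Tr := .node (.node (.node (.node (.leaf (nat_lit 14228038))
  (.leaf (nat_lit 363)))
  (.leaf (nat_lit 300325)))
  (.node (.node (.leaf (nat_lit 595493))
  (.leaf (nat_lit 16400)))
  (.leaf (nat_lit 198))))
  (.node (.node (.node (.leaf (nat_lit 460225))
  (.leaf (nat_lit 462)))
  (.leaf (nat_lit 99)))
  (.node (.node (.leaf (nat_lit 567817))
  (.leaf (nat_lit 0)))
  (.leaf (nat_lit 7176))))
def c43_N_3 : Tr := .node (.node (.node (.node (.leaf (nat_lit 604750))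
  (.leaf (nat_lit 12300)))
  (.leaf (nat_lit 66)))
  (.node (.node (.leaf (nat_lit 571950))
  (.leaf (nat_lit 594)))
  (.leaf (nat_lit 263))))
  (.node (.node (.node (.leaf (nat_lit 526850))
  (.leaf (nat_lit 495)))
  (.leaf (nat_lit 4100)))
  (.node (.leaf (nat_lit 1214626))
  (.leaf (nat_lit 298))))
def c43_N_4 : Tr := .node (.node (.node (.node (.leaf (nat_lit 451418630))
  (.leaf (nat_lit 363)))
  (.leaf (nat_lit 1124425)))
  (.node (.node (.leaf (nat_lit 529925))
  (.leaf (nat_lit 528)))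
  (.leaf (nat_lit 5125))))
  (.node (.node (.node (.leaf (nat_lit 427425))
  (.leaf (nat_lit 13325)))
  (.leaf (nat_lit 99)))
  (.node (.node (.leaf (nat_lit 501162))
  (.leaf (nat_lit 0)))
  (.leaf (nat_lit 232))))
def c43_N_5 : Tr := .node (.node (.node (.node (.leaf (nat_lit 539150))
  (.leaf (nat_lit 396)))
  (.leaf (nat_lit 1025)))
  (.node (.node (.leaf (nat_lit 538125))
  (.leaf (nat_lit 17425)))
  (.leaf (nat_lit 263))))
  (.node (.node (.node (.leaf (nat_lit 461250))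
  (.leaf (nat_lit 495)))
  (.leaf (nat_lit 132)))
  (.node (.leaf (nat_lit 66625))
  (.leaf (nat_lit 10249))))
def c43_N_6 : Tr := .node (.node (.node (.node (.leaf (nat_lit 570925))
  (.leaf (nat_lit 11275)))
  (.leaf (nat_lit 33)))
  (.node (.node (.leaf (nat_lit 14100937))
  (.leaf (nat_lit 561)))
  (.leaf (nat_lit 198))))
  (.node (.node (.node (.leaf (nat_lit 525825))
  (.leaf (nat_lit 462)))
  (.leaf (nat_lit 3075)))
  (.node (.leaf (nat_lit 599562))
  (.leaf (nat_lit 329))))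
def c43_N_7 : Tr := .node (.node (.node (.node (.leaf (nat_lit 591425))
  (.leaf (nat_lit 429)))
  (.leaf (nat_lit 66)))
  (.node (.node (.leaf (nat_lit 177325))
  (.leaf (nat_lit 594)))
  (.leaf (nat_lit 8199))))
  (.node (.node (.node (.leaf (nat_lit 559650))
  (.leaf (nat_lit 15375)))
  (.leaf (nat_lit 165)))
  (.node (.leaf (nat_lit 9513))
  (.leaf (nat_lit 298))))
def c43_N : Tr := .node (.node (.node c43_N_0
  c43_N_1)
  (.node c43_N_2
  c43_N_3))
  (.node (.node c43_N_4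
  c43_N_5)
  (.node c43_N_6
  c43_N_7))
noncomputable def c43 : TC :=
  ⟨[.l 0, .l 1, .l 2, .l 3, .l 4, .l 5, .l 6, .l 7, .l 8, .l 9, .l 10, .l 11, .l 12, .l 13, .l 14, .l 15, .l 16, .l 17, .l 18],
    (nat_lit 8), (nat_lit 10), (nat_lit 0x4a307b9ac5a547418a418820), (nat_lit 1), (nat_lit 170), (nat_lit 0), (nat_lit 32), (nat_lit 8), (nat_lit 91),
    get (nat_lit 10) (nat_lit 0x400c0400c02010030080400c02010030080400c02010030080400c02010030080400c02010030080400c02010030080400c02010030080400c02010030080400c0201003008040140400c05010030100401004010040100401404010050100401004010040100401004010040100501807), Tr.get c43_N, get (nat_lit 20) (nat_lit 0x3ff003ff003ff003ff003ff003ff003ff003ff003ff003ff003ff003ff003ff003ff003ff003ff003ff003ff003ff003ff003ff003ff003ff003ff003ff003ff003ff003ff003ff003ff003ff003ff003ff003ff003ff003ff003ff003ff003ff003ff003ff003ff003ff003ff003ff003ff003ff003ff003ff003ff003ff003ff003ff003ff003ff003ff000510004d0004c0004b0003d00035000340003300032000300002f0002b000290002800022000210001e0001d0001c0001500014000130001200011000100000f0000d0000c00009000080000700006000040000300000),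
    Tr.get3 c43_F (nat_lit 26) (nat_lit 5), Tr.get3 c43_T (nat_lit 8) (nat_lit 6), Tr.get c43_P⟩

theorem c43_head : c43.headOK rn42 ivA = true := by decide +kernel

theorem c43_b0 : allFrom (nat_lit 0) (nat_lit 8) c43.blockOK = true := by decide +kernel

theorem c43_blocks : ∀ t < c43.k, c43.blockOK t = true :=
  (of_allFrom_append of_lt_zero c43_b0)

theorem c43_mem0 {G : Type*} [Group G] {γ : ℕ → G} (hL : Lab γ ivA) (hr : ∀ t ∈ rn42, t.ev γ = 1) {K : Subgroup G}
    (hK : ∀ t ∈ ([] : List W), t.ev γ ∈ K) :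
    W.ev γ (.l 1) ∈ K :=
  TC.mem (D := c43) hL (List.forall_mem_cons.2 ⟨hL.zero_mem K, hK⟩) hr c43_head c43_blocks
    (n := (nat_lit 1)) (w := (nat_lit 1)) (st := (nat_lit 802)) (by decide +kernel) (by decide +kernel)

def c43_loops : List W := [.l 1]

theorem c43_mems {G : Type*} [Group G] {γ : ℕ → G} (hL : Lab γ ivA) (hr : ∀ t ∈ rn42, t.ev γ = 1) {K : Subgroup G}
    (hK : ∀ t ∈ ([] : List W), t.ev γ ∈ K) :
    ∀ t ∈ c43_loops, t.ev γ ∈ K :=
  List.forall_mem_cons.2 ⟨c43_mem0 hL hr hK,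
    fun _ h => absurd h List.not_mem_nil⟩

theorem tn42 {γ : ℕ → G} (S : T.Wk D o γ ivA 4096) (F : Fo D) (R : Ps D) (h : Al γ rn42) : T.Fin D :=
  (S.dead F (Al.bot (c43_mems S.lab h (nil_bot γ)))).elim

def rn44 : List W := List.map (sb (.mul (.mul (.pow (.mul (.l 16) (.l 17)) 2) (.l 13)) (.l 14))) [.mul (.l 30) (.inv (.l 1))] ++ rn38

def c45_F : Tr := .leaf (nat_lit 0x8008000000100b01402804004e0628688674d15684cf5678cf8d193192a05d02a05803105902f02b05b8548530d30d316415314214204205e09d0b704406003704b02e04900f02600901a0550410290478e68d75444e66e56e64e45651561657407654c256482e84405a04486084974976196194895f94a93094304305c8d08e32c32e32c02e20ca0e17de7e014416073676014315f0c80df14215e6b66de6b16d96af6d852e4d74d35560d50a95354d54af5547537524ab5534ac5526a56d22b12d12b02d02aa2cf4a154e2a82ce49f54d6cc6cd2a62cb09d0cb13014a12e14971a7480c70c151a4c70c00c628c29c03201c14511d0c50b72982c57c27c47147440ab0c26946c21411295134c15144c05114bf73f73d6be6bf4bc53e12713e5124bd73c73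b49053c2912ba0a00ba73a7392902b909f0b95384b711e13828f2b709b0b61131351111340990b41101330960b272b72d6ac6ad68b6ab68a6aa5094a950b4a84a352750c4a648a52472372248652348752228b2a172071f28629f51e49d28529d10b11b10911a09808f08208c01500c11710e08909369169208609050f48e10510f08308d7087066876885054848e88ce8e78cd86683f86583e8e48bc86383a86283786183696093485f83495e93395d93195c9308db8af85a82e8d98ab95892a8578298568278d58a68d48a48d38a38d28a295192185082194f91f84e81d7cd79d74c71d54b49c84a81b94991a8488198c78988468185454969449118438119429108c188f84080f7bf78f73e70f6bd68f7bc78e6bb68e7ba78d6b968d4b850d53748d93690c83580c73470c6b368c2b228c8b188b83080b92f90a92e90992d90892c90792b9068aa8868a98858288057277050a60858a58848248047a37846a26848a18837a078369f68349e50351d48311c10391b90281a80271970249850251748229628209508291490181380179278171170169068148f50150e48128d28110c10190b90088a880809800788780707700686680485500504480283280102100081080000000)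
def c45_T : Tr := .leaf (nat_lit 0x68cf9b2e4c78b0e0bf7aedcb76acd8af5aad4a74a8d09f3a6cc972a4c88f1a2c4870a0c07ef9ebc76e9cb86ed9ab466c98b05eb96ac56a94a84e992a446890a03e78e9c3668c982e58a9426488901e3868c16284880e182840608080)
def c45_P : Tr := .node (.node (.node (.leaf (nat_lit 0x5a3585700004168d5164000085603017000021500c054000045202813000161400a05c0105c4e348453fc010404c3681e0640007048020150041611047002181180803400054440200f004141080605c0103c3e104008603e0180d002130e83d0001a0e80602c000743601017000060d00404c00030db028050c402070e70a80007c18074e50b82b8081c070020142f0021c0980204c000242408c00060200080d000070701f0001a0780202c0186c1a008070001903011002180400f000180200b0001a))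
  (.leaf (nat_lit 0x7fc007fc007fc007fc007fc007fc007fc007fc007fc007fc007fc007fc007fc007fc007fdf00080007c297bc16802524f9ed41e008dd9a7ad6b8022b311cd2656633de934200801e5789e6002163416d28c01044ce5a49f004115cde05b80083ddf2e800148b1770bb80252621da61a0090cb7764b38024f2d97c75979800167517a5d44a124a90000074db66d5830081c5e546741b00021c)))
  (.leaf (nat_lit 0xbe464870000c2f91724400024bc45485000062f0661b400008b243463000012c10b17c00008ae4245d004172b10529c01059435051a5f802070aa40c6b000162a10117c0104577439115e000840a63f45700411290fb16401044a41104b00001288f918c0003ca03e4610000e278f51540003c9c0e84300416270f1144000389a0e83f0001526899000182595540800074960e03b0021b250ef18400030923b45d00006240320d40000d42424ec560020708e0c03500016230ea2040002553190000ac380ed51229128081c)))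
  (.node (.leaf (nat_lit 0xf34812253c018711f3ad4c000192282c0c4000754951001060880882900004210df15c00014840802900002424e25000186c8207827000162001e0a40105d3a4cce1000141e87f002181f87d000181f0dc1dd31004101f0db13c0002c7a07825004151d879002181e01c084000552849c2008c0103528494f7000081c875002181c81a0840084c723643f000071b8710001a1c0d90f40186c6e0681f0001d1b0e90dc000146a060270000c1a01808c0002c683a433000081981808400028643a42d00019))
  (.leaf (nat_lit 0x7398d00022659cb52e00925c858c0007daa71dae8024c595c547a008ac9270c5d802522adc020a0093d586fd098023756dbf6060087c8e235576c9b86f0ae80400615ae6e801858cc4f489004173313932c00048ca4dcc900416329352b400030ca1f081000033212f21401045ad2d000131946a95f2d600831a830992002036995d24c000118e6919800205585a264000819a02e000148b85c19e6760003cc64acf60f84328400800c64b4870000e3111f20400038c2474950000964d8a004183011922400018c01a06d00004)))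
def c45_N_0 : Tr := .node (.node (.node (.node (.leaf (nat_lit 1557709360))
  (.leaf (nat_lit 396)))
  (.leaf (nat_lit 1025)))
  (.node (.node (.leaf (nat_lit 14100937))
  (.leaf (nat_lit 17425)))
  (.leaf (nat_lit 263))))
  (.node (.node (.node (.leaf (nat_lit 460225))
  (.leaf (nat_lit 495)))
  (.leaf (nat_lit 132)))
  (.node (.leaf (nat_lit 15821))
  (.leaf (nat_lit 10249))))
def c45_N_1 : Tr := .node (.node (.node (.node (.leaf (nat_lit 604750))
  (.leaf (nat_lit 13325)))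
  (.leaf (nat_lit 99)))
  (.node (.node (.leaf (nat_lit 469417))
  (.leaf (nat_lit 0)))
  (.leaf (nat_lit 232))))
  (.node (.node (.node (.leaf (nat_lit 526850))
  (.leaf (nat_lit 528)))
  (.leaf (nat_lit 5125)))
  (.node (.leaf (nat_lit 1124425))
  (.leaf (nat_lit 363))))
def c45_N_2 : Tr := .node (.node (.node (.node (.leaf (nat_lit 603725))
  (.leaf (nat_lit 429)))
  (.leaf (nat_lit 66)))
  (.node (.node (.leaf (nat_lit 538125))
  (.leaf (nat_lit 594)))
  (.leaf (nat_lit 8199))))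
  (.node (.node (.node (.leaf (nat_lit 428450))
  (.leaf (nat_lit 15375)))
  (.leaf (nat_lit 165)))
  (.node (.leaf (nat_lit 9513))
  (.leaf (nat_lit 298))))
def c45_N_3 : Tr := .node (.node (.node (.node (.leaf (nat_lit 592450))
  (.leaf (nat_lit 462)))
  (.leaf (nat_lit 3075)))
  (.node (.leaf (nat_lit 567817))
  (.leaf (nat_lit 329))))
  (.node (.node (.node (.leaf (nat_lit 529925))
  (.leaf (nat_lit 561)))
  (.leaf (nat_lit 198)))
  (.node (.leaf (nat_lit 33))
  (.leaf (nat_lit 11275))))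
def c45_N_4 : Tr := .node (.node (.node (.node (.leaf (nat_lit 570925))
  (.leaf (nat_lit 12300)))
  (.leaf (nat_lit 66)))
  (.node (.node (.leaf (nat_lit 600617))
  (.leaf (nat_lit 594)))
  (.leaf (nat_lit 263))))
  (.node (.node (.node (.leaf (nat_lit 525825))
  (.leaf (nat_lit 495)))
  (.leaf (nat_lit 4100)))
  (.node (.leaf (nat_lit 165025))
  (.leaf (nat_lit 298))))
def c45_N_5 : Tr := .node (.node (.node (.node (.leaf (nat_lit 591425))
  (.leaf (nat_lit 462)))
  (.leaf (nat_lit 99)))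
  (.node (.node (.leaf (nat_lit 501162))
  (.leaf (nat_lit 0)))
  (.leaf (nat_lit 7176))))
  (.node (.node (.node (.leaf (nat_lit 14095813))
  (.leaf (nat_lit 16400)))
  (.leaf (nat_lit 198)))
  (.node (.leaf (nat_lit 300325))
  (.leaf (nat_lit 363))))
def c45_N_6 : Tr := .node (.node (.node (.node (.leaf (nat_lit 539150))
  (.leaf (nat_lit 429)))
  (.leaf (nat_lit 2050)))
  (.node (.node (.leaf (nat_lit 177325))
  (.leaf (nat_lit 18450)))
  (.leaf (nat_lit 232))))
  (.node (.node (.node (.leaf (nat_lit 461250))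
  (.leaf (nat_lit 528)))
  (.leaf (nat_lit 165)))
  (.node (.leaf (nat_lit 75817))
  (.leaf (nat_lit 9226))))
def c45_N_7 : Tr := .node (.node (.node (.node (.leaf (nat_lit 427425))
  (.leaf (nat_lit 14350)))
  (.leaf (nat_lit 132)))
  (.node (.leaf (nat_lit 599562))
  (.leaf (nat_lit 329))))
  (.node (.node (.node (.leaf (nat_lit 595493))
  (.leaf (nat_lit 561)))
  (.leaf (nat_lit 6150)))
  (.node (.leaf (nat_lit 33))
  (.leaf (nat_lit 396))))
def c45_N : Tr := .node (.node (.node c45_N_0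
  c45_N_1)
  (.node c45_N_2
  c45_N_3))
  (.node (.node c45_N_4
  c45_N_5)
  (.node c45_N_6
  c45_N_7))
noncomputable def c45 : TC :=
  ⟨[.l 0, .l 1, .l 2, .l 3, .l 4, .l 5, .l 6, .l 7, .l 8, .l 9, .l 10, .l 11, .l 12, .l 13, .l 14, .l 15, .l 16, .l 17, .l 18],
    (nat_lit 7), (nat_lit 10), (nat_lit 0x4a307b9ac5a547418a418820), (nat_lit 1), (nat_lit 105), (nat_lit 0), (nat_lit 32), (nat_lit 5), (nat_lit 86),
    get (nat_lit 10) (nat_lit 0x1003010030080400c02010030080400c02010030080400c02010030080400c02010030080400c02010030080400c02010030080400c02010030080400c02010030080400c02010050100301003010040100401004010050100401404010040100401004010040100401007), Tr.get c45_N, get (nat_lit 20) (nat_lit 0x3ff003ff003ff003ff003ff003ff003ff003ff003ff003ff003ff003ff003ff003ff003ff003ff003ff003ff003ff003ff003ff003ff003ff003ff003ff003ff003ff003ff003ff003ff003ff003ff003ff003ff003ff003ff003ff003ff003ff003ff003ff003ff003ff003ff003ff003ff003ff003ff003ff003ff003ff003ff003ff003ff003ff003ff000510004d0004c0004b00038000340003300032000300002f0002b0002800022000210001e0001d0001c00014000130001200011000100000f0000d0000c0000900008000070000600000),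
    Tr.get3 c45_F (nat_lit 24) (nat_lit 5), Tr.get3 c45_T (nat_lit 7) (nat_lit 7), Tr.get c45_P⟩

theorem c45_head : c45.headOK rn44 ivA = true := by decide +kernel

theorem c45_b0 : allFrom (nat_lit 0) (nat_lit 5) c45.blockOK = true := by decide +kernel

theorem c45_blocks : ∀ t < c45.k, c45.blockOK t = true :=
  (of_allFrom_append of_lt_zero c45_b0)

theorem c45_mem0 {G : Type*} [Group G] {γ : ℕ → G} (hL : Lab γ ivA) (hr : ∀ t ∈ rn44, t.ev γ = 1) {K : Subgroup G}
    (hK : ∀ t ∈ ([] : List W), t.ev γ ∈ K) :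
    W.ev γ (.l 1) ∈ K :=
  TC.mem (D := c45) hL (List.forall_mem_cons.2 ⟨hL.zero_mem K, hK⟩) hr c45_head c45_blocks
    (n := (nat_lit 1)) (w := (nat_lit 1)) (st := (nat_lit 498)) (by decide +kernel) (by decide +kernel)

def c45_loops : List W := [.l 1]

theorem c45_mems {G : Type*} [Group G] {γ : ℕ → G} (hL : Lab γ ivA) (hr : ∀ t ∈ rn44, t.ev γ = 1) {K : Subgroup G}
    (hK : ∀ t ∈ ([] : List W), t.ev γ ∈ K) :
    ∀ t ∈ c45_loops, t.ev γ ∈ K :=
  List.forall_mem_cons.2 ⟨c45_mem0 hL hr hK,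
    fun _ h => absurd h List.not_mem_nil⟩

theorem tn44 {γ : ℕ → G} (S : T.Wk D o γ ivA 4096) (F : Fo D) (R : Ps D) (h : Al γ rn44) : T.Fin D :=
  (S.dead F (Al.bot (c45_mems S.lab h (nil_bot γ)))).elim

def rn46 : List W := List.map (sb (.mul (.mul (.pow (.mul (.l 16) (.l 17)) 2) (.l 13)) (.l 14))) [.mul (.l 30) (.inv (.mul (.l 1) (.l 2)))] ++ rn38

def c47_F : Tr := .leaf (nat_lit 0x11a11b10c10a01b04000a00d03303f00903a03203883684b8c78cb09609509d09e01501701e04201403e04103c03b03d04301c02e03983784a4ae54a0c80c91301488458470c50c61441450a20c47bb7ae0bc0c372e7436bb6c394194293f94073a73f0bd0be7bd7b969c6bd91e93c92c93b13813a71c7397197388b58b78b48b66a36b56af6b491b93392493212613183083172373072272f09209101101382d81112912d0860ad8298100ac08e12812c72c72b69f6ac12712b0a60aa72872771f70408708400800412510782182470871f70771e68e69e70171b70c71869669868668b2cb2b28ca8aa84982a8488262c72a41461222c52a12c42a094391f0c209d0c109c14011a13f1198be8978bd8966bc6940bb09483a80d8b988c83880c53748c2b628c53548b2b428b7337091321095314875304862af28692e9048ad8847ac7846ab68452a4848a98837a87836a76835264830a50831241015234802a22801211000a008009f09e89e88591d91c89c89881b80b91a91981981891890009709691690589589491490e09309281280611111089088f80f80e88e88010d10c90c90b70b70080a809909901088087887886706705685680104103803802882881801800000000)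
def c47_T : Tr := .leaf (nat_lit 0x972a4c88f1a2c4870a0c07ef9ebc76e9cb86ed9ab466c98b05eb96ac56a94a84e992a446890a03e78e9c3668c982e58a9426488901e3868c16284880e182840608080)
def c47_P : Tr := .node (.node (.leaf (nat_lit 0x1a1325f00016330493c0040864091240081cc4ac0413400878c40e308010c1813016238010917930162280107b184c0004026123018900414225fb0800834b40829800071695a0e00005100797abb58138a600800a01fad80002170b55880006158b20043258578000c958104f0000b2a0209a0043a4e288010caad480008eab080001002096a808c000d289421c018140e4b00c0024008860041a3e5184400824780d078000a8f0141d000011b0580600006300b86400010600b1680001058160d00014))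
  (.leaf (nat_lit 0x3fe003fe003fe003fe003fe003fe003fe003fe003fe003fe003fe003fe003fe003fe003fe003fe003fe003fe003fe003ff2a4000011ca03400046f193b560094ceb250ac0126bbe4a678024771c8cc9004467036c812d000211f81c0118ca6b368010012cd34780108c605c000411642000101f62a2b80250)))
  (.leaf (nat_lit 0x79c49cf004a6ed889da00881f10e41c01103aa1afb8024a70435ed0048e7237c2a13000309449c1e0acd6c3700100128542e80209a4966910000a483419e0001a8e53a2c0084118fc7f0000d2288441448020e22080450001b7b3d4010650c3e73000032195c5d00004432d9c800004841d20c0081900343f801039f9bce20020c3e0b8f60000ae1740020c9e93439000013c0a1400040476142f400818e81a38800069c93839000153827066000066e0c1ac0084cd81834801089a82c4700217))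
def c47_N_0 : Tr := .node (.node (.node (.node (.leaf (nat_lit 36991189552))
  (.leaf (nat_lit 396)))
  (.leaf (nat_lit 33)))
  (.node (.node (.leaf (nat_lit 529925))
  (.leaf (nat_lit 561)))
  (.leaf (nat_lit 6150))))
  (.node (.node (.node (.leaf (nat_lit 427425))
  (.leaf (nat_lit 14350)))
  (.leaf (nat_lit 132)))
  (.node (.leaf (nat_lit 567817))
  (.leaf (nat_lit 329))))
def c47_N_1 : Tr := .node (.node (.node (.node (.leaf (nat_lit 604750))
  (.leaf (nat_lit 429)))
  (.leaf (nat_lit 2050)))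
  (.node (.node (.leaf (nat_lit 472525))
  (.leaf (nat_lit 18450)))
  (.leaf (nat_lit 232))))
  (.node (.node (.node (.leaf (nat_lit 461250))
  (.leaf (nat_lit 528)))
  (.leaf (nat_lit 165)))
  (.node (.leaf (nat_lit 1214626))
  (.leaf (nat_lit 9226))))
def c47_N_2 : Tr := .node (.node (.node (.node (.leaf (nat_lit 603725))
  (.leaf (nat_lit 12300)))
  (.leaf (nat_lit 66)))
  (.node (.node (.leaf (nat_lit 14100937))
  (.leaf (nat_lit 594)))
  (.leaf (nat_lit 263))))
  (.node (.node (.node (.leaf (nat_lit 525825))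
  (.leaf (nat_lit 495)))
  (.leaf (nat_lit 4100)))
  (.node (.leaf (nat_lit 66625))
  (.leaf (nat_lit 298))))
def c47_N_3 : Tr := .node (.node (.node (.node (.leaf (nat_lit 591425))
  (.leaf (nat_lit 462)))
  (.leaf (nat_lit 99)))
  (.node (.node (.leaf (nat_lit 177325))
  (.leaf (nat_lit 0)))
  (.leaf (nat_lit 7176))))
  (.node (.node (.node (.leaf (nat_lit 559650))
  (.leaf (nat_lit 16400)))
  (.leaf (nat_lit 198)))
  (.node (.leaf (nat_lit 1124425))
  (.leaf (nat_lit 363))))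
def c47_N_4 : Tr := .node (.node (.node (.node (.leaf (nat_lit 570925))
  (.leaf (nat_lit 396)))
  (.leaf (nat_lit 1025)))
  (.node (.node (.leaf (nat_lit 595493))
  (.leaf (nat_lit 17425)))
  (.leaf (nat_lit 263))))
  (.node (.node (.node (.leaf (nat_lit 460225))
  (.leaf (nat_lit 495)))
  (.leaf (nat_lit 132)))
  (.node (.leaf (nat_lit 15821))
  (.leaf (nat_lit 10249))))
def c47_N_5 : Tr := .node (.node (.node (.node (.leaf (nat_lit 558625))
  (.leaf (nat_lit 13325)))
  (.leaf (nat_lit 99)))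
  (.node (.node (.leaf (nat_lit 571950))
  (.leaf (nat_lit 0)))
  (.leaf (nat_lit 232))))
  (.node (.node (.node (.leaf (nat_lit 526850))
  (.leaf (nat_lit 528)))
  (.leaf (nat_lit 5125)))
  (.node (.leaf (nat_lit 75817))
  (.leaf (nat_lit 363))))
def c47_N_6 : Tr := .node (.node (.node (.node (.leaf (nat_lit 539150))
  (.leaf (nat_lit 429)))
  (.leaf (nat_lit 66)))
  (.node (.node (.leaf (nat_lit 600617))
  (.leaf (nat_lit 594)))
  (.leaf (nat_lit 8199))))
  (.node (.node (.node (.leaf (nat_lit 428450))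
  (.leaf (nat_lit 15375)))
  (.leaf (nat_lit 165)))
  (.node (.leaf (nat_lit 165025))
  (.leaf (nat_lit 298))))
def c47_N_7 : Tr := .node (.node (.node (.node (.leaf (nat_lit 592450))
  (.leaf (nat_lit 462)))
  (.leaf (nat_lit 3075)))
  (.node (.leaf (nat_lit 469417))
  (.leaf (nat_lit 329))))
  (.node (.node (.node (.leaf (nat_lit 14095813))
  (.leaf (nat_lit 561)))
  (.leaf (nat_lit 198)))
  (.node (.leaf (nat_lit 33))
  (.leaf (nat_lit 11275))))
def c47_N : Tr := .node (.node (.node c47_N_0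
  c47_N_1)
  (.node c47_N_2
  c47_N_3))
  (.node (.node c47_N_4
  c47_N_5)
  (.node c47_N_6
  c47_N_7))
noncomputable def c47 : TC :=
  ⟨[.l 0, .l 1, .l 2, .l 3, .l 4, .l 5, .l 6, .l 7, .l 8, .l 9, .l 10, .l 11, .l 12, .l 13, .l 14, .l 15, .l 16, .l 17, .l 18],
    (nat_lit 7), (nat_lit 9), (nat_lit 0x4a307b9ac5a547418a418820), (nat_lit 1), (nat_lit 76), (nat_lit 0), (nat_lit 32), (nat_lit 3), (nat_lit 87),
    get (nat_lit 10) (nat_lit 0x400c0400c02010030080400c02010030080400c02010030080400c02010030080400c02010030080400c02010030080400c02010030080400c02010030080400c020100300805010050100400c04010040100401005010040140401004010040100401004010040100401008), Tr.get c47_N, get (nat_lit 20) (nat_lit 0x3ff003ff003ff003ff003ff003ff003ff003ff003ff003ff003ff003ff003ff003ff003ff003ff003ff003ff003ff003ff003ff003ff003ff003ff003ff003ff003ff003ff003ff003ff003ff003ff003ff003ff003ff003ff003ff003ff003ff003ff003ff003ff003ff003ff003ff003ff003ff003ff003ff003ff003ff003ff003ff003ff003ff003ff0004d0004c0003d000380003500034000320002f0002b000290002700022000210001e0001d0001c0001500014000130001200011000100000f0000d0000c0000b0000900008000070000600000),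
    Tr.get3 c47_F (nat_lit 24) (nat_lit 5), Tr.get3 c47_T (nat_lit 7) (nat_lit 7), Tr.get c47_P⟩

theorem c47_head : c47.headOK rn46 ivA = true := by decide +kernel

theorem c47_b0 : allFrom (nat_lit 0) (nat_lit 3) c47.blockOK = true := by decide +kernel

theorem c47_blocks : ∀ t < c47.k, c47.blockOK t = true :=
  (of_allFrom_append of_lt_zero c47_b0)

theorem c47_mem0 {G : Type*} [Group G] {γ : ℕ → G} (hL : Lab γ ivA) (hr : ∀ t ∈ rn46, t.ev γ = 1) {K : Subgroup G}
    (hK : ∀ t ∈ ([] : List W), t.ev γ ∈ K) :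
    W.ev γ (.mul (.mul (.mul (.mul (.mul (.mul (.mul (.l 16) (.l 17)) (.l 16)) (.l 2)) (.l 1)) (.l 17)) (.l 14)) (.l 13)) ∈ K :=
  TC.mem (D := c47) hL (List.forall_mem_cons.2 ⟨hL.zero_mem K, hK⟩) hr c47_head c47_blocks
    (n := (nat_lit 8)) (w := (nat_lit 462280540720)) (st := (nat_lit 0x58341eac040180802)) (by decide +kernel) (by decide +kernel)

theorem c47_mem1 {G : Type*} [Group G] {γ : ℕ → G} (hL : Lab γ ivA) (hr : ∀ t ∈ rn46, t.ev γ = 1) {K : Subgroup G}
    (hK : ∀ t ∈ ([] : List W), t.ev γ ∈ K) :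
    W.ev γ (.mul (.mul (.mul (.mul (.mul (.l 16) (.l 18)) (.l 16)) (.l 2)) (.l 18)) (.l 14)) ∈ K :=
  TC.mem (D := c47) hL (List.forall_mem_cons.2 ⟨hL.zero_mem K, hK⟩) hr c47_head c47_blocks
    (n := (nat_lit 6)) (w := (nat_lit 488718928)) (st := (nat_lit 810998815532034)) (by decide +kernel) (by decide +kernel)

theorem c47_mem2 {G : Type*} [Group G] {γ : ℕ → G} (hL : Lab γ ivA) (hr : ∀ t ∈ rn46, t.ev γ = 1) {K : Subgroup G}
    (hK : ∀ t ∈ ([] : List W), t.ev γ ∈ K) :
    W.ev γ (.mul (.mul (.mul (.mul (.mul (.mul (.mul (.l 17) (.l 16)) (.l 17)) (.l 2)) (.l 1)) (.l 16)) (.l 14)) (.l 13)) ∈ K :=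
  TC.mem (D := c47) hL (List.forall_mem_cons.2 ⟨hL.zero_mem K, hK⟩) hr c47_head c47_blocks
    (n := (nat_lit 8)) (w := (nat_lit 462246987281)) (st := (nat_lit 0x58344ac8110803c1c)) (by decide +kernel) (by decide +kernel)

theorem c47_mem3 {G : Type*} [Group G] {γ : ℕ → G} (hL : Lab γ ivA) (hr : ∀ t ∈ rn46, t.ev γ = 1) {K : Subgroup G}
    (hK : ∀ t ∈ ([] : List W), t.ev γ ∈ K) :
    W.ev γ (.mul (.mul (.mul (.mul (.mul (.l 17) (.l 18)) (.l 17)) (.l 1)) (.l 18)) (.l 13)) ∈ K :=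
  TC.mem (D := c47) hL (List.forall_mem_cons.2 ⟨hL.zero_mem K, hK⟩) hr c47_head c47_blocks
    (n := (nat_lit 6)) (w := (nat_lit 455132753)) (st := (nat_lit 390158598295580)) (by decide +kernel) (by decide +kernel)

theorem c47_mem4 {G : Type*} [Group G] {γ : ℕ → G} (hL : Lab γ ivA) (hr : ∀ t ∈ rn46, t.ev γ = 1) {K : Subgroup G}
    (hK : ∀ t ∈ ([] : List W), t.ev γ ∈ K) :
    W.ev γ (.mul (.mul (.mul (.mul (.mul (.l 18) (.l 16)) (.l 18)) (.l 2)) (.l 16)) (.l 14)) ∈ K :=
  TC.mem (D := c47) hL (List.forall_mem_cons.2 ⟨hL.zero_mem K, hK⟩) hr c47_head c47_blocks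
    (n := (nat_lit 6)) (w := (nat_lit 486623762)) (st := (nat_lit 813060810892336)) (by decide +kernel) (by decide +kernel)

theorem c47_mem5 {G : Type*} [Group G] {γ : ℕ → G} (hL : Lab γ ivA) (hr : ∀ t ∈ rn46, t.ev γ = 1) {K : Subgroup G}
    (hK : ∀ t ∈ ([] : List W), t.ev γ ∈ K) :
    W.ev γ (.mul (.mul (.mul (.mul (.mul (.l 18) (.l 17)) (.l 18)) (.l 1)) (.l 17)) (.l 13)) ∈ K :=
  TC.mem (D := c47) hL (List.forall_mem_cons.2 ⟨hL.zero_mem K, hK⟩) hr c47_head c47_blocks
    (n := (nat_lit 6)) (w := (nat_lit 454085170)) (st := (nat_lit 391257979908144)) (by decide +kernel) (by decide +kernel)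

def c47_loops : List W := [.mul (.mul (.mul (.mul (.mul (.mul (.mul (.l 16) (.l 17)) (.l 16)) (.l 2)) (.l 1)) (.l 17)) (.l 14)) (.l 13), .mul (.mul (.mul (.mul (.mul (.l 16) (.l 18)) (.l 16)) (.l 2)) (.l 18)) (.l 14), .mul (.mul (.mul (.mul (.mul (.mul (.mul (.l 17) (.l 16)) (.l 17)) (.l 2)) (.l 1)) (.l 16)) (.l 14)) (.l 13), .mul (.mul (.mul (.mul (.mul (.l 17) (.l 18)) (.l 17)) (.l 1)) (.l 18)) (.l 13), .mul (.mul (.mul (.mul (.mul (.l 18) (.l 16)) (.l 18)) (.l 2)) (.l 16)) (.l 14), .mul (.mul (.mul (.mul (.mul (.l 18) (.l 17)) (.l 18)) (.l 1)) (.l 17)) (.l 13)]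

theorem c47_mems {G : Type*} [Group G] {γ : ℕ → G} (hL : Lab γ ivA) (hr : ∀ t ∈ rn46, t.ev γ = 1) {K : Subgroup G}
    (hK : ∀ t ∈ ([] : List W), t.ev γ ∈ K) :
    ∀ t ∈ c47_loops, t.ev γ ∈ K :=
  List.forall_mem_cons.2 ⟨c47_mem0 hL hr hK,
    List.forall_mem_cons.2 ⟨c47_mem1 hL hr hK,
    List.forall_mem_cons.2 ⟨c47_mem2 hL hr hK,
    List.forall_mem_cons.2 ⟨c47_mem3 hL hr hK,
    List.forall_mem_cons.2 ⟨c47_mem4 hL hr hK,
    List.forall_mem_cons.2 ⟨c47_mem5 hL hr hK,
    fun _ h => absurd h List.not_mem_nil⟩⟩⟩⟩⟩⟩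

def rn48 : List W := [.mul (.mul (.mul (.mul (.mul (.mul (.mul (.l 16) (.l 17)) (.l 16)) (.l 2)) (.l 1)) (.l 17)) (.l 14)) (.l 13), .mul (.mul (.mul (.mul (.mul (.l 16) (.l 18)) (.l 16)) (.l 2)) (.l 18)) (.l 14), .mul (.mul (.mul (.mul (.mul (.mul (.mul (.l 17) (.l 16)) (.l 17)) (.l 2)) (.l 1)) (.l 16)) (.l 14)) (.l 13), .mul (.mul (.mul (.mul (.mul (.l 17) (.l 18)) (.l 17)) (.l 1)) (.l 18)) (.l 13), .mul (.mul (.mul (.mul (.mul (.l 18) (.l 16)) (.l 18)) (.l 2)) (.l 16)) (.l 14), .mul (.mul (.mul (.mul (.mul (.l 18) (.l 17)) (.l 18)) (.l 1)) (.l 17)) (.l 13)] ++ rn46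

def c49_F : Tr := .node (.leaf (nat_lit 0x19f0655195067829d8a546951ae20b7c3027401cff6a29afe93f24fe63ed8fd3be50fa8bd22f773ddcf61b846f68bca2f66bd5ae111d84f573d1cf26bcdaf47369cf08bba2f04344eef43a8eed63458ec38e90ec63a18ea13444e962218e7739dc80913243f00fc04d113043b10e844b112843919246976921ace1b40648191c6cb1b98646632d8e68b8e2e683820e56b0dae570d1ce3937e4e28b7a2e08b762df7305cde09482dd0a8c2dc93624dc0a882db0a842da0a802d9835a0d84354ed762398d5633d8d40a542d40a502d30a4c2d20a402d17345cd0625d8d010dc4d00a382d0932a4d00a2c2cf8b262cf0a282ce38f102e00f402e10fc43c00f00a670edca11a9063b18e869e6a75a3a1a6c63968e5a9910e04976a49a386b35a370a242cd93224cd63198cc732dcca620d8ca6b21a36631d8c80a002c709fc2c509ec2c409e82c309c82c209c42c109082c02afca524140ebf08c02bf3af906209042be92f24bd8aee2bc82e20bb62d98b74068eb792ca4b362c58b28ac22b13ab90b082b20af82ae0ae8aaa2ac92a64aa61058a992924a8403cea740b8ea610fc4a61a9463f92824a58a7e2a4893e2a3826609d425ce9b4248e996231896622d895622989362258927241c8e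6a3da90922248f4234e8c602988d8a1e28b620988762058867211c8310d44836a01a3589f628039f107f111447e19f464569f5a3439e907d81e207c69e9a3381da07a68c9a7619e463289ce27971d5c7369d1a7518c467471c5c310900262218084f08bc2502834a4f1010444100c44310084421104401180463038b501f083422d083022c082c22b082822a08242290820228081c227081822608142250810224080c22308082220804221600581165298bc3524cbc65218bb651d8ac25188ac1d146ac65118ab250c8ab65098aa3504caa65018a51cfc6a264f989c74f5c9a1cf06962ceca941ce869434e4c9324e08921cdc6923cd909084d608d24d088d14cc48d1cc868c34c4c8b8cc228a34bcc8524b888594b648494b24838cae28234a8c827ca5e816ca1a81949e47f249887e649587b1c9067b648d8796c89a771c84672248086e1c7c66e147846d0c7426d6c71a6c0c6c26c8c6a26b6c65a6b3460c6b2c5ca6b0c5826b2c54a6a64518690c4c26964498681c446681c406670c3c2670c382663c350638c322617c2de5d6c29a5d242485b0c2025b0c1c25a0c1825914144571c106560c0c2568c0a252940644f7c01e4f6bfda4f0bf82488bf62470bf024733ecc4523e88452be4a4423e08447bdde436bd9a431bd46437bd1e4273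cdc426bc9a4223c48410bc023b63bd83a0bb823a2bb4a3973b1c382baca3823a883873a5c3723a08377b9de357399c350b942336391832438ce322b88a3213844320b802322b7ca310b782312b74a302b70a2c236c82c1b6862c136442c2b60a2b6b5da2a2b58a2a6b55a292b50a29234c8291b486297b45e286b41a282b3ca281b3862813344288b322277b2de276b29a272b24a271320427131c4263318c25231482523108241b0c62423088221b0462213004221afc62112f842112f441d12f041c12ec41b72e9c1a22e481a12e041a42dce1942d8e182ad4a1812d04180acc2180ac82170ac42160ac021512bc4140ab821422b481312b04130aac21312a841212a441172a1c0d629d80d1a9860d129440d7291c0c2a8ca0c228880c1a8460c128040c727dc0b6a79a0b1a7460b7271c0a6a6da0a226880a1a6460a126040a6a5da094258e092a54a0922508091a4c60912484098a462087a41e08723dc086a39a083a350084230e082a2ca081a2860812244087221c072a1ca07221880792164067a11e066a0da062a08a062204806120040621fc80519f860511f440529f0a0421ec80419e860469e5a0329e0a0321dc80319d860379d5e0271d1c0269cda0221c880219c460289c226f81be06e39b906d61b586c91b246b61ad86a89aa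26941a4e6881a2067899e266919a46539950642990a63218c86219886509186460398105f297ca0e917a45d897625c817205b396d05a616985991664586161857895e2564158e5581560548952253914e452394905121448501140420393d04e213880e913644c893224b812e04a392904961258489122447611d846891a2454114e448112043890e242910a4413905040190062f38fd03e18f860e40f4e3c90f243b88ee23a80ea03938e503860e183790de43660d983588d623440d0e3380ce03288ca23190c643038c102f10bc40010b840e90b642c88b222b80ae02a38a902960a582890a2427609d826889a2254094e248092023888e222908a42138850200880200087c20e4078e1d907641c887221b806e01a386901960658189062417605d816885a2154054e148052013884e212904a41138450106041800603d80e4038e0d903640c883220b802e00a382900960258089022407601d806881a2054014e048012003880e202900a40138050000000000))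
  (.leaf (nat_lit 0x387500f007800f00740a702f414034fcd4a652593f8d2233f23b894822ec93622348b802e013464f58ba22e893e74f9cb902e41332cc8ab72ad8b3c22d49370ad432f2cbcab31ad073b94c64b102c411802c011404480ae62ad91005101106385943150c4e40b90346248c945651592261ed8af04940af851e12423809478c8634712b45460ab434364859413484d42129c540236893f74cdd3e227093d3cdd13c64c993c225493b1cbc73814e852f234893a3348d2e0cb83398c9e339125053864d98ee0bbc3366cd5b36423cf35626993462619333cc9133946253164ad93164c192793f653094a652e74b1d2d6a15b2c3254d2b2a14b2b8a5632a221092974a5d286c15b29220c92889be26101c006101bc10c042406e016c120247c8ed3c7d0eb03ac11e2a5cb1d6c75a956b3db1b932651a946648b69b1a8b047008b2a44b196c5da9193325171b1472613e8526230c9241b90723848a07b21e492223049214478f1f646d91d946651c945a51b8c52318645591794125153c4911429a4b042be8b133be11138442111238491009a02f883e210f243c8f68c3a30f24388f493c650e0bc426521948be2af8b0d8432109236090c242c861940250b742dd0a93fe50a8b6230a1c206ed441cf08141c4ea641990714184e823409067205d0589fe3050be83041be87031314503913e45d040405d013c05e6971ad86b59a5b296cad7235485a216488e7161c862220858215c8e721f4856115847f))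
def c49_T : Tr := .leaf (nat_lit 0x52a9348a3d1a8b44a1d0a83409fcfa7b3c9dcea73389bcda6b3499cca633097cba5b2c95caa532893c9a4b2491c8a43208fc7a3b1c8dc6a33188bc5a2b1489c4a231087c3a1b0c85c2a130883c1a0b0481c0a03007fbf9fafc7dbe9f2f87bbd9eaf479bc9e2f077bb9daec75ba9d2e873b99cae471b89c2e06fb79badc6db69b2d86bb59aad469b49a2d067b399acc65b2992c863b198ac461b0982c05faf97abc5dae972b85bad96ab459ac962b057ab95aac55aa952a853a994aa451a8942a04fa793a9c4da6932984ba592a9449a49229047a391a8c45a29128843a190a8441a0902803f9f8fa7c3d9e8f2783b9d8ea74399c8e270379b8da6c359a8d26833998ca6431988c2602f978ba5c2d968b2582b958aa5429948a250279389a4c259289248239188a442190882401f8f87a3c1d8e872381b8d86a34198c86230178b85a2c158a85228138984a241188842200f8783a1c0d86832180b8582a14098482210078381a0c058281208038180a04018080200)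
def c49_P : Tr := .node (.node (.node (.node (.leaf (nat_lit 0x3d0040ed002151d83cd6800109864590b29662ce004021e401873801028e61d60044e3a874800138e81c6b1800050312b500a38c0200c622c110200052afc0e8bf182010742802005f0002813c2700e0031c88857602400044432b900e000242115b0050000a56818040883008380c0178018031b83e038ac0010d82d2af0360001216156819000080acaac0b80007054552054018d8292a702600476141528110000909ca8c078011d84c542034000202529f0160046c1214e8090000e08ca6c0380004044532014000242104000600c6c0881000300041))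
  (.leaf (nat_lit 0x2762504ac000ca63a759a00045a9792eccd99c010669d1c51a634a00461329393880022c99293a1049e95c00c009c97fa619640103c9c0921290002e3b877e610001da6c70cf58018d9362f997c008489a88d11f000264d0bcc9a8001f2665e64c4000f1332f44ca0086e98a408d846200408989804a80004049cd2a0d41d3e87ddf74b00001f4c0fc9f89f83f600400972554ac4b52880082d2d2ea4b20000e9608310b000064ac956528000da5620842c010692a2ee5e0c000207a5049d5d60002c9412980113a528440004e9408110700222932380001cd0cc971c3004e70f24a0df80270)))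
  (.leaf (nat_lit 0xed0723aa00072760381d379a0083876039875004263a81c0e88001f1d2700e1400041e410001e44400071731cf00227788268001d84d3c20f2dc6000283b3c013200024259df075000116cac1dde89500838704ee0498011e99c342ee00084c483b66a8df00100dd93b411e0047a2316fadc754ec001008e62e86a4d5400070e606a75400442728331c10020e394b5da3001061c60ce1a400898e206437e00c34700321bd0020837c188dd8010d1bc58ed0800834dd33a67c000566e1579470002b370160d88030d1b655e514000a8da2af286000526c95794100028)))
  (.node (.node (.leaf (nat_lit 0x32865c0089cca2a501c41c00894362e7698d3801094c804e31e000786395190100028314a847f8001518853e3dc000a8c329f1ea000526114d8e50002a304a6c7180014980536ae0000a0520a267800c725f8210a1000372fca655a00014ac5106cd8010d8be29956e000505e81d1790020a2f00e0bb8010917606c5c400844b70322da008825b81a8001a96606059400824b202e2c60007658816161002082c00a8ae8021b15e05056400844ae0282ae0041c56013155002122a8090a98010515252eadc000f0a801a2920040e5380e81f00241))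
  (.leaf (nat_lit 0x7fc007fc007fc007fc007fc007fc007fc007fc007fc007fc007fc007fc007fc007fc007fc007fc007fe9883c0005862d4bc1ec012ace0a5a5ea009194030f72c6c8dacdea54a519a4010fa945274a00090293a90664a4c0107a6fbda7b349000861485229880047d305355206600002f47934000264bd4f7470ba1718061ca349f26d0001f5182e45d40005a8b4dc0006a9734519697380239)))
  (.leaf (nat_lit 0x1130d289c0086c888682210021544087e253e700230898878688000744a3d8224f88010bbe97d711e240000c21e19c87400821ee9e610878e2200005a1c19910c00826203373c6000550f90d0c9196010748686333900639425045ca43a002174310e61a43100418184b08ffbf586c008170d219bf50020742885c0089d0a4193fe0040c8505d412002057ab0ae160031ba1016c83c000d9e7c27850004788385a20d0003b3a0e02120001720c814df8008a9050b1810bb402071050ae8000042482103c1d0002940d00d6f1f50003040d001a500114417404000ec2f60aa0380276))))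
  (.node (.node (.node (.leaf (nat_lit 0xa601d0ba0006e530a5b100002d0fc1f00e14b00638294068a0801051480304fc00884a301b57c004344e80b1330021526c0509780312132028494000dc96012232008824a8091170003f24c0488a8001e92402444c000f08e1210022724047c0009c8f0102220040e4608d8001a91a026054001048b01021e00434438071050003f218038818001f1062120044e41880ae60000f0d4b7572000029000183ec008487f00a1f2008723f07dade0002d114af47aada002380d0b5d6d000120fa0143d4010dc7c0081e200432199692d400020))
  (.leaf (nat_lit 0x197d129ae0047f3668896a2da004749b938cd3a1e00c61430b316b0002b2cc5a6854d595129d2f8001a4d59512d284328654598b48050fd0696c000ed18682b26802738b7409924012ab21a01149112258041d9fea200019228cfc50ca26000fa7d1c8386000793e274ce600228518a2e7bc71008309e91b5238011f46e9e4c8d458020ecf1494000c8c8d47cee49092e0107639bac75f3b00085e75c6b744e98010614731f50739400879461582b60005ca18ab15b0002a504a16718002028463ac6c42b4030060e350030fa8029453c008f13f39a36c6d4008c13e1382632e8008713d1342720002c9e0961254de008709e181a650003d)))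
  (.leaf (nat_lit 0xbc175049ce39f61700800e56080b90002081c6b8d680011b938182dc018e45a40a7200047c4708faf780c2cc0002c8611180c0042c2c2023cb0023e790b96010af000188003f87d801172e37fc2b4008dc553fc5b00002a3c076bfa000317f07116900111ba97ec810538a900a00408e81d2000041fe4020044e7f1dd3770020c3f8240fc801049fa11c230fb8020f1f41147cc010e5f43e57be004427b0f7801139ec3d6f880004cf60863ca0040a709693e00020f3d4aec76800169e43d20044e7a0f3800139e06d8e6000834f00763ba00410779e83d300241)))
  (.node (.leaf (nat_lit 0x1b00ac6b400864d705435600c486a95481223a0044a6a02919f0003f350aa495800159a65524a4000a8d22a924e00052e11bfafb0000d34068c0089cd02a70264bc00894d019b6b80001e6815391d0000c340140ca8010319e54e45c000accf0503260043467153915000296e61e8001618a36f0f7004aadb9898002314c2a2c65b507980203284525b50010a0766d04f09fb0c004022784edb3000098746c4c2000081b113226e00026c15af0730042425c495af000078706bad6d7e0021286e6a2d6000018cd2a722600050668281910020a3301382618d0041e))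
  (.leaf (nat_lit 0x24192684e009312023f9210bd08404181da0e475e478041d48c8d0000b08f11dc8b6c275e008be4412a25e00446e31c7c868cc0004b18d1623590ade0028011a233904de9bc8010047f8ca000ed1fd1c000339162471f2324030d23245f1e80088c912a60a06663c00500c5f8bb07e3a477314635ab0010fa4c1f8a80c58021824c5c27d4000b92434831061c008c1232d03920047a3d8040ef48a00c2e910770f300222484d10c21830023047c3711e8001ba3a1b48dc000ed1c0d84660040c8d86c22d002094603586a2290081e45c359158001fa2a1a916001869140d244a00c8307e2b2260022b8aa7c0f9bec0023a))))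
def c49_N_0 : Tr := .node (.node (.node (.node (.leaf (nat_lit 455132753))
  (.leaf (nat_lit 209100)))
  (.node (.leaf (nat_lit 538125))
  (.leaf (nat_lit 363))))
  (.node (.node (.leaf (nat_lit 461250))
  (.leaf (nat_lit 5125)))
  (.node (.leaf (nat_lit 1182851))
  (.leaf (nat_lit 528)))))
  (.node (.node (.node (.leaf (nat_lit 558625))
  (.leaf (nat_lit 99)))
  (.node (.leaf (nat_lit 66625))
  (.leaf (nat_lit 13325))))
  (.node (.node (.leaf (nat_lit 15241764))
  (.leaf (nat_lit 232)))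
  (.node (.leaf (nat_lit 2203751))
  (.leaf (nat_lit 0)))))
def c49_N_1 : Tr := .node (.node (.node (.node (.leaf (nat_lit 14228038))
  (.leaf (nat_lit 1025)))
  (.node (.leaf (nat_lit 242957))
  (.leaf (nat_lit 396))))
  (.node (.node (.leaf (nat_lit 462275))
  (.leaf (nat_lit 263)))
  (.node (.leaf (nat_lit 36612281541))
  (.leaf (nat_lit 17425)))))
  (.node (.node (.node (.leaf (nat_lit 427425))
  (.leaf (nat_lit 132)))
  (.node (.leaf (nat_lit 197825))
  (.leaf (nat_lit 495))))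
  (.node (.node (.leaf (nat_lit 14758348))
  (.leaf (nat_lit 10249)))
  (.leaf (nat_lit 77900))))
def c49_N_2 : Tr := .node (.node (.node (.node (.leaf (nat_lit 451448355))
  (.leaf (nat_lit 33)))
  (.node (.leaf (nat_lit 144525))
  (.leaf (nat_lit 11275))))
  (.node (.node (.leaf (nat_lit 559650))
  (.leaf (nat_lit 198)))
  (.node (.leaf (nat_lit 168100))
  (.leaf (nat_lit 561)))))
  (.node (.node (.node (.leaf (nat_lit 592450))
  (.leaf (nat_lit 3075)))
  (.node (.leaf (nat_lit 132225))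
  (.leaf (nat_lit 462))))
  (.node (.node (.leaf (nat_lit 595493))
  (.leaf (nat_lit 329)))
  (.leaf (nat_lit 4366503))))
def c49_N_3 : Tr := .node (.node (.node (.node (.leaf (nat_lit 603725))
  (.leaf (nat_lit 66)))
  (.node (.leaf (nat_lit 532935))
  (.leaf (nat_lit 429))))
  (.node (.node (.leaf (nat_lit 463300))
  (.leaf (nat_lit 8199)))
  (.node (.leaf (nat_lit 40999))
  (.leaf (nat_lit 594)))))
  (.node (.node (.node (.leaf (nat_lit 525825))
  (.leaf (nat_lit 165)))
  (.node (.leaf (nat_lit 133250))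
  (.leaf (nat_lit 15375))))
  (.node (.node (.leaf (nat_lit 18035244))
  (.leaf (nat_lit 298)))
  (.leaf (nat_lit 143500))))
def c49_N_4 : Tr := .node (.node (.node (.node (.leaf (nat_lit 454085170))
  (.leaf (nat_lit 274668)))
  (.node (.leaf (nat_lit 571950))
  (.leaf (nat_lit 363))))
  (.node (.node (.leaf (nat_lit 526850))
  (.leaf (nat_lit 198)))
  (.node (.leaf (nat_lit 167075))
  (.leaf (nat_lit 16400)))))
  (.node (.node (.node (.leaf (nat_lit 591425))
  (.leaf (nat_lit 99)))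
  (.node (.leaf (nat_lit 99425))
  (.leaf (nat_lit 462))))
  (.node (.node (.leaf (nat_lit 529925))
  (.leaf (nat_lit 7176)))
  (.node (.leaf (nat_lit 172167))
  (.leaf (nat_lit 0)))))
def c49_N_5 : Tr := .node (.node (.node (.node (.leaf (nat_lit 570925))
  (.leaf (nat_lit 66)))
  (.node (.leaf (nat_lit 1455501))
  (.leaf (nat_lit 12300))))
  (.node (.node (.leaf (nat_lit 527875))
  (.leaf (nat_lit 263)))
  (.node (.leaf (nat_lit 7399))
  (.leaf (nat_lit 594)))))
  (.node (.node (.node (.leaf (nat_lit 460225))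
  (.leaf (nat_lit 4100)))
  (.node (.leaf (nat_lit 100450))
  (.leaf (nat_lit 495))))
  (.node (.node (.leaf (nat_lit 16888332))
  (.leaf (nat_lit 298)))
  (.leaf (nat_lit 110700))))
def c49_N_6 : Tr := .node (.node (.node (.node (.leaf (nat_lit 15273539))
  (.leaf (nat_lit 33)))
  (.node (.leaf (nat_lit 177325))
  (.leaf (nat_lit 396))))
  (.node (.node (.leaf (nat_lit 429475))
  (.leaf (nat_lit 6150)))
  (.node (.leaf (nat_lit 2298052))
  (.leaf (nat_lit 561)))))
  (.node (.node (.node (.leaf (nat_lit 451482180))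
  (.leaf (nat_lit 132)))
  (.node (.leaf (nat_lit 165025))
  (.leaf (nat_lit 14350))))
  (.node (.node (.leaf (nat_lit 563750))
  (.leaf (nat_lit 329)))
  (.leaf (nat_lit 45100))))
def c49_N_7 : Tr := .node (.node (.node (.node (.leaf (nat_lit 604750))
  (.leaf (nat_lit 2050)))
  (.node (.leaf (nat_lit 15821))
  (.leaf (nat_lit 429))))
  (.node (.node (.leaf (nat_lit 14160388))
  (.leaf (nat_lit 232)))
  (.node (.leaf (nat_lit 106567))
  (.leaf (nat_lit 18450)))))
  (.node (.node (.node (.leaf (nat_lit 428450))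
  (.leaf (nat_lit 165)))
  (.node (.leaf (nat_lit 1214626))
  (.leaf (nat_lit 528))))
  (.node (.node (.leaf (nat_lit 19827821589068))
  (.leaf (nat_lit 9226)))
  (.leaf (nat_lit 176300))))
def c49_N : Tr := .node (.node (.node c49_N_0
  c49_N_1)
  (.node c49_N_2
  c49_N_3))
  (.node (.node c49_N_4
  c49_N_5)
  (.node c49_N_6
  c49_N_7))
noncomputable def c49 : TC :=
  ⟨[.l 0, .l 1, .l 2, .l 3, .l 4, .l 5, .l 6, .l 7, .l 8, .l 9, .l 10, .l 11, .l 12, .l 13, .l 14, .l 15, .l 16, .l 17, .l 18],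
    (nat_lit 9), (nat_lit 11), (nat_lit 0x4a307b9ac5a547418a418820), (nat_lit 1), (nat_lit 331), (nat_lit 0), (nat_lit 32), (nat_lit 11), (nat_lit 122),
    get (nat_lit 10) (nat_lit 0x1003010030080400c02010030080400c02010030080400c02010030080400c02010030080400c02010030080400c02010030080400c02010030080400c02010030080400c0201004010040100401005010050100400c0801404010050140401004010040100400c0401404010040100402405014050100401005014040100401004010040100401004018040100401004010050140601806), Tr.get c49_N, get (nat_lit 20) (nat_lit 0x3ff003ff003ff003ff003ff003ff003ff003ff003ff003ff003ff003ff003ff003ff003ff003ff003ff003ff003ff003ff003ff003ff003ff003ff003ff003ff003ff003ff003ff003ff003ff003ff003ff003ff003ff003ff003ff003ff003ff003ff003ff003ff003ff003ff003ff003ff003ff003ff003ff003ff003ff003ff003ff003ff003ff003ff0005e0005d0005c0005b0005a00059000580004f0004e0004d0004c0004b0004a00049000480004700045000440004300041000400003f0003e0003d0003c0003b0003a00037000340003300031000300002f0002e0002c0002b0002a0002900026000240002300021000200001f0001e0001d0001c0001b0001a0001900018000170001600015000140001300012000110000f0000d0000c0000a00008000070000500003),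
    Tr.get3 c49_F (nat_lit 28) (nat_lit 5), Tr.get3 c49_T (nat_lit 9) (nat_lit 6), Tr.get c49_P⟩

theorem c49_head : c49.headOK rn48 ivA = true := by decide +kernel

theorem c49_b0 : allFrom (nat_lit 0) (nat_lit 11) c49.blockOK = true := by decide +kernel

theorem c49_blocks : ∀ t < c49.k, c49.blockOK t = true :=
  (of_allFrom_append of_lt_zero c49_b0)

theorem c49_mem0 {G : Type*} [Group G] {γ : ℕ → G} (hL : Lab γ ivA) (hr : ∀ t ∈ rn48, t.ev γ = 1) {K : Subgroup G}
    (hK : ∀ t ∈ ([] : List W), t.ev γ ∈ K) :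
    W.ev γ (.mul (.mul (.mul (.mul (.inv (.mul (.mul (.mul (.mul (.inv (.l 7)) (.l 16)) (.l 17)) (.l 18)) (.l 7))) (.mul (.mul (.mul (.l 17) (.l 12)) (.l 18)) (.l 12))) (.mul (.mul (.mul (.mul (.inv (.l 7)) (.l 16)) (.l 17)) (.l 18)) (.l 7))) (.l 12)) (.inv (.mul (.l 12) (.mul (.mul (.inv (.mul (.mul (.mul (.mul (.inv (.l 7)) (.l 16)) (.l 17)) (.l 18)) (.l 7))) (.mul (.mul (.mul (.l 17) (.l 12)) (.l 18)) (.l 12))) (.mul (.mul (.mul (.mul (.inv (.l 7)) (.l 16)) (.l 17)) (.l 18)) (.l 7)))))) ∈ K :=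
  TC.mem (D := c49) hL (List.forall_mem_cons.2 ⟨hL.zero_mem K, hK⟩) hr c49_head c49_blocks
    (n := (nat_lit 30)) (w := (nat_lit 0x187946088b24c3c232430f28c10c9322784648)) (st := (nat_lit 0x1082304a09c1482b05a0bc1883306a0dc1c83ba640780e01a0300580a0120200380600a01001802002)) (by decide +kernel) (by decide +kernel)

theorem c49_mem1 {G : Type*} [Group G] {γ : ℕ → G} (hL : Lab γ ivA) (hr : ∀ t ∈ rn48, t.ev γ = 1) {K : Subgroup G}
    (hK : ∀ t ∈ ([] : List W), t.ev γ ∈ K) :
    W.ev γ (.mul (.mul (.mul (.mul (.inv (.mul (.mul (.mul (.mul (.inv (.l 7)) (.l 16)) (.l 17)) (.l 18)) (.l 7))) (.mul (.mul (.mul (.l 17) (.l 12)) (.l 18)) (.l 12))) (.mul (.mul (.mul (.mul (.inv (.l 7)) (.l 16)) (.l 17)) (.l 18)) (.l 7))) (.l 1)) (.inv (.mul (.l 1) (.mul (.mul (.inv (.mul (.mul (.mul (.mul (.inv (.l 7)) (.l 16)) (.l 17)) (.l 18)) (.l 7))) (.mul (.mul (.mul (.l 17) (.l 12)) (.l 18)) (.l 12))) (.mul (.mul (.mul (.mul (.inv (.l 7)) (.l 16)) (.l 17)) (.l 18)) (.l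 7)))))) ∈ K :=
  TC.mem (D := c49) hL (List.forall_mem_cons.2 ⟨hL.zero_mem K, hK⟩) hr c49_head c49_blocks
    (n := (nat_lit 30)) (w := (nat_lit 0x27946088b24c3c232404f28c10c9322784648)) (st := (nat_lit 0x2084308a11c2484b09a13c288530aa15c2c85b5640f80e01a0300580a0120200380600a01001802002)) (by decide +kernel) (by decide +kernel)

theorem c49_mem2 {G : Type*} [Group G] {γ : ℕ → G} (hL : Lab γ ivA) (hr : ∀ t ∈ rn48, t.ev γ = 1) {K : Subgroup G}
    (hK : ∀ t ∈ ([] : List W), t.ev γ ∈ K) :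
    W.ev γ (.mul (.mul (.mul (.mul (.inv (.mul (.mul (.mul (.mul (.inv (.l 7)) (.l 16)) (.l 17)) (.l 18)) (.l 7))) (.mul (.mul (.mul (.l 17) (.l 12)) (.l 18)) (.l 12))) (.mul (.mul (.mul (.mul (.inv (.l 7)) (.l 16)) (.l 17)) (.l 18)) (.l 7))) (.l 2)) (.inv (.mul (.l 2) (.mul (.mul (.inv (.mul (.mul (.mul (.mul (.inv (.l 7)) (.l 16)) (.l 17)) (.l 18)) (.l 7))) (.mul (.mul (.mul (.l 17) (.l 12)) (.l 18)) (.l 12))) (.mul (.mul (.mul (.mul (.inv (.l 7)) (.l 16)) (.l 17)) (.l 18)) (.l 7)))))) ∈ K :=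
  TC.mem (D := c49) hL (List.forall_mem_cons.2 ⟨hL.zero_mem K, hK⟩) hr c49_head c49_blocks
    (n := (nat_lit 30)) (w := (nat_lit 0x47946088b24c3c232408f28c10c9322784648)) (st := (nat_lit 0x2f8610c6194338690d61b4378710e61d43b8796e81700e01a0300580a0120200380600a01001802002)) (by decide +kernel) (by decide +kernel)

theorem c49_mem3 {G : Type*} [Group G] {γ : ℕ → G} (hL : Lab γ ivA) (hr : ∀ t ∈ rn48, t.ev γ = 1) {K : Subgroup G}
    (hK : ∀ t ∈ ([] : List W), t.ev γ ∈ K) :
    W.ev γ (.mul (.mul (.mul (.mul (.inv (.mul (.mul (.mul (.mul (.inv (.l 7)) (.l 16)) (.l 17)) (.l 18)) (.l 7))) (.mul (.mul (.mul (.l 17) (.l 12)) (.l 18)) (.l 12))) (.mul (.mul (.mul (.mul (.inv (.l 7)) (.l 16)) (.l 17)) (.l 18)) (.l 7))) (.l 3)) (.inv (.mul (.mul (.l 2) (.l 3)) (.mul (.mul (.inv (.mul (.mul (.mul (.mul (.inv (.l 7)) (.l 16)) (.l 17)) (.l 18)) (.l 7))) (.mul (.mul (.mul (.l 17) (.l 12)) (.l 18)) (.l 12))) (.mul (.mul (.mul (.mul (.inv (.l 7)) (.l 16)) (.l 17))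 (.l 18)) (.l 7)))))) ∈ K :=
  TC.mem (D := c49) hL (List.forall_mem_cons.2 ⟨hL.zero_mem K, hK⟩) hr c49_head c49_blocks
    (n := (nat_lit 31)) (w := (nat_lit 0x867946088b24c3c23240cf28c10c9322784648)) (st := (nat_lit 0x17c4088310a21c4488b11a23c4889312a25c4cbc60fc1f00e01a0300580a0120200380600a01001802002)) (by decide +kernel) (by decide +kernel)

theorem c49_mem4 {G : Type*} [Group G] {γ : ℕ → G} (hL : Lab γ ivA) (hr : ∀ t ∈ rn48, t.ev γ = 1) {K : Subgroup G}
    (hK : ∀ t ∈ ([] : List W), t.ev γ ∈ K) :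
    W.ev γ (.mul (.mul (.mul (.mul (.inv (.mul (.mul (.mul (.mul (.inv (.l 7)) (.l 16)) (.l 17)) (.l 18)) (.l 7))) (.mul (.mul (.mul (.l 17) (.l 12)) (.l 18)) (.l 12))) (.mul (.mul (.mul (.mul (.inv (.l 7)) (.l 16)) (.l 17)) (.l 18)) (.l 7))) (.l 4)) (.inv (.mul (.mul (.mul (.l 1) (.l 2)) (.l 4)) (.mul (.mul (.inv (.mul (.mul (.mul (.mul (.inv (.l 7)) (.l 16)) (.l 17)) (.l 18)) (.l 7))) (.mul (.mul (.mul (.l 17) (.l 12)) (.l 18)) (.l 12))) (.mul (.mul (.mul (.mul (.inv (.l 7)) (.l 16)) (.l 17)) (.l 18)) (.l 7)))))) ∈ K :=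
  TC.mem (D := c49) hL (List.forall_mem_cons.2 ⟨hL.zero_mem K, hK⟩) hr c49_head c49_blocks
    (n := (nat_lit 32)) (w := (nat_lit 0x8887946088b24c3c232410f28c10c9322784648)) (st := (nat_lit 0x82284518a514e2a4558ad15e2c4598b516e2e45dc1913c2700e01a0300580a0120200380600a01001802002)) (by decide +kernel) (by decide +kernel)

theorem c49_mem5 {G : Type*} [Group G] {γ : ℕ → G} (hL : Lab γ ivA) (hr : ∀ t ∈ rn48, t.ev γ = 1) {K : Subgroup G}
    (hK : ∀ t ∈ ([] : List W), t.ev γ ∈ K) :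
    W.ev γ (.mul (.mul (.mul (.mul (.inv (.mul (.mul (.mul (.mul (.inv (.l 7)) (.l 16)) (.l 17)) (.l 18)) (.l 7))) (.mul (.mul (.mul (.l 17) (.l 12)) (.l 18)) (.l 12))) (.mul (.mul (.mul (.mul (.inv (.l 7)) (.l 16)) (.l 17)) (.l 18)) (.l 7))) (.l 5)) (.inv (.mul (.mul (.mul (.mul (.mul (.l 1) (.l 2)) (.l 3)) (.l 4)) (.l 5)) (.mul (.mul (.inv (.mul (.mul (.mul (.mul (.inv (.l 7)) (.l 16)) (.l 17)) (.l 18)) (.l 7))) (.mul (.mul (.mul (.l 17) (.l 12)) (.l 18)) (.l 12))) (.mul (.mul (.mul (.mul (.inv (.l 7)) (.l 16)) (.l 17)) (.l 18)) (.l 7)))))) ∈ K :=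
  TC.mem (D := c49) hL (List.forall_mem_cons.2 ⟨hL.zero_mem K, hK⟩) hr c49_head c49_blocks
    (n := (nat_lit 34)) (w := (nat_lit 0x22190a7946088b24c3c232414f28c10c9322784648)) (st := (nat_lit 0x208a118a31c648cb19a33c688d31aa35c6c8db1ba37e4d0c21802f80e01a0300580a0120200380600a01001802002)) (by decide +kernel) (by decide +kernel)

def c49_loops : List W := [.mul (.mul (.mul (.mul (.inv (.mul (.mul (.mul (.mul (.inv (.l 7)) (.l 16)) (.l 17)) (.l 18)) (.l 7))) (.mul (.mul (.mul (.l 17) (.l 12)) (.l 18)) (.l 12))) (.mul (.mul (.mul (.mul (.inv (.l 7)) (.l 16)) (.l 17)) (.l 18)) (.l 7))) (.l 12)) (.inv (.mul (.l 12) (.mul (.mul (.inv (.mul (.mul (.mul (.mul (.inv (.l 7)) (.l 16)) (.l 17)) (.l 18)) (.l 7))) (.mul (.mul (.mul (.l 17) (.l 12)) (.l 18)) (.l 12))) (.mul (.mul (.mul (.mul (.inv (.l 7)) (.l 16)) (.l 17)) (.l 18)) (.l 7))))), .mul (.mul (.mul (.mul (.inv (.mul (.mul (.mul (.mul (.inv (.l 7)) (.l 16)) (.l 17)) (.l 18)) (.l 7))) (.mul (.mul (.mul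 (.l 17) (.l 12)) (.l 18)) (.l 12))) (.mul (.mul (.mul (.mul (.inv (.l 7)) (.l 16)) (.l 17)) (.l 18)) (.l 7))) (.l 1)) (.inv (.mul (.l 1) (.mul (.mul (.inv (.mul (.mul (.mul (.mul (.inv (.l 7)) (.l 16)) (.l 17)) (.l 18)) (.l 7))) (.mul (.mul (.mul (.l 17) (.l 12)) (.l 18)) (.l 12))) (.mul (.mul (.mul (.mul (.inv (.l 7)) (.l 16)) (.l 17)) (.l 18)) (.l 7))))), .mul (.mul (.mul (.mul (.inv (.mul (.mul (.mul (.mul (.inv (.l 7)) (.l 16)) (.l 17)) (.l 18)) (.l 7))) (.mul (.mul (.mul (.l 17) (.l 12)) (.l 18)) (.l 12))) (.mul (.mul (.mul (.mul (.inv (.l 7)) (.l 16)) (.l 17)) (.l 18)) (.l 7))) (.l 2)) (.inv (.mul (.l 2) (.mul (.mul (.inv (.mul (.mul (.mul (.mul (.inv (.l 7)) (.l 16)) (.l 17)) (.l 18)) (.l 7))) (.mul (.mul (.mul (.l 17) (.l 12)) (.l 18)) (.l 12))) (.mul (.mul (.mul (.mul (.inv (.l 7)) (.l 16)) (.l 17)) (.l 18)) (.l 7))))), .mul (.mul (.mul (.mul (.inv (.mul (.mul (.mul (.mul (.inv (.l 7)) (.l 16)) (.l 17)) (.l 18)) (.l 7))) (.mul (.mul (.mul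 (.l 17) (.l 12)) (.l 18)) (.l 12))) (.mul (.mul (.mul (.mul (.inv (.l 7)) (.l 16)) (.l 17)) (.l 18)) (.l 7))) (.l 3)) (.inv (.mul (.mul (.l 2) (.l 3)) (.mul (.mul (.inv (.mul (.mul (.mul (.mul (.inv (.l 7)) (.l 16)) (.l 17)) (.l 18)) (.l 7))) (.mul (.mul (.mul (.l 17) (.l 12)) (.l 18)) (.l 12))) (.mul (.mul (.mul (.mul (.inv (.l 7)) (.l 16)) (.l 17)) (.l 18)) (.l 7))))), .mul (.mul (.mul (.mul (.inv (.mul (.mul (.mul (.mul (.inv (.l 7)) (.l 16)) (.l 17)) (.l 18)) (.l 7))) (.mul (.mul (.mul (.l 17) (.l 12)) (.l 18)) (.l 12))) (.mul (.mul (.mul (.mul (.inv (.l 7)) (.l 16)) (.l 17)) (.l 18)) (.l 7))) (.l 4)) (.inv (.mul (.mul (.mul (.l 1) (.l 2)) (.l 4)) (.mul (.mul (.inv (.mul (.mul (.mul (.mul (.inv (.l 7)) (.l 16)) (.l 17)) (.l 18)) (.l 7))) (.mul (.mul (.mul (.l 17) (.l 12)) (.l 18)) (.l 12))) (.mul (.mul (.mul (.mul (.inv (.l 7)) (.l 16)) (.l 17)) (.l 18)) (.l 7))))), .mul (.mul (.mul (.mul (.inv (.mul (.mul (.mul (.mul (.inv (.l 7)) (.l 16)) (.l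 17)) (.l 18)) (.l 7))) (.mul (.mul (.mul (.l 17) (.l 12)) (.l 18)) (.l 12))) (.mul (.mul (.mul (.mul (.inv (.l 7)) (.l 16)) (.l 17)) (.l 18)) (.l 7))) (.l 5)) (.inv (.mul (.mul (.mul (.mul (.mul (.l 1) (.l 2)) (.l 3)) (.l 4)) (.l 5)) (.mul (.mul (.inv (.mul (.mul (.mul (.mul (.inv (.l 7)) (.l 16)) (.l 17)) (.l 18)) (.l 7))) (.mul (.mul (.mul (.l 17) (.l 12)) (.l 18)) (.l 12))) (.mul (.mul (.mul (.mul (.inv (.l 7)) (.l 16)) (.l 17)) (.l 18)) (.l 7)))))]

theorem c49_mems {G : Type*} [Group G] {γ : ℕ → G} (hL : Lab γ ivA) (hr : ∀ t ∈ rn48, t.ev γ = 1) {K : Subgroup G}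
    (hK : ∀ t ∈ ([] : List W), t.ev γ ∈ K) :
    ∀ t ∈ c49_loops, t.ev γ ∈ K :=
  List.forall_mem_cons.2 ⟨c49_mem0 hL hr hK,
    List.forall_mem_cons.2 ⟨c49_mem1 hL hr hK,
    List.forall_mem_cons.2 ⟨c49_mem2 hL hr hK,
    List.forall_mem_cons.2 ⟨c49_mem3 hL hr hK,
    List.forall_mem_cons.2 ⟨c49_mem4 hL hr hK,
    List.forall_mem_cons.2 ⟨c49_mem5 hL hr hK,
    fun _ h => absurd h List.not_mem_nil⟩⟩⟩⟩⟩⟩

def rn50 : List W := List.map (sb (.mul (.mul (.inv (.mul (.mul (.mul (.mul (.inv (.l 7)) (.l 16)) (.l 17)) (.l 18)) (.l 7))) (.mul (.mul (.mul (.l 17) (.l 12)) (.l 18)) (.l 12))) (.mul (.mul (.mul (.mul (.inv (.l 7)) (.l 16)) (.l 17)) (.l 18)) (.l 7)))) [.mul (.l 30) (.inv (.mul (.mul (.mul (.l 2) (.l 3)) (.l 4)) (.l 6)))] ++ rn48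

def c51_F : Tr := .node (.leaf (nat_lit 0x28e4a4b18a064a7121c463831047382504620c08443034c437109c413024c41306cc3e2834a3c70edc3a20e483128c0a38201c838283ca360870236202c83470d1c3268cda34202483240c4e302820a31207482f201482e204082d089422d182c62b70adc2968a9a2b182862a182462910a041e18146261844625103842410344237085c1f182061e101841d104841c101041b083421808242170820215081c214081821308142120810211080c210080820f702dc096829a0b972a5902f24b8f4720f8e671d98a971a5883f151873f111863f0d1858f0a3823f0517f4700f7b46fcf7796fa56f7ef5f6d6ef1b6d7eedf6c6ee9b6c36e4d6826e09683edd16646d8f6596d656436d0d5b26cc95b3ec915a3ec515896c255446bcf5196ba54b26b494a8eb23498eae3483ea914526a493f16a053f969e53e3e9913b669593a3690d3a3e8d1381e887348e863331e807328e7e3318e7a3303e751298e723268e6e3256e69b206665920966251c265c919865a1183e551154650f15264c90d964a50c8e4630c2e40b0c463cf0b2e38b0b3e3510a4630f0a662d9084628f0826249063e21102261c902961a5008e162ff66118ff8e0e2fa1e086f996064f866018f795fe4f645f8ef085f60ec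1df06e995ee4e395ea4e23de50de45e0ede8dde2dd2dd8add25d48dd6dd1ad78dce2d43dc90d28dc62d18dc22d02dbcad065b98cf2db4acc65b18c67dadec575a9cc56da5ac53da10c0459cec025988c08d962bf2d90abf658d8be65898ba95864b97d81eb76d7dab765798b77d75eb26d71ab2956e4b0956a4ac25648a625608a51d5c6a52d58aa495564a37d51e9c754dc9c6d49a9c8d4629b9542497853e0977539c956d35a9595324948d2e294852a0947d25e947521c946d1da948d1a2938d162928d122906d0da8e950a48d950648b6d01a8a3cfd08844f8e8834f4c8734f0c858cee28424e88841ce468494e248394de48294da4818cd62818cd22807ccde808cca27f7cc5e7f6cc1a7f24bc87d3cb907c24b487a1cb067a94ae4778caa2778ca627494a24738c9e2727c99e727495c726c91a728c8e2708c8a26f3c8506e4480e6e247c86c947a46b7c75e6a7471c6a6c6da6a8c6a26884660686c61a68445ce678c5a266945646594524647c4de637449c636c45a6364418638c3e262243885f3c3505e4430e5e342cc5e242885e1c2465e942245d6c1da5d3418c5c94164573410c56940e4528c0a2512404851240085093fe44f8bfa24f8bf624e93f244d8bee24d63e984d93e644c73e1c4c93de44b8bda24b7bd5e4b73d1c4b6b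cda4b7bc9e4a6bc5a4a33c0c4983be04683ba0457bb5e4573b1c456bada453ba904523a48438ba22428b9e24163998416b95a40939243f8b8e23e8b8a23d7b85e3d7381c3d6b7da3d8b7a23c3374c3c8b7223b936e43a8b6a23a93664376b61a372b5ca3723588371b546379352436334cc368b4a23563458353340c351b3c635933a43393364323330c31132c4311b286307b25e2f7321c2f6b1da2f4318e2f2b14a2f131042e730dc2d6b09a2d3b0502d8b0222c32fcc2c22f882c8af622a92f24298aee2297ae9e2872e5c286ae1a2832dcc2822d882892d64277ad1e276acda272ac8a2722c48278ac22267abde2672b9c266ab5a268ab22257aade2572a9c256aa5a253aa10252a9ca251a9862492964233290c228a8e221828a0219286420928241f8a7e21f827a01f7275c1e627181e926e41d8a6a21d826601d7a61e1d725dc1d6a59a1d4254e1d2a50a1d924e41c924a41b8a4621b6a41a1b3a3d01b1a3861b7a35e1a7231c1a6a2da1a222881a8a2621992224181a1c618921a417921641692124158a0e2157209c156a05a15620181531fcc1521f881511f441531f0c1491ee41389ea21369e5a1361e181329dca1321d881319d461391d241269cda1231c8c1291c641179c1e1169bda1131b8c1129b4a1191b241069ada1039a9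01041a4e1031a0c10299ca10919a40f899620f6991a0f398d00f3188c0f218480f198060f197c60e917a40d617580d197060d916e40b896a20b4164e0b916240a895e20a4158e0a91564098952209814e009614980991464088942208793de087139c086935a086131808212c808112840881260077921e07711dc076919a073114c072910a07890e2067909e066905a06610180628fca0620f880618f460690f240578ede0568e9a0538e500540e0e0530dcc0510d840590d640478d1e0470cdc0468c9a0438c500440c0e0430bcc0428b8a0418b460490b240378ade0370a9c0368a5a0338a1003309cc032898a0320948039092402888e202808a0027885e027081c02687da0238790023074c022870a02206c802186860290664018862201685da01605980138550014050e01304cc012848a0120448011840601103c401903a40088362008032000782de007029c006825a003821000401ce003018c002814a002010800180c600100840008042000000000))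
  (.leaf (nat_lit 0x800200000000100200150144084040813b069818807041c58f2a3c12e44bca27009c91efc7c92f00bc8263c9c8962259106441c68e8e3a736e0dc73e2d1c72e20bc587061c4868e1c3968a5c266199c22e98bc1364cdc02ed8bbf16e45bf46e4fbe26b89be1ddc7be66ed9bd3e5d1bd76f5dbc3dd11bc16685bc96ee58476eddba66699ba2ebcbb946ccfb82da0bb70ec83b71e3c7b625dc9b52d94bb526d098e2decbb436ccdae2d98bb316c85aa1e347b16e09bb03674daf2d44bae16385ae4580fad85a61ad25bc9ac6eadbac752ddab1dc87aa2e74ba91da07a80e483a73608da566919826e21ba38d8a3a266819a2760dda18d823a07679d9f6cc9b9e2674972259099c6e6db9c1dbc79b749dd9b0db039914e45980d8439885d21976c65b9615a05954654f941cfc7951d9c7943e411932de4b9394aa58e25e498d4634f8c2c34b8d2de0b8c962e5761dc078b15f05890dd83898cea38675fdd8674e1d8526009846cd1b83954e58273e5d81957a58024ec97f851e17e6d29b7e4528f7d6bc1b7d24b097c3560d7b1c2c77a159457a45e4f78949e57724f49768dd23762dd4b3d1d307752b60b7424609742c54b730d183732cfcb721c2077165c197125449703348d708da636f6d8db6e1b4476e3b5d16d148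056d257896c252496b75add696da9b6b1c9476a2b1cb69251c96945a0f670d68366946a5658d7236474f1d631ccc7620d503622d38b601cc47607581d5f2d34b5f1cc075f249895d7575d5c2accb5c249095c1ca475b2b00b5b242495a1b4875a64f1959950255914385599512558142855814245574558eec7529d5685221567459d5564759547551d526d4db5462e59531be075364459523454d512340950726dd506a91b4f7265d4f3a6514e2a68b4c14ac54c2a6cb4b14a854b2a64b4a7525d476d21b492a60b483bb91483bad14714a45461348545228c9446a45b4413085430d003437505d426a99b42222c94044fcf3e0c3033e1a6873d0c1833d8cf2308939a53c93ee53b0c0433a944a5398bf23386c09b387211d370bf03366a11b36940a5356a0db3564c993463c993374cdcfa320cd3274c5d301ad872f11f852f2c80b2e0ba832e0ba432d141852c0b9032b29ecb2a936a5292a20b2969d1b287499d246c95b261ab07237489d23934a52221f09213484d174484f200b183200af831f6b3db1f233c91e69b1b1e144c51d0ae831d7475d1b144851c0ae431c144451b0ae031b138851a21a4917927e5166a95b168a8231512205158a963140a803146999b14744dd111a087120a703101c1870f11e850f72f9d0e4434f0c939e5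0b89ee30b92ee5090b003098b963078ad23067179d0583ae10473c1d046a15b0393d65018bd230073d9d0023dc8ff73f1cff73edcfe6bf5afe23d88fd7141cfd6945afc6a01afa213c8f573d5cf36bd1af521388f421348f31ae86f2113c4f273c9cf11ae06f111344f183b60f06925aef7165cef3120ced73b5ceb6bb1aed3118ceb13304ea33a8ccb1b886e8739dce83150ce73148ce60b942e661e58e5290cae43244ce319086e17385cdf6b81ae119046df2978ade93624dd6b65add1ac06dc7369cdc3364cdb68f1adb30e8cd821a08d74330ed62b58a683310cd61a506d60b142d52994ad40a4c2d410dc4d322208d2931e4d0930e4cf70d5cce68d5acd3b290cb7325cc76b21ac9225c8c830c8cc722dc8c63b150b722508c519c86c52984ac420d88c418cc6c321ac8c218c86c22a54ab7130448f0aa02c11a206c092ce4bf6ad5abf22b08bd6971abd32d4cbc68b1abc195c6bb7171cbb72e9cb812744b919fc6b730accb472d1cb330a4cb321c88b22ac4a723228cb118bc6b128b0ab018ec6af72bdcad6ab9aaf18e86ad19c06ab72adca96aa9aab20a88aa19bc6a928a0aa84250e453250ca792324a6117c4a611784a582620a4727dca37279ca27091ca1326cca06889a9e193069c308cc9a3084c987261c966a5da98307cc96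30e4c9511dc49411d049310d4492207c89018c468f10b448e0a2828e7235c8b6a31a8d188068c198468a91524896979a89895628809782880970287897a28631ecc8609542866865a8609442840934281092c27e19a867d091427c090c27a305cc790904279090027808fc2773184c763068c75109c4752860a7408e827308dc27208d427171c1c6f08bc26e204886d08b826d08b026c11a846308a026a105046910f4468089c26818486671060465088c265087c26418546630878263189c662104c46208742621044461086c26130f4c60104046070b1c5f890225d88ae25c20d485b7155c5b6961a5b7151c5a81220596959a5918b06587039c587035c577159c49811e0566835a544120e536859a52713dc4d6939a4f))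
def c51_T : Tr := .leaf (nat_lit 0x72b93c8e3f1b8bc4e1f0b83c0dfefb7bbcddeeb73b8dbedb6bb4d9ecb63b0d7ebb5bacd5eab53a8d3e9b4ba4d1e8b43a0cfe7b3b9ccde6b3398cbe5b2b94c9e4b2390c7e3b1b8cc5e2b1388c3e1b0b84c1e0b0380bfdfafb7cbddeaf378bbddaeb74b9dcae370b7dbadb6cb5daad368b3d9acb64b1d8ac360afd7abb5cadd6ab358abd5aab54a9d4aa350a7d3a9b4ca5d2a9348a3d1a8b44a1d0a83409fcfa7b3c9dcea73389bcda6b3499cca633097cba5b2c95caa532893c9a4b2491c8a43208fc7a3b1c8dc6a33188bc5a2b1489c4a231087c3a1b0c85c2a130883c1a0b0481c0a03007fbf9fafc7dbe9f2f87bbd9eaf479bc9e2f077bb9daec75ba9d2e873b99cae471b89c2e06fb79badc6db69b2d86bb59aad469b49a2d067b399acc65b2992c863b198ac461b0982c05faf97abc5dae972b85bad96ab459ac962b057ab95aac55aa952a853a994aa451a8942a04fa793a9c4da6932984ba592a9449a49229047a391a8c45a29128843a190a8441a0902803f9f8fa7c3d9e8f2783b9d8ea74399c8e270379b8da6c359a8d26833998ca6431988c2602f978ba5c2d968b2582b958aa5429948a250279389a4c259289248239188a442190882401f8f87a3c1d8e872381b8d86a34198c86230178b85a2c158a85228138984a241188842200f8783a1c0d86832180b8582a14098482210078381a0c058281208038180a04018080200)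
def c51_P_0 : Tr := .node (.node (.node (.node (.leaf (nat_lit 0x1803180022862010044019242f00800a0ec0110c2e00801600084169cf0220420047e169cf3ba0003778cf05cc8000f0520ae0046a1582a8001a85400c05400078290060260003aecc080070a2010901300300b00040094018018230043f0900100e8000a04600806c000701f04300235078010088032383a008034000f41c004006094010f81b004012000780c00101b0001205c008098000b02a004044019181400201e0048c0980100d0003a048008058001c822004024000e01000200e0006e078010050003602405c008d40b01500035))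
  (.leaf (nat_lit 0x3fe003fff38010002a02bf9a0420099884fcb1450050e9dfe4a048028469bf1988401337acf8be8e00983d6fb6f81f0a00897d5388f49e9fa4f45ec5d876637df37e73de7bff43c8dca80b00394640c8c00095c97b8f7600084e4bbe79e00040721ddfbab810024a720c718f80124fb47180010ee33a67b2ea6c9191c010334ec76d47aab71f61ebf8a6e5e5de4bcaf8a610c2dc3fa900400f5fc4f68f66ee7e080012dc731462e00ca4e298731100649711c2dc18031a386e12d1c018d1c276a6c1aa3a500102384ea0d2b8600015382dfad3401925c06f16c7db78ef200044b6fddebbcb6d0024a6fde5bcd80123f99eced7fc20002537cebdd77adb5d004156f9ce39bee800409)))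
  (.leaf (nat_lit 0x8da239710001646910ce28000e22e19c34c00925165c24510e49f8010222cb8571c00035150ca1928a6e28020222a87a44400051140c81970eca5801032288725040004d140c819a0001c889138011aa2486e41400079104352720049887a199679c76a0010210f4311ea000388721297d0022043086c001150b48490f5780082d0b47c8f60044e84ad320a9dc0041284a404fc0003741d08ce580106a0c8433900089d0540f17a000208220a5703bd5a0008290440c3c20044c81a0290b0000e405632cb1feb100042a802c71fab0400444802c7591002203fd622c29e83de0082a7fa011f900010)))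
  (.node (.leaf (nat_lit 0x4d299efa400078ad15f002352bc574000d4ad3bd0ea0003b32a62c530001e2a455c008d4ab155000352a81282a8001015277637c00074a804a0a200c922280700709653e5f8012594e7952488e0360764a400910a64b028522800824a63b917e00076529db8bd000142912b25914494c00414519da13f0002e288ed09e8000794208012400040a04a02584dc0102c9e03e08a0005a4e1d98990024e2680e82380013ca4942ed40009896131002352604bc000d49603a07e004624a81d03d76625dff80225928762e88778021f12675e3a400050923ad0d6000284801b03f0022f))
  (.leaf (nat_lit 0x1716c8d97ab719002042e234469767002152e0cd59a551802112e03406940009d6f527d700044ab72f35e958e00866b70cf1a30024e5b54e0d61af0044a5b559b0560d0043e5b14555e80127ebed6f95c00081692d7002355acb54000d56a50f4960003cb48c518f002305a54454780117ace5a20008ab32d6690000385953e4b544046a00408b227de980022558d6db4468d002285895fb0c001272c4bbd9e000933516a1534a740108f5169fc260003caf9608011aabea06a6c008c15f4e74c20003ba6b4bdfb00020570aec008d55c1642ce00460ae26fa490022f))))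
  (.node (.node (.leaf (nat_lit 0x7139f0d600026378708011a8dc73e17c000e86d02204a00084369cf85d000391b0e742c80009c370540846a804240d473a14401918690200520048e342134290003d1a0e74278001d0ce040094001006501e06200038329cd84700012190e6c1f8000b0c603c0ac0191c6339b07a00c8c31060c2773a13c011046201e04e0007a311cd83b0003a184078118001e0c27360dc000e06001e0040343d801208c003c084000ec5f4108260043c2e80d00d102004542e204418168f20008205b3dc7b2198358020a8b67302ac000405b3971620001c2d1cc0a90002e164e6053c070020c))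
  (.leaf (nat_lit 0x2925220006aa409412d94a00846a42601dd0043451d300eb8011928c93694c000714549934a00038a224bbb528e00844a20901230000d50d24cc28000ca86922a04000594248e50600020a1246cbc0000e5004508b80117a7c4fe0008a9f240a19002464f443a1e43b950008829ea3fa0d0003a42083ed5d5ac600040c9e2d0206ab8004169db1026c8e67dc008113a475406000709cb1226eb7c004129c0831034db88c010113861cc3e0001c9b882109000104d91ccfc80009a6c20442400039351022131d5028010226a20441c000353410020f850010ab0b1f48075f0010a2c5a6700235)))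
  (.node (.leaf (nat_lit 0x38cfb49180013d50a9afc400078df1c300235384704000d4df07a1060003a6f1f58bd004253754f8db53c0020b3754faa0800189b89a9344ae16100408370fa0da800171b6a786c0d9802059b60e81e400038d806e0ea004626b8d6d3600042a67440c505e0c66640312e20c5c1d43b630d0ca68000886b2951a6a14004866b0d5d31a220087e6aa2b50e00037350f8465800129a87be49c0004cd306c0de0007a6920f41d904008446829019aa2c0041667a9119ca10004126703306b0001033419035800071967a86540111cc719300235324644000d4c83d125e000406382f06500231))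
  (.leaf (nat_lit 0x1a8726e5600476d3b1cb2500013694d27a700128f03ce6b0f987334e49d5a480215b46c4ec44010c9a2704e8cd0b5500104344c36d0400139a161660e0005cd03a074267da90008219f61267a0005ccf1302650000ddae9faff33b0084a671a734d6ae004226717e59b80006b36d75af35f6cc0040866c9292780017332bd6b6400931985dbc5400028cc2ecac30001365dcb1966dc002216588c11980016f28e4bad40091d9432b000456557253f80323b28b933f16780124326b68c840112593718e3a00484c72d8e0200625e35c5f7580124b186360008ac690a21b00649630852a52f10024a))))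
def c51_P : Tr := .node c51_P_0
  (.node (.node (.node (.leaf (nat_lit 0x164e5c56800190b07841502c802048b002807400040570140360005c24847c0a0000f1580500cbf80020c1500480d800068a67ecfec000d0520120060b4010cc4d09f0023513c274000d44b3d27ce00484251d93bf0023b118244008d44700e032008682300701300232110f89f28002108601806c0009c4108500235104030098011887c7600e81b8012187801406c000943a077002357a6040058730084a0e0f382e0610024a0e0028078012486c7400900f8011f06c740eb8000d9ed3d773200040190348011a8680ce0006a190040130022f))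
  (.leaf (nat_lit 0x4c83f88380013a604c60046a97a37c472da0087e9787d0fd0003c4b97c2f600324a5c8da754019192d46b3a600070962dc5bb0003b4ad18ce480009a541dc3dc01095295fc4a1164da801022528b644401095280e61d20001c921268011aa4c4960006a91a664c92a8564010212345248a0005c9106f0e38aa69400812f75d188a3e40110d1743f89c3686ea430004b48090c001152045131a0048c8fa2597d0003847d78af280017a3ca0c610c3d24004154783586c800075dcbaf7040006aee5d59d60002e8d91d8011aa38890894000691c4472e60002e8da2422300019)))
  (.node (.leaf (nat_lit 0x31862e8900124d03254f40c58022518a7a24a400108c54d89b800080622260da8580047c621e786d0023c30c168338000f18479a35c008bcc205a0ca0003a5ba614fea01255f3c9e0044492a1882d98300848304f2ca88032318082506a0ec82004082fd3c0bc4e00020b2fd3c2798001897a98c550ac8021117a78908000034bc4e02cc5ac0102cbc0520b20001c5d9e081202a2bc01020bb3c78400005c5c0ba8011a97277c4ec00068b73fc128e987f80220ce29c2f1c00098b3169002352cc13829801189642c737000108720240040141a9159b40088858a2e45f22a0048658a1942f7a00087e5802605900425))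
  (.leaf (nat_lit 0xe1dc457c1d27e62ed08b170102b62db536980127312c0dbc8000f189634dcc00070c32ced84b3d8b0010118659b5fe00020c2acbe280002e6116658080127b06b169a400035827006059c000825811f03e600020c00f7470c1d844b616f57a00456bfac8592b2b8b8010557e5a2b4b938008317e6f4dee00064beb40e7f000345f55aaba00016af8c109692c8011faf6aab91b4300205af4ac5586d900204af4ba5ac000051782f3000455dd51cd945649e00408bb175ee2000425d95276f00112e37cc1b8000901751ba7d6fcaab604cbc01488ba0d71b1002305d14ed1880117ae6a5e8ac010957352d51a00024b9294a7f00649))))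
  (.node (.node (.leaf (nat_lit 0x11e75a18c0191c8e3ad0b600076472154880003722c46c008d48d119000352300d0208000f114068e68618021f9128ec431d48a9002042251da3e800069100600bc86c7900404220eac5e8000990e7562e4000dc8602e062eac5e8010310c8d03c87b8020590c7522ac0004c8602e0660001c421d38a300013204e9c4d8000b0fc74e25c000e07d436892004763e1d288b0003a1e8e8c43800090f204c0bc008c4793a31060002c3c1d18810024c1dce8c3f8001c8ec86031061801218ea8610bc1d035002411d50c2198001d8e80480c400094733a10ea0002c391d086f0003a))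
  (.leaf (nat_lit 0x2b6a8950f0000204ab69ae604000955a4f69eb3b2d70020aab4bed7d6f980204e8bc8591682bd77dc7371800015ab2c7d9054163c002155652ed0e8001e2b0b999e955648002155612e50a8001e2ae97284c000ecec1ddca19f00003156666ccb9600088d564b7ca400448aaa5adce00010ced9bee0de000428548aa4008d5542a70003554c4e09dce80042854d2acf88000f2a4b788811180119aa295d7280009d50518a35472930020aaa025c4dc000414f4a296c0005aa78971330000f5384a8998021a2982504d4000954c49d4ae00028a58941370042552d2752a8000e2942504cc000914729300235)))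
  (.node (.leaf (nat_lit 0x1fc8047dc000b8fe4013f60001a7eac11e83da008447e84e0a10002e3f026851800071f4134e988080219d86b0300c00080f31eb002353d47a4000d4f409613a000407984b09b0022faf55e6758000f57aaef00c00068f11e5002353c4ff4b88000e9e212826c00064f0572ae305eb7001051de11824c000b4ef3fb82c0001f5b2b4bfb000263ac76c008d4ed1d9000353ac2284680118d6432c664000f68f9947e8220459d50004b3a154aa79c038a00810741f81cf0002e39cfbc54800139cc7de29400944e6466ab00049872a320f01e6004667203f08700025))
  (.leaf (nat_lit 0x3c878df0de24000a3c878fe5c00868de1bd8011ab78d8eba4008c9bc6c566a00033c1f7fec26ebe2401855ba377002356e9cd199335002336e5e03bff6eeb3cffb400222370f00dbbb80002536e598b4401925b76b36ca00c8cdb3766ef63e00490dab9e73be6fba001055b52c85960004bd93b9b666d200086da349dacd04ab958ef000444ecf9b76d6d9c9ba51b380322366d26b340090bacae4d1cd9402121b168563600c8ed833af020000e6bd9b595f276a7d5c0112dae65d5460004ad732df1e000146b5967316a60004a6b5be37deb6002216b1b035f6cc004226b1955ab80006b56520a5c000b9aa64b5ca00c8ed4b6b73f00242)))))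
def c51_N_0 : Tr := .node (.node (.node (.node (.leaf (nat_lit 0x43218f28c10c9322784648))
  (.leaf (nat_lit 528)))
  (.leaf (nat_lit 167075)))
  (.node (.leaf (nat_lit 463300))
  (.leaf (nat_lit 165))))
  (.node (.node (.leaf (nat_lit 604750))
  (.leaf (nat_lit 176300)))
  (.node (.leaf (nat_lit 177325))
  (.leaf (nat_lit 9226))))
def c51_N_1 : Tr := .node (.node (.node (.node (.leaf (nat_lit 451448355))
  (.leaf (nat_lit 18450)))
  (.leaf (nat_lit 2203751)))
  (.node (.leaf (nat_lit 14758348))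
  (.leaf (nat_lit 232))))
  (.node (.node (.leaf (nat_lit 525825))
  (.leaf (nat_lit 2050)))
  (.node (.leaf (nat_lit 132225))
  (.leaf (nat_lit 429))))
def c51_N_2 : Tr := .node (.node (.node (.node (.leaf (nat_lit 455132753))
  (.leaf (nat_lit 561)))
  (.leaf (nat_lit 36612281541)))
  (.node (.leaf (nat_lit 529925))
  (.leaf (nat_lit 6150))))
  (.node (.node (.leaf (nat_lit 592450))
  (.leaf (nat_lit 33)))
  (.node (.leaf (nat_lit 532935))
  (.leaf (nat_lit 396))))
def c51_N_3 : Tr := .node (.node (.node (.node (.leaf (nat_lit 488718928))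
  (.leaf (nat_lit 16400)))
  (.leaf (nat_lit 168100)))
  (.node (.leaf (nat_lit 15241764))
  (.leaf (nat_lit 198))))
  (.node (.node (.leaf (nat_lit 558625))
  (.leaf (nat_lit 274668)))
  (.node (.leaf (nat_lit 242957))
  (.leaf (nat_lit 363))))
def c51_N_4 : Tr := .node (.node (.node (.node (.leaf (nat_lit 451418630))
  (.leaf (nat_lit 0)))
  (.leaf (nat_lit 4366503)))
  (.node (.leaf (nat_lit 18035244))
  (.leaf (nat_lit 7176))))
  (.node (.node (.leaf (nat_lit 461250))
  (.leaf (nat_lit 99)))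
  (.node (.leaf (nat_lit 197825))
  (.leaf (nat_lit 462))))
def c51_N_5 : Tr := .node (.node (.node (.node (.leaf (nat_lit 454085170))
  (.leaf (nat_lit 594)))
  (.leaf (nat_lit 40999)))
  (.node (.leaf (nat_lit 465350))
  (.leaf (nat_lit 263))))
  (.node (.node (.leaf (nat_lit 427425))
  (.leaf (nat_lit 66)))
  (.node (.leaf (nat_lit 66625))
  (.leaf (nat_lit 12300))))
def c51_N_6 : Tr := .node (.node (.node (.node (.leaf (nat_lit 462280540720))
  (.leaf (nat_lit 528)))
  (.leaf (nat_lit 68357315)))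
  (.node (.leaf (nat_lit 14160388))
  (.leaf (nat_lit 5125))))
  (.node (.node (.leaf (nat_lit 4513272334))
  (.leaf (nat_lit 209100)))
  (.node (.leaf (nat_lit 210125))
  (.leaf (nat_lit 363))))
def c51_N_7 : Tr := .node (.node (.node (.node (.leaf (nat_lit 15273539))
  (.leaf (nat_lit 0)))
  (.leaf (nat_lit 172167)))
  (.node (.leaf (nat_lit 16888332))
  (.leaf (nat_lit 232))))
  (.node (.node (.leaf (nat_lit 428450))
  (.leaf (nat_lit 99)))
  (.node (.leaf (nat_lit 165025))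
  (.leaf (nat_lit 13325))))
def c51_N_8 : Tr := .node (.node (.node (.node (.leaf (nat_lit 486623762))
  (.leaf (nat_lit 17425)))
  (.leaf (nat_lit 7399)))
  (.node (.leaf (nat_lit 595493))
  (.leaf (nat_lit 263))))
  (.node (.node (.leaf (nat_lit 451482180))
  (.leaf (nat_lit 1025)))
  (.node (.leaf (nat_lit 15821))
  (.leaf (nat_lit 396))))
def c51_N_9 : Tr := .node (.node (.node (.node (.leaf (nat_lit 462246987281))
  (.leaf (nat_lit 561)))
  (.leaf (nat_lit 2298052)))
  (.node (.leaf (nat_lit 14095813))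
  (.leaf (nat_lit 198))))
  (.node (.node (.leaf (nat_lit 591425))
  (.leaf (nat_lit 33)))
  (.node (.leaf (nat_lit 1455501))
  (.leaf (nat_lit 11275))))
def c51_N_10 : Tr := .node (.node (.node (.node (.leaf (nat_lit 36991189552))
  (.leaf (nat_lit 594)))
  (.leaf (nat_lit 106567)))
  (.node (.leaf (nat_lit 563750))
  (.leaf (nat_lit 8199))))
  (.node (.node (.leaf (nat_lit 460225))
  (.leaf (nat_lit 66)))
  (.node (.leaf (nat_lit 99425))
  (.leaf (nat_lit 429))))
def c51_N : Tr := .node (.node (.node (.node c51_N_0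
  c51_N_1)
  (.node c51_N_2
  (.node (.node (.node (.leaf (nat_lit 15213063))
  (.leaf (nat_lit 45100)))
  (.node (.leaf (nat_lit 472525))
  (.leaf (nat_lit 329))))
  (.node (.node (.leaf (nat_lit 559650))
  (.leaf (nat_lit 132)))
  (.node (.leaf (nat_lit 133250))
  (.leaf (nat_lit 14350)))))))
  (.node (.node c51_N_3
  c51_N_4)
  (.node c51_N_5
  (.node (.node (.node (.leaf (nat_lit 603725))
  (.leaf (nat_lit 110700)))
  (.node (.leaf (nat_lit 571950))
  (.leaf (nat_lit 298))))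
  (.node (.node (.leaf (nat_lit 462275))
  (.leaf (nat_lit 4100)))
  (.node (.leaf (nat_lit 1214626))
  (.leaf (nat_lit 495))))))))
  (.node (.node (.node c51_N_6
  c51_N_7)
  (.node c51_N_8
  (.node (.node (.node (.leaf (nat_lit 570925))
  (.leaf (nat_lit 77900)))
  (.node (.leaf (nat_lit 538125))
  (.leaf (nat_lit 10249))))
  (.node (.node (.leaf (nat_lit 429475))
  (.leaf (nat_lit 132)))
  (.node (.leaf (nat_lit 198850))
  (.leaf (nat_lit 495)))))))
  (.node (.node c51_N_9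
  (.node (.node (.node (.leaf (nat_lit 14228038))
  (.leaf (nat_lit 7621220582)))
  (.node (.leaf (nat_lit 19827821589068))
  (.leaf (nat_lit 329))))
  (.node (.node (.leaf (nat_lit 526850))
  (.leaf (nat_lit 3075)))
  (.node (.leaf (nat_lit 100450))
  (.leaf (nat_lit 462))))))
  (.node c51_N_10
  (.node (.node (.node (.leaf (nat_lit 539150))
  (.leaf (nat_lit 143500)))
  (.node (.leaf (nat_lit 144525))
  (.leaf (nat_lit 298))))
  (.node (.node (.leaf (nat_lit 527875))
  (.leaf (nat_lit 165)))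
  (.node (.leaf (nat_lit 1182851))
  (.leaf (nat_lit 15375))))))))
noncomputable def c51 : TC :=
  ⟨[.l 0, .l 1, .l 2, .l 3, .l 4, .l 5, .l 6, .l 7, .l 8, .l 9, .l 10, .l 11, .l 12, .l 13, .l 14, .l 15, .l 16, .l 17, .l 18],
    (nat_lit 9), (nat_lit 11), (nat_lit 0x4a307b9ac5a547418a418820), (nat_lit 1), (nat_lit 459), (nat_lit 0), (nat_lit 32), (nat_lit 17), (nat_lit 139),
    get (nat_lit 10) (nat_lit 0x400c0400c02010030080400c02010030080400c02010030080400c02010030080400c02010030080400c02010030080400c02010030080400c02010030080400c02010030080401004010040100401c05010050100400c080140401804014050100401004010040100400c04014040100401004010040240501405010040100401405014040100401004010040100401004018040100401c040100401005014060140602006018060200602012), Tr.get c51_N, get (nat_lit 20) (nat_lit 0x3ff003ff003ff003ff003ff003ff003ff003ff003ff003ff003ff003ff003ff003ff003ff003ff003ff003ff003ff003ff003ff003ff003ff003ff003ff003ff003ff003ff003ff003ff003ff003ff0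03ff003ff003ff003ff003ff003ff003ff003ff003ff003ff003ff003ff003ff003ff003ff003ff003ff003ff003ff003ff003ff003ff003ff003ff0005f0005e0005d0005c0005b0005a0005900051000500004f0004e0004d0004c0004b0004a000490004800047000460004500044000430004200041000400003f0003e0003d0003c0003b000380003500034000330003200031000300002f0002e0002d0002c0002b0002a00027000260002500024000230002200021000200001f0001e0001d0001c0001b0001a000190001800017000160001500014000130001200011000100000f0000e0000d0000c0000b0000a00009000080000700006000050000400003000020000100000),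
    Tr.get3 c51_F (nat_lit 28) (nat_lit 5), Tr.get3 c51_T (nat_lit 9) (nat_lit 6), Tr.get c51_P⟩

theorem c51_head : c51.headOK rn50 ivA = true := by decide +kernel

theorem c51_b0 : allFrom (nat_lit 0) (nat_lit 17) c51.blockOK = true := by decide +kernel

theorem c51_blocks : ∀ t < c51.k, c51.blockOK t = true :=
  (of_allFrom_append of_lt_zero c51_b0)

theorem c51_mem0 {G : Type*} [Group G] {γ : ℕ → G} (hL : Lab γ ivA) (hr : ∀ t ∈ rn50, t.ev γ = 1) {K : Subgroup G}
    (hK : ∀ t ∈ ([] : List W), t.ev γ ∈ K) :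
    W.ev γ (.l 1) ∈ K :=
  TC.mem (D := c51) hL (List.forall_mem_cons.2 ⟨hL.zero_mem K, hK⟩) hr c51_head c51_blocks
    (n := (nat_lit 1)) (w := (nat_lit 1)) (st := (nat_lit 2000)) (by decide +kernel) (by decide +kernel)

def c51_loops : List W := [.l 1]

theorem c51_mems {G : Type*} [Group G] {γ : ℕ → G} (hL : Lab γ ivA) (hr : ∀ t ∈ rn50, t.ev γ = 1) {K : Subgroup G}
    (hK : ∀ t ∈ ([] : List W), t.ev γ ∈ K) :
    ∀ t ∈ c51_loops, t.ev γ ∈ K :=
  List.forall_mem_cons.2 ⟨c51_mem0 hL hr hK,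
    fun _ h => absurd h List.not_mem_nil⟩

theorem tn50 {γ : ℕ → G} (S : T.Wk D o γ ivA 4096) (F : Fo D) (R : Ps D) (h : Al γ rn50) : T.Fin D :=
  (S.dead F (Al.bot (c51_mems S.lab h (nil_bot γ)))).elim

def rn52 : List W := List.map (sb (.mul (.mul (.inv (.mul (.mul (.mul (.mul (.inv (.l 7)) (.l 16)) (.l 17)) (.l 18)) (.l 7))) (.mul (.mul (.mul (.l 17) (.l 12)) (.l 18)) (.l 12))) (.mul (.mul (.mul (.mul (.inv (.l 7)) (.l 16)) (.l 17)) (.l 18)) (.l 7)))) [.mul (.l 30) (.inv (.mul (.mul (.mul (.mul (.l 1) (.l 2)) (.l 3)) (.l 4)) (.l 6)))] ++ rn48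

def c53_F : Tr := .node (.node (.leaf (nat_lit 0x3bfe86b5eff3dac73fae6b0efe21ab3bf686a8efd21a83bf28694efc21a493ef268cefb219c1bea36690fa1d9543e676460f9418c93e3261def83d856bded615ef73d846bdad6122f6458333d665fc8f5117f93d325f8ef4217d43ce75f24f3497b93cb25e62f2457533c665c48f1117133c265c24f0496f3bbe85b8eef216c43ba75a24ee49658bb715922ed45633bb285824ec495923ae45604eb095893ab255ceea21533ba685488e9114a3ba285024e8493c8b9f14f24e7493b8b9b14ecae615396b96d4cd8e531338b9314c08e4112d838f04b0ee32129438a74a64e249267b86f4988e111249383248e2e045237b7ef48cadf1523437a7488ade15223b7684850dd1d213b7284818dc311f436e747c8db111d3b6a84710da1d1c3b66846d0d91d1b8b6314690d81d173b5e84508d711148b5b144ced621128b5714424d5490f8353043e2d4450e634ec43a4d3490d8b4b14324d2490b1b4634206d10d078b43141a2d045057b3ef411acf3504633ac40e4ce4902933724008cd10fe8b3313f50cc1cf9832f03e06cb0cf7932b23c64ca48f03b2683b10c91cec8b2313acac814eb231e43ae4c748e66b1ad391ac634e28b171384ec520df8b13137a2c444dd2b0e53758c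330dc2b0a53658c230d393072349ec13cd27302e349ac034d23afe83310bf1ccc22fa43322be44cb2af6532d8bd30ca42f273246bc0cc562eec3124bb48c192eb22f9eba3cbe72e6e2f9ab934be92e322f24b848b86aded2e24b748b722da42c48b610b01ad632c24b548af92d322ba2b444a692cf22924b348a18acb1285eb23ca172c6e285ab134a18ac312822b0449d8abf126daaf349992bb22624ae48966ab6d250ead209342b2724ceac209242ae7248cab189192ab223ccaa188c8aa7122e4a9488a22a2422a2a84489929f22222a74488929b221e2a644877296e2162a544847a92f211ca438846a8ed2108a310843a8a820c8a210811a8632064a1487e8a8311fa2a0447b327e61ee49f487a8a7b11e1e9e3c787276e1e1a9d3478327261de29c4476926f21d629b44756a6ad1cce9a2073426671cc8991071926321c1e983c6f6a5ed1be297446d825b01b5a96346d425671b2295446b925321aa49448698a4f119d0931c64224a418ce92206242467188c911862224241886900c62923f2185a8f3461323a618228e445e9237217648d485c1232217068c0c5b8a2f116a48b4859922b215628a44542226415248948532222414e48848528a1f114a48748518a1b114648648508a171142485484f8a13113e284444e8a0f1135e83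3c4d6a0ad1346820c4d92072132281444c7a02f131c80384c69fed13227f444b81fb012de7e3c4b69f6d12ce7d204879f2f119a7c344621ee411627b444489eb110d87a304369e6d10a479484189e31102278443f79def0fdc77383f69dad0fe276443e31d660fa275443d91d320f2274443c91cf20e6273443969cad0e4a72143921c640e46710c3991c320e0c70183889bf10dd86f303731ba60dc66e0c3791b720d646d483431b260cc46c083319ae30c9e6b3c3171aae0c5a6a343141a670c4a69143111a220c1c68382f699ed0bce67202f319a60be266442e319660b8865102e919320b6264442b918f20aa263442a918b20a4c621829218640a64614828898310a1e603c28697ed0a0a5f1428217a40a225e44277976f09dc5d38276972d09c45c0827896f1099e5b3c26716ae099a5a342639668098c591826196230964584824395e808e2574422915b208605640219157208225544209153207e054401f714ee07e453481e894b1079c52381e6946d0790511c1e2942507a450481d393e8074c4f181d913b207224e441c6936d070e4d201c19323071e4c3c1b712ee06da4b341b292a506c84a101b8927106a4494819192230662484418391e80624474817891b105e44648169117205624544157912f055c443815690ed054c431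815210a405444208153106605244148138903104da40341360fec04ca3f141320fa404c63e0c1390f72049a3d341238f28048c3c181290ef2045e3b3c1168ead044e3a201130e66044a39141190e32041a38341038de80410371c1030da6040a36141090d7203e235440f68d2d03ce34200f30ce603c833100f18ca303e232440e18c6303a431480d60c2c0346300c0d38be803242f480b88bb102ce2e200b40b6702e42d480a88b3102a42c480988af102602b400960aac02642a480888a71022029400878a2f021c283808689ed0218273008309a6020826100810962021e253c076892d01cc241807288e501c6230c07888b1019e223c066886d0198213006288250188201006187e301a41f4805787af015a1e34053876801501d1c053072601441c0805906f2011e1b3c04706ae011a1a3404386680110191c0430626010a181404185e30124174803885b100de163c037056e00da1534033852800cc141803284e500c8131003904b200a212440280470009e113c027042e009a103402383e8008c0f1802283a500880e10021836300a40d480188331005e0c3c01682ed00580b3001382a800500a1c0130266004a091401202240046080c01101e20064074800881b100200640007816f001c0538006812d000e042000400e7000c031800280a50008021000180630004010800080210000000000))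
  (.leaf (nat_lit 0x800100000000010010005402a008b0228054c0ea01af040007da306c6002b8058348fa120c1be63830afa160b237a482d1051dec0bd6182a4e049d48ba91712303c5fc940b280e30445fb8ba71704cf51a093b7088260f4c2086c08d8220f2c2070c0618182fd86056bf8d815d0139d36c02d80a0fdc2012b5e58020ffc20073fce751afeb5fe83f907f5cfe39f873f6e7e60e9c1fa835f07e60d641f863eec6b4aea15f6239247d4ce119f42bce57cc4f589f3433e77c90f59df123b847c46c88df163dcc7c0ee421f073e0e7bcec6a1ef139627be4f749a773dce7b58e5b1ed1b1c37b24e649ec2bba57ad0f11dea13aa27a4abf95e80bbe17a06de8de723224798abe15e613b027948c711e42aec57908f191bc2b2a578ccf119dc2afa578a4c049e16b06d784cc199e06ae0d7804ef89d91b763778ce899dd2ad057704de09dc230e476daed35db72cae7686c50dd90b881760ae895d71afe37582e085d56b88d755ad635d46b5ed74c2cd05d223a246288ba91d0727ee741ae735d022f6473dae6b5cf1b0637386c38dcd727ae7362c645cc0b0817286a50dc9334467260c6c1c86a5ad71c4bf89c6438c77146ac0dc61afc37160e1c1b47386e55cedf21c22b26570a0dfc1b2737ee5664a0c9bc232646ed0dd9dba2a4856ecac915ba0afe16e64dc49901b1036e04cb09b60b2016d90da9db482b106d5ad835b4436676ca0ad41b30b6016c82d505b16b56d6c5cd6b9ae92a326b48d291ad8357044a0d541148aab16a84a809a972a4e6a08ce91a78a9f1699ca9b9a6)))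
  (.leaf (nat_lit 0x92a12695c8a39a57224e6918d131a38b3f1689cd039a16a0ed680c98199f1a0c367dccfb99e3b188678c97999e1a0a367a4bbc99d22a64671a89b59b1222266a0a84199121e266607e41987232e66107e1d9722864658cb619951a4436504be09944326764a49ec99122ac46422c6c5902b1e55586b30d8f8a7f1638a72958d22584634a9a958c0b001630a94958b0ac2162caac158a1a3e36258c4318922d04620c6f99888b01161dabd358619bc3618e722185126626148bb918422c84609cc139806b02d60869d8d8132de6600a6a158022c446010bf9d7e12ae25f82b7057d925d25f22b9457b72a8e5e84ac8979121825e20884178324065d8a609575227845d1cba39726ae6d5d0a5f9572227445c86a00d71299855c4890116e19be35b98aa316d92b725b4492896d92bf25b0490896c124025ae062c16a1a2035a9c953969325265a086e9167714ce59ca52956612842598a53156512822595cb239626ac6d5904a0096111be2580857115f6938d57c467895e0ab61579cae395d6962d57484b115b42b4756429305596a46d5650ac1d570a48156029185576a4cd55c6528d560a3a155828d05558aa9147e47a49549213254da8935538a151549a8a35528a97154428885510a18153dc45394e8a25153428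5054d6916d53648a494c6914d530844114b0a00152c27f054a1a603524444894909f81525ca4b9476a90d5246978d47110e251c27d85471986351844289462a66551427d054509ee151048e894309e41508a41154191d12500a491540927524fc275853f68f6d4f9c9e393a6a76d4f0c3d193a926b24e465b8d38726ce4e1a3bb53791bf24d8c3a9935210644d0c9a192b426874cc2698533099414c9a6e353221b844c5a38b5317260e4bc478092e20dc44ae455492a6960d4aa255c529112424a62584528095614a1a35b5281a3a349c44089277194e4950921d2391eb248a2414522918d2480266052089e7147a260451d7124e471a8bb51c0a2e146dc49b91b6a20d468e8c211969fad46607cc1189121245dc3139166918d456480c91322064439c85390e6a18d439c84b90d6a16d4346548d0c70a8e430881110b70a6e42da2a350a620ec420c299907720ce414c37990439c4841082891017202e3fda80350120a0440082790ff10a623f842908fd71f8e3ece7c20fb11b223e8c7d18d8189433e5c7cb8f8189233e06780cf671eae3d8c2b98f530aa63d027984f46100c3cca2294f2313863c46220cef71dee3b5a7734ef188633b4a3114ec91cb23ada73b4eb197833a9c7438ea31ce63a5a1f34e93078639483690e441b2738ca71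946d31a2638c6508ce329c451ccc4a98e209a41388a3514e109401384e70204d1072238024f04e02124437e46a48dd91a12371c1bb8db686ed368e6ba0d871ace351a6ab4d621484354c1a18d42188434ce6920c43170634885090d218f03348a3314d12070434461a8cd020e0433c61a0ccf29445310467089a0966133863e8ccd207e43346490ccc917f232da6134cb1926332485b90c868c0d320c6118c7685cd31c62c8cc670c0e319a16b4c611522314c1698c130586301c6038bf305462fc83c10be297a51e0c4a18bd186232f4a1714bc187a32edc5db8b96974d2ec61e0cb928ca52e063b0cb6716ce2d1a5ab4b6205642d463a8cb4285252cc6200cb220f842ca44bc8b110c622c443108b018be32be053c0af7154e2b9c12b8ad4158729dc11b8ac314c62ad0109ca818a0329cc1218a53040628cc1d98a210fc228443d88a0410c727863c8c9f106e2274810109b18663268417889909281265c4c3896692ed2606108c97183a32546330c9490af224c232049368c4d24e22c449208c41249a32349208c0124422e849008b8123e231448e3104623822c048e6834d23a432488d6832d23422a048b08a6122822884897112e21c2280488089e121c2268486089812146378c84089612102240483088a1204c0b9880088612002210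47f088211f8c33187d10e621f4c0d987c105021f0a0c947b087c11ec21e047a20f241d021c8478086e11ddc3b3875282a51d08339073086211cc8091072086011c8217047110de21a0214846f102821b841f886d085011b46090c6c084e11b040c886a084811a82100469182a31a06140c671026219c20f04671022219820e0466307e61944080865705ce18e221446188591181c2fb852206e4179c2c385e68b4d1786168c5d70aee17502e1c5b68a4d172025405b185c3169c07385a701ae165a06b45740947159a0b345540147149c28b84f68a0d144a1d944c388c812dc253849381281248191047301a6115c2238433012610cc0e184010622100a06943e707ae0f081d9033286450e8803903a281e50e020e8438201640d9c1b3834686ad0d88049034406670c8a041433203c40c48029030202040bc213042f181630b1c16382a6856d0b06050c2b181230a8414881f180a309c6088c26101c209440688241018208dc1138201810307c403081e10242074402081c1006206c207041a081a106420584187030e05c2048417081010542038414080c104c20284120808104420184100804103dc05b8096814d02d0041c07941b26f8b0615bd441676f0d0519b96412c6de50449b4940f26ca30345b23c0a86c650249b08c0716c1f013daf7402e6bcf0021ae))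
def c53_T : Tr := .leaf (nat_lit 0x8360c82e0a8260881e068160480e02806007fdfe7f5fc7edfa7e5f87ddf67d5f47cdf27c5f07bdee7b5ec7adea7a5e879de6795e478de2785e077dde775dc76dda765d875dd6755d474dd2745d073dce735cc72dca725c871dc6715c470dc2705c06fdbe6f5bc6edba6e5b86ddb66d5b46cdb26c5b06bdae6b5ac6adaa6a5a869da6695a468da2685a067d9e6759c66d9a6659865d966559464d926459063d8e6358c62d8a6258861d866158460d82605805fd7e5f57c5ed7a5e5785dd765d5745cd725c5705bd6e5b56c5ad6a5a56859d665956458d625856057d5e5755c56d5a5655855d565555454d525455053d4e5354c52d4a5254851d465154450d42505404fd3e4f53c4ed3a4e5384dd364d5344cd324c5304bd2e4b52c4ad2a4a52849d264952448d224852047d1e4751c46d1a4651845d164551444d124451043d0e4350c42d0a4250841d064150440d02405003fcfe3f4fc3ecfa3e4f83dcf63d4f43ccf23c4f03bcee3b4ec3acea3a4e839ce6394e438ce2384e037cde374dc36cda364d835cd6354d434cd2344d033cce334cc32cca324c831cc6314c430cc2304c02fcbe2f4bc2ecba2e4b82dcb62d4b42ccb22c4b02bcae2b4ac2acaa2a4a829ca6294a428ca2284a027c9e2749c26c9a2649825c962549424c922449023c8e2348c22c8a2248821c862148420c82204801fc7e1f47c1ec7a1e4781dc761d4741cc721c4701bc6e1b46c1ac6a1a46819c661946418c621846017c5e1745c16c5a1645815c561545414c521445013c4e1344c12c4a1244811c461144410c42104400fc3e0f43c0ec3a0e4380dc360d4340cc320c4300bc2e0b42c0ac2a0a42809c260942408c220842007c1e0741c06c1a0641805c160541404c120441003c0e0340c02c0a0240801c060140400c0200400)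
def c53_P_0 : Tr := .node (.node (.node (.node (.leaf (nat_lit 0x458453421000190540590022c0580570002c05600601500019054006013000184430100070530083f04e00600b0003704c0060030230043604a00401d0001004800401b00017046004019000160400450022c03e0040110063e03c00400d0003403a00400302500435038004009000330360040070003203400201d0000f03200201b0000e4324314210001302e0310022c02e0020130001202a0020110063d02800200f0023d02600200d0003102400200b000300220020090002f0200020070002e01e0020050002d0120170022c0160150002c00e0110003c))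
  (.leaf (nat_lit 0x39a27627b000253986c77b80021e3946b5309002433926f66ef290295004063927f07f60002039084e38e7ba0021c38e25825b0002484a84778d0023e38a38d0003c38c69f2b10063e38a69f5bc2fd0023f825823728843006097233870022c38469037d004403848328370023981f81d72e83b0060972b37f0022c37868d6d80061e8348317cb002403743770003c37624224900640374242618325002413726892ff0063d82682932c1ee4870c323f371010233707ae7ad0024436c6dc7d20003336c71e7c60002f36836b0003c36a6832b10062b368681361000293643670003c36667d2b50062b)))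
  (.leaf (nat_lit 0x2160a00a70002521409e0a90000b21009c0a76540042220e09a0a70002020a20d0022c20809a4424514dc006382085f55f31c50043f64a6454950001b1fe2030022c2022010002c2000980a10001b1fe09809f002261fc0960a7000171fa0960a5000161f61f90022c1f648f1f1002296381b01b3000345e51ae48808e0911f50004263463348d000191f01f30022c1f008c093000181ec62061d1dc1e1004061ec4841eb000251ea4830af000201e84830ab002461e8506626002431e65040fe1010022a1e408208b0001e1e24811390002061e61b485000191da1df0022c1de1dd0002c)))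
  (.node (.node (.leaf (nat_lit 0x14244142a0fd0043514043f0f70001013c13f5554f24eb10d0024213e43f0f30063e13a43d06f000101360380410022613443d0670063e13243d05f000321324c05400002e12c1310022c13012f0002c12e0360430001912a03603b000371280364220cd0043612652611c4310af002041264390c90000e12652652d0000a12403202f11d529004041244370c50000f1245225250000b1224370c10002e1204350bb0000e11e4350b90063d11c02e0334370c50020511c5081001050040811c4310b10000f11c02e0350000b11a02e0354390c90020411a02e0330000a11642f0a90000f11442f0a70000e51a51749500013))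
  (.leaf (nat_lit 0x1ff001ff001ff001ff001ff001ff001ff001ff001ff001ff001ff001ff001ff001ff001ff001ff001ff001ff001ff001ff001ff001ff92c0020004902b92b0108025b1179290a88027c2a7927228802793a992435e8025b8ee9228d9802558d991191e9208021e8ed3fe8db3ee7f97f78ce3e48588b49159138d091a91d8d584141b0160041a37c3810001e41891691900039)))
  (.leaf (nat_lit 0x2d6575241000322d457114e1535a6004022d45734b4221004072d256f6a40000d2d05666a0000202ce5de5e05e25ec004112ce14814d0000d2cc14214b0001e2cc55b285000102ca14214d0041e2ca55b283000172c42c90022c2c82c70002c2c2559281000172c05531bf000172be55144515d0041d2be1361390000a2bc54d19f000142bc54b2b7000122ba5482b90000d2ba5475780000b2b612812d002262b22b50003c2b253d24d0023d2b253b247000292ae2b10003c2b05372490063d2ae5372470023d2ae53524d000292ac1224d04cf560004382ac53323b000312aa52f2350000f))))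
  (.node (.node (.node (.leaf (nat_lit 0xdc0200290023e0da4bc4bf000340da425051000310d8020025000370d842504f000300d401e033000170d44230490000e0d2423041000120d001e02b0063e0ce0cb4bd425051004380ce01e027000340ce42303d000310cc01e023000330cc4230390002f0ca01e00200d07f002380ca01e021000320c64a04a3002190c201a00d085002220c049c4aa0ba45a002060a40100190bf008090bc46e46b06a06f004110bc4200b10000d0bc41f0b50000b0ba45a45705605b004060ba4200af000250b60b90003c0b841f496004290b64200ad49b002090b445405605d004070b401401d0000d0b201401b000250ae01201b0000a))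
  (.leaf (nat_lit 0x81370d7de3eb8d78537f83ef000233ec7e33a9006403ea86c3a4854002363e87d13bd88b83783e004423e68a68a53cf002413e68c88cd0023e3e47ea7ed0002b8cb8873bb8b2000413e288288187f3b9004113e285c85b7c8004078c28bf8b88bb000218c28c18500042b3de3e10022c3de7a131b002293de79f397000148057e579c3db8bb006113da3dd0022c3da8563943970022a3d885e8648677be004063d88928957b6858002043d68ac8ab88c87d86b8880043b3d48ac3d0896000413d278b3ab000103d02fa2ff006403d07893bf0063d3ce7cc7cf37b0023f3cc86286185b7c8004113cc2f62f90001e3ca7813b1000103c88688677be0041d3c87792ed0041e8848993c43c70003a)))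
  (.leaf (nat_lit 0x2845031e50000f2820fc1050041e2806ce27c4f51d1002042804f91250041e27e6ce27c6c80020827e4f71d70003127c0f40f70000b2742790022c2782770002c2740f00f5002282726c026e6bc0020827058858516a16f004062704ec26d0002526e0ea0ef0000b26c0ea0ef4ef1bf0020426a0e60eb002286b86a74db1070043a2564d54e40e40e7269000422662690003c2664e71a70023d2644e11950002f2646ac6af000262625ca19e1a15ea004112620e00e30000b25e2610022c25c4d91e1000172560d80dd002402546982504cd1550020425469869d0000a2520d40d325169b004042524d1125000102500d20d54cf16100205)))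
  (.node (.leaf (nat_lit 0x1a61a55d8002405c71444621a5004411a44e64fe5c05bf4be58a0023b1a4463143000391a459659a000371a24e20e44c2002351a2461071002331a005e06b0001919e45f0e10022619e05e0690001818857e5c25c454f47955c0043b54f06605f19d0083f19c45d1670063d19a05e43c4c05000043819a45f4bc4bf0043a1984a24ae4b1538004061965ae18e59e002081965ae5b1000281924ac4ab53e0040719058216a16f0041d1904564b60000a18e59e17e1850040818e05405d0000b18c4530120150b30040618c4594b60002518c05405b0000a18a4501530001018205005b000205a059f4590001f17e1810022c17e0500550022817c17b59a00039))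
  (.leaf (nat_lit 0x33264121f0001733063432f7d5002093306746780022b32e63c63f0002b32c6de2882870023632a62373a75e0040832863062f68e004073286a8786000103243270003c3226151ce4f027b0020432031f7c2000393206177bc0021e72174c7c00023731e1d647d4866246da74a00a3b31c1cc1cb6166d00040431a1c81cb0022731a609259002263185fe26b002273185fb301000123165f92530041e3165f72c30000e3145ef2b1006403127a27a578371a004063121bc1bf7a80042231075074f2d10041d3101ba1bf0002030e5ed7900021e30c6b06b32f50042a30c1b81bd0024430a6061c61c90044130a63a6e06e3004353085db2ef00245))))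
def c53_P_1 : Tr := .node (.node (.node (.node (.leaf (nat_lit 0xac48a48d0002b0aa01200302d0042a0a40100150002b09e0a30022c0a20a10002c0984644790023909641c08d0043e0920950022c09200e0130022908e4744770003908a00c01b000200860890022c08600c0130022808044003c0390023a0804404620003307c00a01b0001e07807b0022c46501000b077008410744600600650024107400a00f0024007042802401f0023507042843e0002d46c4694210001b06806d0022c06c06b0002c068008013002260640670003c0660080110064006200800503d0043a06000800b0003905e4260220210023605e42644c0002e))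
  (.leaf (nat_lit 0x3c676b68875a2d62d97d00043b8877537b47b374176c3c50063b3c476b2fb002393c288e3c0792002083c288e891000283c0792300307004083c02de2e10000b87d3147663bf0083f3bc75d3770063e3ba75338d8493af879004423b87492d10001e3b8747838000103b679a7987a60041d3b67433b50000a3b42c62cb000253b273f3150063e3b072d3890000f3ae7b086b002393ac84884d002323aa7253830000f3aa7233890000b3a8715359004293a671135f004293a46f93350002f7b12b06d43a3008413a07767732e62eb004113a06cc6d20000d3a06cb39d0000b39e7767747840041d39e6cb39b0000a39c7943023070040739a7947967987a600406)))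
  (.leaf (nat_lit 0x2504cd1570000f2500d20d70000b24e4c917f5a16840040624e4c71030001724a4bb1950021b2462490003c24453a53f62c0020824452c52b0022024067022c5ac002072405365bc0002e23c4b91e70020a23a4b75a2002202384b1538000252384af22f0000a2365306720000f2364ab53e0000d2344a72210000b2324a82310043e2324a7640002142304a56360021a22e4ae0bc4341210020422c49f0c50000d22a4991190000b22665866821c64c0021121c64c6492002070041121c4942150000d21c4932190000b21a4942130002521a4932170000a21856214e153004072180a00a90000d2166462002050041d)))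
  (.node (.leaf (nat_lit 0xf00240020050371295980043b17a4fa4fd1290023a17a4c84c54620043617804e05d0041e59058d47b000191721770022c1761750002c17244f079000181704d20d84bc002355865814ed0001916816d0022c16c16b0002c16a04c0570001b16844d0eb0001816604c0530064016444d4c24c14800043816404c43a4fc0043a16256c15a5440020716244b0c7000321604490c50001015e4470bf0063e15e56856a0062b15c4441550002515a04204b0000d14e151565159000091580420470000c15655e14614d0040815003e0430002b14e4430a10001914a03c0490002014603c0410022814403c03f44309949100442))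
  (.leaf (nat_lit 0x79878f7450001b3003050022c3043030002c3025d3277000193005d72df002283001a41a9002273005d52c5002262fc2ff0003c2fc5bd2af0023e2fa6887680002f2f85b91844d625d002042f65bb7700021e2f4692760765002212f25b72b30023e2f05a7660000322f07587570021a2ec5a55a868a004082ea17c1830001e77476f6cd0001b2e42e90022c2e82e70002c2e417c17f002272e459d275002262e26126116d6004072e25951990001e2dc5b45b35aa68a004112dc6c46c36bf004077637367395c94694821e9718000232da7327352b8730002112da57724b000332d86a27542d273c002112d857524300033))))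
  (.node (.node (.node (.leaf (nat_lit 0x10e1130022c11042f0a10001310e42f09f0001210c42f09b0003110a42f0990002f1084ca4df0023210842f0970002d10642d0910003110242b08b0000e10002602f0022810042b087000120fe42b085002430fc42b083000300fa4c60ce0cd0023a0fa4c64e8000330f84c64c503c037002380f84c64c9000320f60240330001e0f642907d0000f0f4429079000124eb02a0250f3008410f0429073000310ee42706f0000f0ea0ed0022c0e802202b006400e602201f0cf0043a0e6427063000310e4022025000390e4427061000300e242505d0000f4cb02a0210df0083f0de4250530063d))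
  (.leaf (nat_lit 0x4188a88d20003741689d89b3e90024141637837b002408b78a089f77b37341500c4241482f3d70003190e8723aa7253810020487a8a28fc90c8e68e88ea00a018f690a8fa40c40f000044064098fe9088f8004058f08f28f49068748ae900002013826917263ad8773d590490382c7c58508c48c78bc34e3513f58e10040090382b7ab8868998b00004241236e371006474108458423ab8ae004024108214090000b40e83d83a3b18a20040240c81b4070000e40a8193f70063d40a8173f90042986f4050022c4044030002c4028de8e30020c40035c35f006404008153ff0062b8713fd0022c3fc3fb0002c3fa8dc8e50020c8dd35880f3f9008098df35e80d3f7008093f48073a70062b3f27fd35f0062b3f07fb3590062b)))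
  (.leaf (nat_lit 0x23e23d687628718002052a866e22a62a002082a670229a517213002042a67027070000a2a411410f29b705004042a46fe7010000b2a270829c6fc0021d2a251f2230002f29e5192190000f29c1101150002529a10e11551f2250020529a5172150000f29a10e1170000b29810e1175212290020429810e1150000a29610a1110001b2965132010001329450f1fd0000e6f06ed6ab000196f06eb51b000156f06e963f0001328e2930022c2922910002c28e51125f0001828e10810f0001428e50f1f70001228c5114dd1870043628c10810b0003328a6ba6b60064028a50d1f50063d28850b1ef0002f28669469700032)))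
  (.node (.leaf (nat_lit 0x1da07e087000181d847d0c50041e1d660c1d260a002081d660c60f000281d459258f174179004061d447a1d1000251d260a1ca1cf004081d207807d0000b1ca072079002281c81c7604000396015d41a40620671b300c424d74fa0f80fb5015d06020003b1c65f21c05ce0023a1c61c55fb5d5004364e747e57c57b4fd12b5fc0003b1c45f25f113c542002381c44f05d20002e1c24730d50001e1c24711410000f5145565f00043d1c0070073000341c047113d000311be4b24b15380041d1ba5e61b45dc002081b85e81b65cc002071b606a06f0000d1b406806f0000b1b04661af0043e1a81ad0022c1ac1ab0002c1aa4631490001b1a806206900228))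
  (.leaf (nat_lit 0x36467f3610023d36271c80a0000e36267b3570000a35c7fc8100021b35a7e03366fa70e0020435a22665e34b0041d71480080370b77e77d357000017fc7ff8083523550000235421e4a623571c004043527da7dd000163506697120002534e66b33b0024534c21a49321970a0040434c6657160000d34a66621c51c2a10020434a65f2290002534865b2250000d346657345000443447f27f43427ee002063426523410002534020a20f0000a7ec7e96ab0001f7ec7e76530001933c33f0022c33c64f3190022933c65125f0022833c20820b0001833a2065126e46e71861892ef0022333865c6626657160041133664866c0000b334643223000333326767d67d96f26f52a100203))))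
def c53_P : Tr := .node c53_P_0
  c53_P_1
def c53_N_0 : Tr := .node (.node (.node (.node (.leaf (nat_lit 0x443218f28c10c9322784648))
  (.leaf (nat_lit 172167)))
  (.node (.leaf (nat_lit 563750))
  (.leaf (nat_lit 329))))
  (.node (.node (.leaf (nat_lit 592450))
  (.leaf (nat_lit 3075)))
  (.node (.leaf (nat_lit 165025))
  (.leaf (nat_lit 462)))))
  (.node (.node (.node (.leaf (nat_lit 14228038))
  (.leaf (nat_lit 33)))
  (.node (.leaf (nat_lit 210125))
  (.leaf (nat_lit 11275))))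
  (.node (.node (.leaf (nat_lit 429475))
  (.leaf (nat_lit 198)))
  (.node (.leaf (nat_lit 68357315))
  (.leaf (nat_lit 561)))))
def c53_N_1 : Tr := .node (.node (.node (.node (.leaf (nat_lit 455132753))
  (.leaf (nat_lit 110700)))
  (.node (.leaf (nat_lit 538125))
  (.leaf (nat_lit 298))))
  (.node (.node (.leaf (nat_lit 428450))
  (.leaf (nat_lit 165)))
  (.node (.leaf (nat_lit 198850))
  (.leaf (nat_lit 15375)))))
  (.node (.node (.node (.leaf (nat_lit 539150))
  (.leaf (nat_lit 66)))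
  (.node (.leaf (nat_lit 15821))
  (.leaf (nat_lit 429))))
  (.node (.node (.leaf (nat_lit 14160388))
  (.leaf (nat_lit 8199)))
  (.node (.leaf (nat_lit 7399))
  (.leaf (nat_lit 594)))))
def c53_N_2 : Tr := .node (.node (.node (.node (.leaf (nat_lit 488718928))
  (.leaf (nat_lit 7621220582)))
  (.node (.leaf (nat_lit 18035244))
  (.leaf (nat_lit 10249))))
  (.node (.node (.leaf (nat_lit 427425))
  (.leaf (nat_lit 132)))
  (.node (.leaf (nat_lit 100450))
  (.leaf (nat_lit 495)))))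
  (.node (.node (.node (.leaf (nat_lit 570925))
  (.leaf (nat_lit 1025)))
  (.node (.leaf (nat_lit 1455501))
  (.leaf (nat_lit 396))))
  (.node (.node (.leaf (nat_lit 527875))
  (.leaf (nat_lit 263)))
  (.node (.leaf (nat_lit 2298052))
  (.leaf (nat_lit 17425)))))
def c53_N_3 : Tr := .node (.node (.node (.node (.leaf (nat_lit 451448355))
  (.leaf (nat_lit 209100)))
  (.node (.leaf (nat_lit 144525))
  (.leaf (nat_lit 363))))
  (.node (.node (.leaf (nat_lit 526850))
  (.leaf (nat_lit 5125)))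
  (.node (.leaf (nat_lit 1182851))
  (.leaf (nat_lit 528)))))
  (.node (.node (.node (.leaf (nat_lit 558625))
  (.leaf (nat_lit 99)))
  (.node (.leaf (nat_lit 99425))
  (.leaf (nat_lit 13325))))
  (.node (.node (.leaf (nat_lit 595493))
  (.leaf (nat_lit 232)))
  (.node (.leaf (nat_lit 106567))
  (.leaf (nat_lit 0)))))
def c53_N_4 : Tr := .node (.node (.node (.node (.leaf (nat_lit 462280540720))
  (.leaf (nat_lit 4366503)))
  (.node (.leaf (nat_lit 14758348))
  (.leaf (nat_lit 329))))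
  (.node (.node (.leaf (nat_lit 451482180))
  (.leaf (nat_lit 132)))
  (.node (.leaf (nat_lit 197825))
  (.leaf (nat_lit 14350)))))
  (.node (.node (.node (.leaf (nat_lit 15213063))
  (.leaf (nat_lit 33)))
  (.node (.leaf (nat_lit 242957))
  (.leaf (nat_lit 396))))
  (.node (.node (.leaf (nat_lit 462275))
  (.leaf (nat_lit 6150)))
  (.node (.leaf (nat_lit 168100))
  (.leaf (nat_lit 561)))))
def c53_N_5 : Tr := .node (.node (.node (.node (.leaf (nat_lit 454085170))
  (.leaf (nat_lit 143500)))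
  (.node (.leaf (nat_lit 571950))
  (.leaf (nat_lit 9226))))
  (.node (.node (.leaf (nat_lit 461250))
  (.leaf (nat_lit 165)))
  (.node (.leaf (nat_lit 1214626))
  (.leaf (nat_lit 528)))))
  (.node (.node (.node (.leaf (nat_lit 604750))
  (.leaf (nat_lit 2050)))
  (.node (.leaf (nat_lit 66625))
  (.leaf (nat_lit 429))))
  (.node (.node (.leaf (nat_lit 15241764))
  (.leaf (nat_lit 232)))
  (.node (.leaf (nat_lit 40999))
  (.leaf (nat_lit 18450)))))
def c53_N_6 : Tr := .node (.node (.node (.node (.leaf (nat_lit 462246987281))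
  (.leaf (nat_lit 45100)))
  (.node (.leaf (nat_lit 19827821589068))
  (.leaf (nat_lit 298))))
  (.node (.node (.leaf (nat_lit 460225))
  (.leaf (nat_lit 4100)))
  (.node (.leaf (nat_lit 133250))
  (.leaf (nat_lit 495)))))
  (.node (.node (.node (.leaf (nat_lit 603725))
  (.leaf (nat_lit 66)))
  (.node (.leaf (nat_lit 532935))
  (.leaf (nat_lit 12300))))
  (.node (.node (.leaf (nat_lit 463300))
  (.leaf (nat_lit 263)))
  (.node (.leaf (nat_lit 36612281541))
  (.leaf (nat_lit 594)))))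
def c53_N_7 : Tr := .node (.node (.node (.node (.leaf (nat_lit 15273539))
  (.leaf (nat_lit 274668)))
  (.node (.leaf (nat_lit 177325))
  (.leaf (nat_lit 363))))
  (.node (.node (.leaf (nat_lit 559650))
  (.leaf (nat_lit 198)))
  (.node (.leaf (nat_lit 167075))
  (.leaf (nat_lit 16400)))))
  (.node (.node (.node (.leaf (nat_lit 591425))
  (.leaf (nat_lit 99)))
  (.node (.leaf (nat_lit 132225))
  (.leaf (nat_lit 462))))
  (.node (.node (.leaf (nat_lit 465350))
  (.leaf (nat_lit 7176)))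
  (.node (.leaf (nat_lit 2203751))
  (.leaf (nat_lit 0)))))
def c53_N : Tr := .node (.node (.node c53_N_0
  c53_N_1)
  (.node c53_N_2
  c53_N_3))
  (.node (.node c53_N_4
  c53_N_5)
  (.node c53_N_6
  c53_N_7))
noncomputable def c53 : TC :=
  ⟨[.l 0, .l 1, .l 2, .l 3, .l 4, .l 5, .l 6, .l 7, .l 8, .l 9, .l 10, .l 11, .l 12, .l 13, .l 14, .l 15, .l 16, .l 17, .l 18],
    (nat_lit 10), (nat_lit 12), (nat_lit 0x4a307b9ac5a547418a418820), (nat_lit 1), (nat_lit 526), (nat_lit 0), (nat_lit 32), (nat_lit 21), (nat_lit 128),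
    get (nat_lit 10) (nat_lit 0x1003010030080400c02010030080400c02010030080400c02010030080400c02010030080400c02010030080400c02010030080400c02010030080400c02010030080400c02010040100401007014040140401003020050100601005014040100401004010040100301005010040100401004024050140401004014050100401004010040100401004018040100401004010040140501406018060200602013), Tr.get c53_N, get (nat_lit 20) (nat_lit 0x3ff003ff003ff003ff003ff003ff003ff003ff003ff003ff003ff003ff003ff003ff003ff003ff003ff003ff003ff003ff003ff003ff003ff003ff003ff003ff003ff003ff003ff003ff003ff003ff003ff003ff003ff003ff003ff003ff003ff003ff003ff003ff003ff003ff003ff003ff003ff003ff003ff003ff003ff003ff003ff003ff003ff003ff0005f0005e0005c0005b0005900051000500004f0004e0004d0004c0004b0004a000490004800047000460004500044000430004200041000400003f0003e0003d0003c0003b000380003500034000330003200031000300002f0002d0002c0002a0002700026000250002200021000200001f0001e0001d0001c0001b0001a00019000170001600015000140001300012000100000f0000e0000d0000c0000b0000900008000060000400003000020000100000),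
    Tr.get3 c53_F (nat_lit 30) (nat_lit 5), Tr.get3 c53_T (nat_lit 10) (nat_lit 6), Tr.get c53_P⟩

theorem c53_head : c53.headOK rn52 ivA = true := by decide +kernel

theorem c53_b0 : allFrom (nat_lit 0) (nat_lit 21) c53.blockOK = true := by decide +kernel

theorem c53_blocks : ∀ t < c53.k, c53.blockOK t = true :=
  (of_allFrom_append of_lt_zero c53_b0)

theorem c53_mem0 {G : Type*} [Group G] {γ : ℕ → G} (hL : Lab γ ivA) (hr : ∀ t ∈ rn52, t.ev γ = 1) {K : Subgroup G}
    (hK : ∀ t ∈ ([] : List W), t.ev γ ∈ K) :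
    W.ev γ (.l 1) ∈ K :=
  TC.mem (D := c53) hL (List.forall_mem_cons.2 ⟨hL.zero_mem K, hK⟩) hr c53_head c53_blocks
    (n := (nat_lit 1)) (w := (nat_lit 1)) (st := (nat_lit 2350)) (by decide +kernel) (by decide +kernel)

def c53_loops : List W := [.l 1]

theorem c53_mems {G : Type*} [Group G] {γ : ℕ → G} (hL : Lab γ ivA) (hr : ∀ t ∈ rn52, t.ev γ = 1) {K : Subgroup G}
    (hK : ∀ t ∈ ([] : List W), t.ev γ ∈ K) :
    ∀ t ∈ c53_loops, t.ev γ ∈ K :=
  List.forall_mem_cons.2 ⟨c53_mem0 hL hr hK,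
    fun _ h => absurd h List.not_mem_nil⟩

theorem tn52 {γ : ℕ → G} (S : T.Wk D o γ ivA 4096) (F : Fo D) (R : Ps D) (h : Al γ rn52) : T.Fin D :=
  (S.dead F (Al.bot (c53_mems S.lab h (nil_bot γ)))).elim

theorem tn48 {γ : ℕ → G} (S : T.Wk D o γ ivA 4096) (F : Fo D) (R : Ps D) (h : Al γ rn48) : T.Fin D :=
  let ⟨a, p, q, k⟩ := S.pin R.p3 (.mul (.mul (.inv (.mul (.mul (.mul (.mul (.inv (.l 7)) (.l 16)) (.l 17)) (.l 18)) (.l 7))) (.mul (.mul (.mul (.l 17) (.l 12)) (.l 18)) (.l 12))) (.mul (.mul (.mul (.mul (.inv (.l 7)) (.l 16)) (.l 17)) (.l 18)) (.l 7))) (by decide +kernel) nofun ((Al.bot (c49_mems S.lab h (nil_bot γ))).triv S.lab (by decide +kernel))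
  (List.forall_mem_cons.2 ⟨fun _ k => tn50 S F R (k.app h),
    List.forall_mem_cons.2 ⟨fun _ k => tn52 S F R (k.app h),
    nofun⟩⟩ : ∀ a ∈ pn3.alts, (a.1 = true → o = true) → Al γ (a.2.map (sb (.mul (.mul (.inv (.mul (.mul (.mul (.mul (.inv (.l 7)) (.l 16)) (.l 17)) (.l 18)) (.l 7))) (.mul (.mul (.mul (.l 17) (.l 12)) (.l 18)) (.l 12))) (.mul (.mul (.mul (.mul (.inv (.l 7)) (.l 16)) (.l 17)) (.l 18)) (.l 7))))) → T.Fin D) a p q k

theorem tn46 {γ : ℕ → G} (S : T.Wk D o γ ivA 4096) (F : Fo D) (R : Ps D) (h : Al γ rn46) : T.Fin D :=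
  tn48 S F R (((Al.bot (c47_mems S.lab h (nil_bot γ))).triv S.lab (by decide +kernel)).app h)

theorem tn38 {γ : ℕ → G} (S : T.Wk D o γ ivA 4096) (F : Fo D) (R : Ps D) (h : Al γ rn38) : T.Fin D :=
  let ⟨a, p, q, k⟩ := S.pin R.p2 (.mul (.mul (.pow (.mul (.l 16) (.l 17)) 2) (.l 13)) (.l 14)) (by decide +kernel) nofun ((Al.bot (c39_mems S.lab h (nil_bot γ))).triv S.lab (by decide +kernel))
  (List.forall_mem_cons.2 ⟨fun _ k => tn40 S F R (k.app h),
    List.forall_mem_cons.2 ⟨fun _ k => tn42 S F R (k.app h),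
    List.forall_mem_cons.2 ⟨fun _ k => tn44 S F R (k.app h),
    List.forall_mem_cons.2 ⟨fun _ k => tn46 S F R (k.app h),
    nofun⟩⟩⟩⟩ : ∀ a ∈ pn2.alts, (a.1 = true → o = true) → Al γ (a.2.map (sb (.mul (.mul (.pow (.mul (.l 16) (.l 17)) 2) (.l 13)) (.l 14)))) → T.Fin D) a p q k

theorem tn36 {γ : ℕ → G} (S : T.Wk D o γ ivA 4096) (F : Fo D) (R : Ps D) (h : Al γ rn36) : T.Fin D :=
  tn38 S F R (((Al.bot (c37_mems S.lab h (nil_bot γ))).triv S.lab (by decide +kernel)).app h)

def rn54 : List W := List.map (sb (.mul (.mul (.l 14) (.l 16)) (.mul (.mul (.mul (.mul (.l 4) (.l 6)) (.l 16)) (.l 6)) (.l 4)))) [.mul (.l 30) (.inv (.l 1))] ++ rn34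

def c55_F : Tr := .leaf (nat_lit 0x230117690b461c1ae2100b806421a10b00c00880c2021005803801a02502c818c11e05f05a830c1720c124d134e20910668fb480078006010012c00800701c81281460ae7903c1011200401000ec1480880670284d366d224a13485222d10c90744d7268f04782f819a08c0e807309184d0767bb421590cf0c4073a1290ce6df37348f64cc08e047410201d00f007002208204c81bdd96eaa74bbb28d946c72e5172c9944c92b797246de3c8762bb1daaad7b35d19ede16f1703d82fc0b401702b005801607f00501f40f205402302f41560c0957cadc9884bb0dd871a58d2b32341318d2e6c56d4b7102d01c43319b0c5822c322f930a14f0c232f9b0457a2c052b26fcd746bf35c9af87683bc15c0af213b0ba15a8ae61390b932b9ae02b01b822912dc9684b60da86c8cb26b50a906cc4a22b21ac0ec42a01b10a706c1956caf754babc8944ae93cc91a4ef2ad22412b048c2ab2d416aa30d1a92541299b2eda874b3a9ca845a60a00695acada549daa903421a43501a8c8724a314f8a882701a284dc28086a49f0998678c9069d34d1a711047993c02265d32e422cb966092e4952161258a5459509586506543933339a49c3ae23038808c03a024047020da22d1e335987a02500670eb9c40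e001e03900180e2075008805002401300801d80d20741978e442501910938641b18d8f746ba3a07d08d6c5362e48b28a893c61dc98e868a046143061844401e0a08308013e89fdcfee7e13e09f8cf267d73eb9f0cf067c73cb9e02e817673ab8760b707333599c0cd466c82041ae0cd06a30919a60cb0693139998c4c6657873c65cc8e190b005902ba162786bc61cc0e1891f4979a8cd5c707b971a8ad5b714396c4a8258129895cca26551a68d4e0630511858d3a45b24d68fb52e08f04a6963521c56e4771f3916211144691b50d0847416953509a34d41687b501a52d3f69434f9a4cd3d71db8e826c13911a88dc66433589844d0c586311938cb864c32d7913c95c0ee1f68a3479a26d1d6833431e00f060e986595a499226892413a0a8b4e7aa2959c9870e685ed398a7a26591bcf9486e3e4a1b4f9086c4639da998cc674629d99988c654e1a989384a5e4e0a9765812586dfb55437c15595ec950d7865395dc949b74d510dc854477035065bb13cd6c64f4daa938d6864e659b135364a4d358993456024d8d7c53155c9492569119358a453559910954442654b100f5083f4d3a8f8f4c83e35298f5d48e39551a4e0944437750b8d95409341cf8ccc93c4326ceb4c433813154da4c033412c7ccbca893042a3cba0a532ca283caa0a1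5289273c9a09c92442724890985202264c7a89491c424246908d318a2224590889144217c4bc81510920143888190cc1f342987c90841e2419075b04d1c0c08471b00d1b7bfbc5dafcd177bebc59af8d164bda8588f44167bcbc55af0d1523b9054cec6147babc4cce8613239904e0e50127b8bc49ae0d113b7a044adc51123690444d82116b5b4404d42100b484418d0c0f233903c4cc20f0b2843dac8d0e4b1a8386c430e730b835ac0d0d4afa8348bc40d1ae8c34cb860c22d9031eb4f0b4aca82ccb060b0ab842deacf0a4aaa828ca860a0a984298a4c094a8a824ca0609227902449c2090a68425898c087a5bc1d494907224901d290a06523a418c8c6062229018488206821c014e848054209c14c8060529f941487c40509e841627910479dbc11a74d0451ca41087040409b841146c90309a840cc686022199008264102498a804c60601217900445c2010968405258a00515a400e548002949400850400113880024c100712b885c48e23811c001a44d21910c80224110088fc41423c11d80ec030e3881b80dc06903470008c846243120510b8858c2c61590ac83c228113809c018224111308984202100f307980021c10d906c831c18e001058828614309904c804410207883c419c0ce05682b4004082031818c0a2051011808c00000000)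
def c55_T : Tr := .leaf (nat_lit 0xd3d2d1d0cfcecdcccbcac9c8c7c6c5c4c3c2c1c0bfbebdbcbbbab9b8b7b6b5b4b3b2b1b0afaeadacabaaa9a8a7a6a5a4a3a2a1a09f9e9d9c9b9a999897969594939291908f8e8d8c8b8a898887868584838281807f7e7d7c7b7a797877767574737271706f6e6d6c6b6a696867666564636261605f5e5d5c5b5a595857565554535251504f4e4d4c4b4a494847464544434241403f3e3d3c3b3a393837363534333231302f2e2d2c2b2a292827262524232221201f1e1d1c1b1a191817161514131211100f0e0d0c0b0a09080706050403020100)
def c55_P : Tr := .node (.node (.node (.leaf (nat_lit 0x2981426c0088ca204863002202701505c008989a0485b00201259b0000212500e23c0087c906a4590021d239aa06057002102280c1f40082c8803c110020a2180a11c0005482214000b484028550041a2080a0d400068800281f000191f80a14c000607c02851000171e80a13400810741dc00884720206d002321b8081ac008886a01865002231a0041840083c6200859006341700213c008985a0084d0022312845004210f80d03c000583c6b429002040e9ab09c000541802c0d000140300a00421))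
  (.leaf (nat_lit 0xb92b35dc00005667845a175b7496636340084d8c338d10023862a0749e654c66f004316228ca3d530041b620ca344008dd86310c700634619fd60c018c9842f0bf00635611f753c00881822e8bf00634601ed5ec000097e2a8ad0041d5f9e95d4008657c7a573002255e1e7586ab5a4010a9787aabe000285d1e54ec0085572ac2b7002225c9e54e400819702801505caf0062a5c2acabc0008d6e278a5002385b09e275690042cac4a22756b008335a9e32cc018d166268a5002375909a28c018c962799ea2b8b10042a5889a28400095602689d00022578987515700412)))
  (.node (.leaf (nat_lit 0x12813857002324984e154018b9241381f33c008b25f94c001844997652802614765a41a0090e2c4225783c801f6388ea00002513800017a5184c001264f3900019e4c85800185af92ce18025e09e493960099cea924e3802643b64708e00924e99160b802498664534a008e8e839e157be4048a0482202001226d05a17c010a52213051000244804c13c000891e6cd190021d4704846c0082d1a748861f40083116111150001745042145c67580180d0e1004f0020a431b104499002114283e2040083d080f107000244103840401869000d9cc00215))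
  (.leaf (nat_lit 0x203d7efc80264d781c0003a6cb5d7ea009904bd74c38026131f5b2ca009491fd60be80252b6b57ad600926d2d573080249b6755b0e008f6d3b5ad5a4da7d4e76b0202001a69ad3500224d34780006ad29df0005e03f491e6009a896d274380264257471ca00956a4d168580243a95dd76666cdb399fa8680600d0512000641df3f44e009928acf11080255c8b3aa22008e94270284a1e7fce337c8200801a4ccb3590c5e1853700236691244a4008d5a2481230002768a3f494000932eb2c001271ecb23c8025eca32ac759b80024c76ffb1679a7b24c9803801a04591900635))))
  (.node (.node (.leaf (nat_lit 0x22488e1f000083f0ff002213f02e3e40001e1e8761b0000e3e0fb002213e02c3c400864f03cc00884ec0a0e9000256b4eb00221399ac0e8b70020c3802235c00864d8088d5002283582072800854d4080cd002093482309400894d2080cb002063301e13c008a0ca0784d00225804c8004210c9f97f800814c8070c1000043101c2ec0008df930001084301f5f62f0c1008032f01a2ddf175c0180cb86ac8d000192e01807c00838b66ac8b000172d8181440082cb0058a9000282b81629c00888aa050a300634))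
  (.leaf (nat_lit 0x6823767c018719e8d559002206710e444008c99c8cd290021f66b015f400811983d0f700635c65020003a0f71640e008e905c56588025e9d31237a0093197c41549c60082e9ba570ec28008370cc0ee10020e63a106470565f0b0043165b06c24008af07378dd654020c192368df0062f640d837c018b98e8358b0021ebe97e0005ebeacd00049be4b400064b3ef63de00954ffbd4b5802643eef32b60099227bcc178023d886f02a2009257bbbea38026db42eda76008f580af2c6b26b85b16fbaea980013aed77ba6dfa980180ee6b8edc00224)))
  (.node (.leaf (nat_lit 0x15e8c2980001657092254008d55ba84ee3c61b00603569f47cc2b3bc0080d58228910063555888234000a154a42970022b54a2e4290d00212a44841fd5100830541c94bc010694e71d2d0061c5307c214018bd4a1e88100025529c581000065481c87570c0104148705430000551a80a0d3e19869504008d9461c07300235511bf9f00009d441b87100024501bb4dc0087d3e9e93c6f0008a53c19067000244e9b976800865386e535002259ce2a0002d9c1d08a001079cf4cc00885309a26d0022b9a45414d2f008304b050164018d52a140550062f))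
  (.leaf (nat_lit 0x1ff001ff001ff001ff001ff001ff001ff001ff001ff001ff001ff001ff001ff001ff001ff001ff001ff001ff001ff001ff001ff001ff001ff001ff001ff001ff001ff001ff001ffd98320003ad88440005ed84c200061))))
def c55_N_0 : Tr := .node (.node (.node (.node (.leaf (nat_lit 38873010702))
  (.leaf (nat_lit 99)))
  (.node (.leaf (nat_lit 599562))
  (.leaf (nat_lit 462))))
  (.node (.node (.leaf (nat_lit 14100937))
  (.leaf (nat_lit 7176)))
  (.node (.leaf (nat_lit 4366503))
  (.leaf (nat_lit 0)))))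
  (.node (.node (.node (.leaf (nat_lit 461250))
  (.leaf (nat_lit 198)))
  (.node (.leaf (nat_lit 198850))
  (.leaf (nat_lit 16400))))
  (.node (.node (.leaf (nat_lit 177325))
  (.leaf (nat_lit 363)))
  (.leaf (nat_lit 143500))))
def c55_N_1 : Tr := .node (.node (.node (.node (.leaf (nat_lit 427425))
  (.leaf (nat_lit 4100)))
  (.node (.leaf (nat_lit 132225))
  (.leaf (nat_lit 495))))
  (.node (.node (.leaf (nat_lit 472525))
  (.leaf (nat_lit 298)))
  (.leaf (nat_lit 206953))))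
  (.node (.node (.node (.leaf (nat_lit 14160388))
  (.leaf (nat_lit 263)))
  (.node (.leaf (nat_lit 2298052))
  (.leaf (nat_lit 594))))
  (.node (.node (.leaf (nat_lit 469417))
  (.leaf (nat_lit 12300)))
  (.leaf (nat_lit 66))))
def c55_N_2 : Tr := .node (.node (.node (.node (.leaf (nat_lit 592450))
  (.leaf (nat_lit 132)))
  (.node (.leaf (nat_lit 66625))
  (.leaf (nat_lit 14350))))
  (.node (.node (.leaf (nat_lit 18035244))
  (.leaf (nat_lit 329)))
  (.leaf (nat_lit 75817))))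
  (.node (.node (.node (.leaf (nat_lit 559650))
  (.leaf (nat_lit 6150)))
  (.node (.leaf (nat_lit 68357315))
  (.leaf (nat_lit 561))))
  (.node (.node (.leaf (nat_lit 242957))
  (.leaf (nat_lit 396)))
  (.leaf (nat_lit 33))))
def c55_N_3 : Tr := .node (.node (.node (.node (.leaf (nat_lit 525825))
  (.leaf (nat_lit 165)))
  (.node (.leaf (nat_lit 100450))
  (.leaf (nat_lit 528))))
  (.node (.node (.leaf (nat_lit 571950))
  (.leaf (nat_lit 9226)))
  (.leaf (nat_lit 36612286665))))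
  (.node (.node (.node (.leaf (nat_lit 465350))
  (.leaf (nat_lit 232)))
  (.node (.leaf (nat_lit 106567))
  (.leaf (nat_lit 18450))))
  (.node (.node (.leaf (nat_lit 532935))
  (.leaf (nat_lit 429)))
  (.leaf (nat_lit 2050))))
def c55_N_4 : Tr := .node (.node (.node (.node (.leaf (nat_lit 591425))
  (.leaf (nat_lit 3075)))
  (.node (.leaf (nat_lit 15821))
  (.leaf (nat_lit 462))))
  (.node (.node (.leaf (nat_lit 14758348))
  (.leaf (nat_lit 329)))
  (.leaf (nat_lit 7621220582))))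
  (.node (.node (.node (.leaf (nat_lit 526850))
  (.leaf (nat_lit 198)))
  (.node (.leaf (nat_lit 1182851))
  (.leaf (nat_lit 561))))
  (.node (.node (.leaf (nat_lit 210125))
  (.leaf (nat_lit 11275)))
  (.leaf (nat_lit 33))))
def c55_N_5 : Tr := .node (.node (.node (.node (.leaf (nat_lit 460225))
  (.leaf (nat_lit 165)))
  (.node (.leaf (nat_lit 197825))
  (.leaf (nat_lit 15375))))
  (.node (.node (.leaf (nat_lit 538125))
  (.leaf (nat_lit 298)))
  (.leaf (nat_lit 141449))))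
  (.node (.node (.node (.leaf (nat_lit 14095813))
  (.leaf (nat_lit 8199)))
  (.node (.leaf (nat_lit 7399))
  (.leaf (nat_lit 594))))
  (.node (.node (.leaf (nat_lit 501162))
  (.leaf (nat_lit 429)))
  (.leaf (nat_lit 66))))
def c55_N_6 : Tr := .node (.node (.node (.node (.leaf (nat_lit 451482180))
  (.leaf (nat_lit 132)))
  (.node (.leaf (nat_lit 99425))
  (.leaf (nat_lit 495))))
  (.node (.node (.leaf (nat_lit 19827821589068))
  (.leaf (nat_lit 10249)))
  (.leaf (nat_lit 1124425))))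
  (.node (.node (.node (.leaf (nat_lit 463300))
  (.leaf (nat_lit 263)))
  (.node (.leaf (nat_lit 168100))
  (.leaf (nat_lit 17425))))
  (.node (.node (.leaf (nat_lit 1455501))
  (.leaf (nat_lit 396)))
  (.leaf (nat_lit 1025))))
def c55_N_7 : Tr := .node (.node (.node (.node (.leaf (nat_lit 428450))
  (.leaf (nat_lit 5125)))
  (.node (.leaf (nat_lit 133250))
  (.leaf (nat_lit 528))))
  (.node (.node (.leaf (nat_lit 144525))
  (.leaf (nat_lit 363)))
  (.leaf (nat_lit 45100))))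
  (.node (.node (.node (.leaf (nat_lit 563750))
  (.leaf (nat_lit 232)))
  (.node (.leaf (nat_lit 172167))
  (.leaf (nat_lit 0))))
  (.node (.node (.leaf (nat_lit 567817))
  (.leaf (nat_lit 13325)))
  (.leaf (nat_lit 99))))
def c55_N : Tr := .node (.node (.node c55_N_0
  c55_N_1)
  (.node c55_N_2
  c55_N_3))
  (.node (.node c55_N_4
  c55_N_5)
  (.node c55_N_6
  c55_N_7))
noncomputable def c55 : TC :=
  ⟨[.l 0, .l 1, .l 2, .l 3, .l 4, .l 5, .l 6, .l 7, .l 8, .l 9, .l 10, .l 11, .l 12, .l 13, .l 14, .l 15, .l 16, .l 17, .l 18],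
    (nat_lit 8), (nat_lit 10), (nat_lit 0x4a307b9ac5a547418a418820), (nat_lit 1), (nat_lit 212), (nat_lit 0), (nat_lit 32), (nat_lit 8), (nat_lit 113),
    get (nat_lit 10) (nat_lit 0x400c0400c02010030080400c02010030080400c02010030080400c02010030080400c02010030080400c02010030080400c02010030080400c02010030080400c02010030080401008010040140401c050100400c05010060140401004010040100400c0401004010040140401004010040100402405014050100401405010040100401004010040180401008), Tr.get c55_N, get (nat_lit 20) (nat_lit 0x3ff003ff003ff003ff003ff003ff003ff003ff003ff003ff003ff003ff003ff003ff003ff003ff003ff003ff003ff003ff003ff003ff003ff003ff003ff003ff003ff003ff003ff003ff003ff003ff003ff003ff003ff003ff003ff003ff003ff003ff003ff003ff003ff003ff003ff003ff003ff003ff003ff003ff003ff003ff003ff003ff003ff003ff0004b000480004600045000440004300042000400003f0003e0003c0003a000380003700036000340003200031000300002f0002d0002c0002b0002a000290002800027000260002500024000230002200021000200001f0001e0001d0001c0001b0001900017000160001500012000100000f0000b0000a000090000800007000060000500004000030000200000),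
    Tr.get3 c55_F (nat_lit 26) (nat_lit 5), Tr.get3 c55_T (nat_lit 8) (nat_lit 6), Tr.get c55_P⟩

theorem c55_head : c55.headOK rn54 ivA = true := by decide +kernel

theorem c55_b0 : allFrom (nat_lit 0) (nat_lit 8) c55.blockOK = true := by decide +kernel

theorem c55_blocks : ∀ t < c55.k, c55.blockOK t = true :=
  (of_allFrom_append of_lt_zero c55_b0)

theorem c55_mem0 {G : Type*} [Group G] {γ : ℕ → G} (hL : Lab γ ivA) (hr : ∀ t ∈ rn54, t.ev γ = 1) {K : Subgroup G}
    (hK : ∀ t ∈ ([] : List W), t.ev γ ∈ K) :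
    W.ev γ (.mul (.mul (.mul (.mul (.mul (.mul (.l 3) (.l 17)) (.l 3)) (.l 2)) (.l 17)) (.l 14)) (.l 13)) ∈ K :=
  TC.mem (D := c55) hL (List.forall_mem_cons.2 ⟨hL.zero_mem K, hK⟩) hr c55_head c55_blocks
    (n := (nat_lit 7)) (w := (nat_lit 14446300707)) (st := (nat_lit 0xb037510200601002)) (by decide +kernel) (by decide +kernel)

theorem c55_mem1 {G : Type*} [Group G] {γ : ℕ → G} (hL : Lab γ ivA) (hr : ∀ t ∈ rn54, t.ev γ = 1) {K : Subgroup G}
    (hK : ∀ t ∈ ([] : List W), t.ev γ ∈ K) :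
    W.ev γ (.mul (.mul (.mul (.mul (.mul (.mul (.l 3) (.l 18)) (.l 3)) (.l 2)) (.l 1)) (.l 18)) (.l 14)) ∈ K :=
  TC.mem (D := c55) hL (List.forall_mem_cons.2 ⟨hL.zero_mem K, hK⟩) hr c55_head c55_blocks
    (n := (nat_lit 7)) (w := (nat_lit 15637483075)) (st := (nat_lit 0x1906f640581404802)) (by decide +kernel) (by decide +kernel)

theorem c55_mem2 {G : Type*} [Group G] {γ : ℕ → G} (hL : Lab γ ivA) (hr : ∀ t ∈ rn54, t.ev γ = 1) {K : Subgroup G}
    (hK : ∀ t ∈ ([] : List W), t.ev γ ∈ K) :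
    W.ev γ (.mul (.mul (.mul (.mul (.mul (.mul (.l 6) (.l 16)) (.l 6)) (.l 1)) (.l 16)) (.l 14)) (.l 13)) ∈ K :=
  TC.mem (D := c55) hL (List.forall_mem_cons.2 ⟨hL.zero_mem K, hK⟩) hr c55_head c55_blocks
    (n := (nat_lit 7)) (w := (nat_lit 14445222406)) (st := (nat_lit 0xb03655090220801e)) (by decide +kernel) (by decide +kernel)

theorem c55_mem3 {G : Type*} [Group G] {γ : ℕ → G} (hL : Lab γ ivA) (hr : ∀ t ∈ rn54, t.ev γ = 1) {K : Subgroup G}
    (hK : ∀ t ∈ ([] : List W), t.ev γ ∈ K) :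
    W.ev γ (.mul (.mul (.mul (.mul (.mul (.mul (.l 6) (.l 18)) (.l 6)) (.l 2)) (.l 1)) (.l 18)) (.l 13)) ∈ K :=
  TC.mem (D := c55) hL (List.forall_mem_cons.2 ⟨hL.zero_mem K, hK⟩) hr c55_head c55_blocks
    (n := (nat_lit 7)) (w := (nat_lit 14563744326)) (st := (nat_lit 0xb0c76c0b82c0a81e)) (by decide +kernel) (by decide +kernel)

theorem c55_mem4 {G : Type*} [Group G] {γ : ℕ → G} (hL : Lab γ ivA) (hr : ∀ t ∈ rn54, t.ev γ = 1) {K : Subgroup G}
    (hK : ∀ t ∈ ([] : List W), t.ev γ ∈ K) :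
    W.ev γ (.mul (.mul (.mul (.mul (.mul (.l 7) (.l 16)) (.inv (.l 7))) (.l 1)) (.l 16)) (.l 14)) ∈ K :=
  TC.mem (D := c55) hL (List.forall_mem_cons.2 ⟨hL.zero_mem K, hK⟩) hr c55_head c55_blocks
    (n := (nat_lit 6)) (w := (nat_lit 486580743)) (st := (nat_lit 0x643bc6c380d834)) (by decide +kernel) (by decide +kernel)

theorem c55_mem5 {G : Type*} [Group G] {γ : ℕ → G} (hL : Lab γ ivA) (hr : ∀ t ∈ rn54, t.ev γ = 1) {K : Subgroup G}
    (hK : ∀ t ∈ ([] : List W), t.ev γ ∈ K) :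
    W.ev γ (.mul (.mul (.mul (.l 13) (.l 17)) (.l 13)) (.l 17)) ∈ K :=
  TC.mem (D := c55) hL (List.forall_mem_cons.2 ⟨hL.zero_mem K, hK⟩) hr c55_head c55_blocks
    (n := (nat_lit 4)) (w := (nat_lit 570925)) (st := (nat_lit 70681425930)) (by decide +kernel) (by decide +kernel)

theorem c55_mem6 {G : Type*} [Group G] {γ : ℕ → G} (hL : Lab γ ivA) (hr : ∀ t ∈ rn54, t.ev γ = 1) {K : Subgroup G}
    (hK : ∀ t ∈ ([] : List W), t.ev γ ∈ K) :
    W.ev γ (.mul (.mul (.mul (.l 13) (.l 18)) (.l 13)) (.l 18)) ∈ K :=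
  TC.mem (D := c55) hL (List.forall_mem_cons.2 ⟨hL.zero_mem K, hK⟩) hr c55_head c55_blocks
    (n := (nat_lit 4)) (w := (nat_lit 603725)) (st := (nat_lit 72857206794)) (by decide +kernel) (by decide +kernel)

theorem c55_mem7 {G : Type*} [Group G] {γ : ℕ → G} (hL : Lab γ ivA) (hr : ∀ t ∈ rn54, t.ev γ = 1) {K : Subgroup G}
    (hK : ∀ t ∈ ([] : List W), t.ev γ ∈ K) :
    W.ev γ (.mul (.mul (.mul (.l 14) (.l 16)) (.l 14)) (.l 16)) ∈ K :=
  TC.mem (D := c55) hL (List.forall_mem_cons.2 ⟨hL.zero_mem K, hK⟩) hr c55_head c55_blocks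
    (n := (nat_lit 4)) (w := (nat_lit 539150)) (st := (nat_lit 76874311704)) (by decide +kernel) (by decide +kernel)

theorem c55_mem8 {G : Type*} [Group G] {γ : ℕ → G} (hL : Lab γ ivA) (hr : ∀ t ∈ rn54, t.ev γ = 1) {K : Subgroup G}
    (hK : ∀ t ∈ ([] : List W), t.ev γ ∈ K) :
    W.ev γ (.mul (.mul (.mul (.l 14) (.l 18)) (.l 14)) (.l 18)) ∈ K :=
  TC.mem (D := c55) hL (List.forall_mem_cons.2 ⟨hL.zero_mem K, hK⟩) hr c55_head c55_blocks
    (n := (nat_lit 4)) (w := (nat_lit 604750)) (st := (nat_lit 72856135704)) (by decide +kernel) (by decide +kernel)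

def c55_loops : List W := [.mul (.mul (.mul (.mul (.mul (.mul (.l 3) (.l 17)) (.l 3)) (.l 2)) (.l 17)) (.l 14)) (.l 13), .mul (.mul (.mul (.mul (.mul (.mul (.l 3) (.l 18)) (.l 3)) (.l 2)) (.l 1)) (.l 18)) (.l 14), .mul (.mul (.mul (.mul (.mul (.mul (.l 6) (.l 16)) (.l 6)) (.l 1)) (.l 16)) (.l 14)) (.l 13), .mul (.mul (.mul (.mul (.mul (.mul (.l 6) (.l 18)) (.l 6)) (.l 2)) (.l 1)) (.l 18)) (.l 13), .mul (.mul (.mul (.mul (.mul (.l 7) (.l 16)) (.inv (.l 7))) (.l 1)) (.l 16)) (.l 14), .mul (.mul (.mul (.l 13) (.l 17)) (.l 13)) (.l 17), .mul (.mul (.mul (.l 13) (.l 18)) (.l 13)) (.l 18), .mul (.mul (.mul (.l 14) (.l 16)) (.l 14)) (.l 16), .mul (.mul (.mul (.l 14) (.l 18)) (.l 14)) (.l 18)]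

theorem c55_mems {G : Type*} [Group G] {γ : ℕ → G} (hL : Lab γ ivA) (hr : ∀ t ∈ rn54, t.ev γ = 1) {K : Subgroup G}
    (hK : ∀ t ∈ ([] : List W), t.ev γ ∈ K) :
    ∀ t ∈ c55_loops, t.ev γ ∈ K :=
  List.forall_mem_cons.2 ⟨c55_mem0 hL hr hK,
    List.forall_mem_cons.2 ⟨c55_mem1 hL hr hK,
    List.forall_mem_cons.2 ⟨c55_mem2 hL hr hK,
    List.forall_mem_cons.2 ⟨c55_mem3 hL hr hK,
    List.forall_mem_cons.2 ⟨c55_mem4 hL hr hK,
    List.forall_mem_cons.2 ⟨c55_mem5 hL hr hK,
    List.forall_mem_cons.2 ⟨c55_mem6 hL hr hK,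
    List.forall_mem_cons.2 ⟨c55_mem7 hL hr hK,
    List.forall_mem_cons.2 ⟨c55_mem8 hL hr hK,
    fun _ h => absurd h List.not_mem_nil⟩⟩⟩⟩⟩⟩⟩⟩⟩

def rn56 : List W := [.mul (.mul (.mul (.mul (.mul (.mul (.l 3) (.l 17)) (.l 3)) (.l 2)) (.l 17)) (.l 14)) (.l 13), .mul (.mul (.mul (.mul (.mul (.mul (.l 3) (.l 18)) (.l 3)) (.l 2)) (.l 1)) (.l 18)) (.l 14), .mul (.mul (.mul (.mul (.mul (.mul (.l 6) (.l 16)) (.l 6)) (.l 1)) (.l 16)) (.l 14)) (.l 13), .mul (.mul (.mul (.mul (.mul (.mul (.l 6) (.l 18)) (.l 6)) (.l 2)) (.l 1)) (.l 18)) (.l 13), .mul (.mul (.mul (.mul (.mul (.l 7) (.l 16)) (.inv (.l 7))) (.l 1)) (.l 16)) (.l 14), .mul (.mul (.mul (.l 13) (.l 17)) (.l 13)) (.l 17), .mul (.mul (.mul (.l 13) (.l 18)) (.l 13)) (.l 18), .mul (.mul (.mul (.l 14) (.l 16)) (.l 14)) (.l 16), .mul (.mul (.mul (.l 14) (.l 18)) (.l 14)) (.l 18)] ++ rn54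

def c57_F : Tr := .leaf (nat_lit 0x893114050050120b47b0ef3626da2cc550340547a8d91542d619c3576aed2194341502d0798d814c2cdd9bb21482c833071762ec0320703306bd9731864ecb63546c758eae3446b84d0a9d53a88bf16c0d82025247e12c298490a08f1268c7199d33a46cad9a31464746e888e9226c2d7583b1718235e2a4501062504109310224a27c4b08613c2104e0821361b4277eaf51ba3547e6f4db93537e2f39b834e65ec20d71888db115f63c46d6d11f53c3752e0db434334e60df33c274ae09b23427c6f05b13412424063045f83f07a2f45d83b0708e1002364122d4598330622c45782f0586b0c01aa3120a4138a714a094111222004808481f03a2744d81b03026040096112254498130222444780f0198330060ac122244380700a2144180300000000)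
def c57_T : Tr := .leaf (nat_lit 0x36d74cf2c70beeb6caeaa689e69648e28607de75c6da6585d65544d24503ce34c2ca2481c61440c2040)
def c57_P : Tr := .node (.leaf (nat_lit 0x607149000055e5da8002163081115d004105a0a084f00410a2a19d00212565900214560851002029c938d0020350550021498400004840975209378040e3e908b940040d52064b00203500649002118c89853d0000e8c898700212484d002144c4b0001448044500202444700214444382002133a3803430080d2e2c0d0f0000f2e2c030000c20087a0020b2879070000a2677050000b2422030000a160872002041e7107000071c6f05000041a180300007))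
  (.leaf (nat_lit 0x1ff001ff001ff001ff001ff001ff001ff001ff001ff001ff001ff001ff001ffd114000485bcf1580248a76dcc5e138020fabb9b7b0ca004156c4e519d9fb000401c734000482a57a3a5c2c4358020032b9c00000cbebb9d00009bebdb500203686b0021468286500211687b5100008307f45878eb600400b4b38d0000964670021464794900008aead8d00006606300214))
def c57_N_0 : Tr := .node (.node (.node (.node (.leaf (nat_lit 14446300707))
  (.leaf (nat_lit 14350)))
  (.leaf (nat_lit 132)))
  (.node (.leaf (nat_lit 18035244))
  (.leaf (nat_lit 329))))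
  (.node (.node (.node (.leaf (nat_lit 428450))
  (.leaf (nat_lit 561)))
  (.leaf (nat_lit 6150)))
  (.node (.leaf (nat_lit 33))
  (.leaf (nat_lit 396))))
def c57_N_1 : Tr := .node (.node (.node (.node (.leaf (nat_lit 558625))
  (.leaf (nat_lit 528)))
  (.leaf (nat_lit 165)))
  (.node (.leaf (nat_lit 15821))
  (.leaf (nat_lit 9226))))
  (.node (.node (.leaf (nat_lit 527875))
  (.leaf (nat_lit 232)))
  (.node (.leaf (nat_lit 2050))
  (.leaf (nat_lit 429))))
def c57_N_2 : Tr := .node (.node (.node (.node (.leaf (nat_lit 570925))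
  (.leaf (nat_lit 495)))
  (.leaf (nat_lit 4100)))
  (.node (.leaf (nat_lit 571950))
  (.leaf (nat_lit 298))))
  (.node (.node (.node (.leaf (nat_lit 526850))
  (.leaf (nat_lit 0)))
  (.leaf (nat_lit 263)))
  (.node (.leaf (nat_lit 66))
  (.leaf (nat_lit 12300))))
def c57_N_3 : Tr := .node (.node (.node (.node (.leaf (nat_lit 460225))
  (.leaf (nat_lit 16400)))
  (.leaf (nat_lit 198)))
  (.node (.leaf (nat_lit 209100))
  (.leaf (nat_lit 363))))
  (.node (.node (.leaf (nat_lit 15241764))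
  (.leaf (nat_lit 7176)))
  (.node (.leaf (nat_lit 99))
  (.leaf (nat_lit 462))))
def c57_N_4 : Tr := .node (.node (.node (.node (.leaf (nat_lit 14445222406))
  (.leaf (nat_lit 495)))
  (.leaf (nat_lit 132)))
  (.node (.leaf (nat_lit 538125))
  (.leaf (nat_lit 10249))))
  (.node (.node (.node (.leaf (nat_lit 461250))
  (.leaf (nat_lit 17425)))
  (.leaf (nat_lit 263)))
  (.node (.leaf (nat_lit 1025))
  (.leaf (nat_lit 396))))
def c57_N_5 : Tr := .node (.node (.node (.node (.leaf (nat_lit 427425))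
  (.leaf (nat_lit 528)))
  (.leaf (nat_lit 5125)))
  (.node (.leaf (nat_lit 68357315))
  (.leaf (nat_lit 363))))
  (.node (.node (.leaf (nat_lit 14160388))
  (.leaf (nat_lit 232)))
  (.node (.leaf (nat_lit 99))
  (.leaf (nat_lit 13325))))
def c57_N_6 : Tr := .node (.node (.node (.node (.leaf (nat_lit 539150))
  (.leaf (nat_lit 15375)))
  (.leaf (nat_lit 165)))
  (.node (.leaf (nat_lit 144525))
  (.leaf (nat_lit 298))))
  (.node (.node (.node (.leaf (nat_lit 559650))
  (.leaf (nat_lit 0)))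
  (.leaf (nat_lit 8199)))
  (.node (.leaf (nat_lit 66))
  (.leaf (nat_lit 429))))
def c57_N_7 : Tr := .node (.node (.node (.node (.leaf (nat_lit 525825))
  (.leaf (nat_lit 561)))
  (.leaf (nat_lit 198)))
  (.node (.leaf (nat_lit 33))
  (.leaf (nat_lit 11275))))
  (.node (.node (.leaf (nat_lit 16888332))
  (.leaf (nat_lit 329)))
  (.node (.leaf (nat_lit 3075))
  (.leaf (nat_lit 462))))
def c57_N : Tr := .node (.node (.node c57_N_0
  c57_N_1)
  (.node c57_N_2
  c57_N_3))
  (.node (.node c57_N_4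
  c57_N_5)
  (.node c57_N_6
  c57_N_7))
noncomputable def c57 : TC :=
  ⟨[.l 0, .l 1, .l 2, .l 3, .l 4, .l 5, .l 6, .l 7, .l 8, .l 9, .l 10, .l 11, .l 12, .l 13, .l 14, .l 15, .l 16, .l 17],
    (nat_lit 6), (nat_lit 8), (nat_lit 0x2307b9ac5a547418a418820), (nat_lit 1), (nat_lit 55), (nat_lit 0), (nat_lit 32), (nat_lit 2), (nat_lit 76),
    get (nat_lit 10) (nat_lit 0x1003010030080400c02010030080400c02010030080400c02010030080400c02010030080400c02010030080400c02010030080400c02010030080400c0201003008040180301004010050140501404010040100401004010040100401c07), Tr.get c57_N, get (nat_lit 20) (nat_lit 0x3ff003ff003ff003ff003ff003ff003ff003ff003ff003ff003ff003ff003ff003ff003ff003ff003ff003ff003ff003ff003ff003ff003ff003ff003ff003ff003ff003ff003ff003ff003ff003ff003ff003ff003ff003ff003ff003ff003ff003ff003ff003ff003ff003ff003ff003ff003ff003ff003ff003ff003ff003ff003ff000560003f0003300029000280002700024000230001a000190001700014000130001200011000100000f0000e0000a00007000050000200000),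
    Tr.get3 c57_F (nat_lit 22) (nat_lit 5), Tr.get3 c57_T (nat_lit 6) (nat_lit 7), Tr.get c57_P⟩

theorem c57_head : c57.headOK rn56 ivA = true := by decide +kernel

theorem c57_b0 : allFrom (nat_lit 0) (nat_lit 2) c57.blockOK = true := by decide +kernel

theorem c57_blocks : ∀ t < c57.k, c57.blockOK t = true :=
  (of_allFrom_append of_lt_zero c57_b0)

theorem c57_mem0 {G : Type*} [Group G] {γ : ℕ → G} (hL : Lab γ ivA) (hr : ∀ t ∈ rn56, t.ev γ = 1) {K : Subgroup G}
    (hK : ∀ t ∈ ([] : List W), t.ev γ ∈ K) :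
    W.ev γ (.mul (.mul (.pow (.mul (.l 16) (.l 17)) 2) (.l 12)) (.inv (.mul (.l 12) (.pow (.mul (.l 16) (.l 17)) 2)))) ∈ K :=
  TC.mem (D := c57) hL (List.forall_mem_cons.2 ⟨hL.zero_mem K, hK⟩) hr c57_head c57_blocks
    (n := (nat_lit 10)) (w := (nat_lit 440406530114096)) (st := (nat_lit 0xd0f1113d20a08060402)) (by decide +kernel) (by decide +kernel)

theorem c57_mem1 {G : Type*} [Group G] {γ : ℕ → G} (hL : Lab γ ivA) (hr : ∀ t ∈ rn56, t.ev γ = 1) {K : Subgroup G}
    (hK : ∀ t ∈ ([] : List W), t.ev γ ∈ K) :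
    W.ev γ (.mul (.mul (.pow (.mul (.l 16) (.l 17)) 2) (.l 1)) (.inv (.mul (.l 1) (.pow (.mul (.l 16) (.l 17)) 2)))) ∈ K :=
  TC.mem (D := c57) hL (List.forall_mem_cons.2 ⟨hL.zero_mem K, hK⟩) hr c57_head c57_blocks
    (n := (nat_lit 10)) (w := (nat_lit 53378425602608)) (st := (nat_lit 0x191b1d1f741608060402)) (by decide +kernel) (by decide +kernel)

theorem c57_mem2 {G : Type*} [Group G] {γ : ℕ → G} (hL : Lab γ ivA) (hr : ∀ t ∈ rn56, t.ev γ = 1) {K : Subgroup G}
    (hK : ∀ t ∈ ([] : List W), t.ev γ ∈ K) :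
    W.ev γ (.mul (.mul (.pow (.mul (.l 16) (.l 17)) 2) (.l 2)) (.inv (.mul (.l 2) (.pow (.mul (.l 16) (.l 17)) 2)))) ∈ K :=
  TC.mem (D := c57) hL (List.forall_mem_cons.2 ⟨hL.zero_mem K, hK⟩) hr c57_head c57_blocks
    (n := (nat_lit 10)) (w := (nat_lit 88562798740016)) (st := (nat_lit 0x232527297c2008060402)) (by decide +kernel) (by decide +kernel)

theorem c57_mem3 {G : Type*} [Group G] {γ : ℕ → G} (hL : Lab γ ivA) (hr : ∀ t ∈ rn56, t.ev γ = 1) {K : Subgroup G}
    (hK : ∀ t ∈ ([] : List W), t.ev γ ∈ K) :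
    W.ev γ (.mul (.mul (.pow (.mul (.l 16) (.l 17)) 2) (.l 3)) (.inv (.mul (.l 3) (.pow (.mul (.l 16) (.l 17)) 2)))) ∈ K :=
  TC.mem (D := c57) hL (List.forall_mem_cons.2 ⟨hL.zero_mem K, hK⟩) hr c57_head c57_blocks
    (n := (nat_lit 10)) (w := (nat_lit 123747171877424)) (st := (nat_lit 0x2d2f3133c82a08060402)) (by decide +kernel) (by decide +kernel)

theorem c57_mem4 {G : Type*} [Group G] {γ : ℕ → G} (hL : Lab γ ivA) (hr : ∀ t ∈ rn56, t.ev γ = 1) {K : Subgroup G}
    (hK : ∀ t ∈ ([] : List W), t.ev γ ∈ K) :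
    W.ev γ (.mul (.mul (.pow (.mul (.l 16) (.l 17)) 2) (.l 4)) (.inv (.mul (.l 4) (.pow (.mul (.l 16) (.l 17)) 2)))) ∈ K :=
  TC.mem (D := c57) hL (List.forall_mem_cons.2 ⟨hL.zero_mem K, hK⟩) hr c57_head c57_blocks
    (n := (nat_lit 10)) (w := (nat_lit 158931545014832)) (st := (nat_lit 0x393b3d3f9a3608060402)) (by decide +kernel) (by decide +kernel)

def c57_loops : List W := [.mul (.mul (.pow (.mul (.l 16) (.l 17)) 2) (.l 12)) (.inv (.mul (.l 12) (.pow (.mul (.l 16) (.l 17)) 2))), .mul (.mul (.pow (.mul (.l 16) (.l 17)) 2) (.l 1)) (.inv (.mul (.l 1) (.pow (.mul (.l 16) (.l 17)) 2))), .mul (.mul (.pow (.mul (.l 16) (.l 17)) 2) (.l 2)) (.inv (.mul (.l 2) (.pow (.mul (.l 16) (.l 17)) 2))), .mul (.mul (.pow (.mul (.l 16) (.l 17)) 2) (.l 3)) (.inv (.mul (.l 3) (.pow (.mul (.l 16) (.l 17)) 2))), .mul (.mul (.pow (.mul (.l 16) (.l 17)) 2) (.l 4)) (.inv (.mul (.l 4) (.pow (.mul (.l 16) (.l 17)) 2)))]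

theorem c57_mems {G : Type*} [Group G] {γ : ℕ → G} (hL : Lab γ ivA) (hr : ∀ t ∈ rn56, t.ev γ = 1) {K : Subgroup G}
    (hK : ∀ t ∈ ([] : List W), t.ev γ ∈ K) :
    ∀ t ∈ c57_loops, t.ev γ ∈ K :=
  List.forall_mem_cons.2 ⟨c57_mem0 hL hr hK,
    List.forall_mem_cons.2 ⟨c57_mem1 hL hr hK,
    List.forall_mem_cons.2 ⟨c57_mem2 hL hr hK,
    List.forall_mem_cons.2 ⟨c57_mem3 hL hr hK,
    List.forall_mem_cons.2 ⟨c57_mem4 hL hr hK,
    fun _ h => absurd h List.not_mem_nil⟩⟩⟩⟩⟩

def rn58 : List W := List.map (sb (.pow (.mul (.l 16) (.l 17)) 2)) [.l 30] ++ rn56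

def c59_F : Tr := .leaf (nat_lit 0x88e2601c068420e8be308260f8a62e80a0303003008048360b8a22d8aa2b8220a5412653d25539232b4a3832022aca22a8a1525202a0a089e2391a45896208120390e4090a418060000000)
def c59_T : Tr := .leaf (nat_lit 0x107b9ac5a928398a418820)
def c59_P : Tr := .leaf (nat_lit 0x3fe003fe003fe003fe003fe003fe003fe003fe003fe003fe003fe003fe003fe003fe003fe003fe003fe003fe003fee470001b216c707c03023164d00000100c3e0040678513002043818980101ad30000662559980233106d416800014a8d3000001a0c4400808b042a004045011100201)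
def c59_N_0 : Tr := .node (.node (.node (.node (.leaf (nat_lit 574000))
  (.leaf (nat_lit 298)))
  (.node (.leaf (nat_lit 4100))
  (.leaf (nat_lit 495))))
  (.node (.node (.leaf (nat_lit 66))
  (.leaf (nat_lit 12300)))
  (.node (.leaf (nat_lit 263))
  (.leaf (nat_lit 594)))))
  (.node (.node (.node (.leaf (nat_lit 567817))
  (.leaf (nat_lit 363)))
  (.node (.leaf (nat_lit 198))
  (.leaf (nat_lit 16400))))
  (.node (.node (.leaf (nat_lit 99))
  (.leaf (nat_lit 462)))
  (.node (.leaf (nat_lit 7176))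
  (.leaf (nat_lit 0)))))
def c59_N_1 : Tr := .node (.node (.node (.node (.leaf (nat_lit 595493))
  (.leaf (nat_lit 9226)))
  (.node (.leaf (nat_lit 165))
  (.leaf (nat_lit 528))))
  (.node (.node (.leaf (nat_lit 2050))
  (.leaf (nat_lit 429)))
  (.node (.leaf (nat_lit 232))
  (.leaf (nat_lit 18450)))))
  (.node (.node (.node (.leaf (nat_lit 33))
  (.leaf (nat_lit 396)))
  (.node (.leaf (nat_lit 6150))
  (.leaf (nat_lit 561))))
  (.node (.node (.leaf (nat_lit 132))
  (.leaf (nat_lit 14350)))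
  (.leaf (nat_lit 329))))
def c59_N_2 : Tr := .node (.node (.node (.node (.leaf (nat_lit 529925))
  (.leaf (nat_lit 298)))
  (.node (.leaf (nat_lit 165))
  (.leaf (nat_lit 15375))))
  (.node (.node (.leaf (nat_lit 66))
  (.leaf (nat_lit 429)))
  (.node (.leaf (nat_lit 8199))
  (.leaf (nat_lit 594)))))
  (.node (.node (.node (.leaf (nat_lit 33))
  (.leaf (nat_lit 11275)))
  (.node (.leaf (nat_lit 198))
  (.leaf (nat_lit 561))))
  (.node (.node (.leaf (nat_lit 3075))
  (.leaf (nat_lit 462)))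
  (.leaf (nat_lit 329))))
def c59_N_3 : Tr := .node (.node (.node (.node (.leaf (nat_lit 600617))
  (.leaf (nat_lit 363)))
  (.node (.leaf (nat_lit 5125))
  (.leaf (nat_lit 528))))
  (.node (.node (.leaf (nat_lit 99))
  (.leaf (nat_lit 13325)))
  (.node (.leaf (nat_lit 232))
  (.leaf (nat_lit 0)))))
  (.node (.node (.node (.leaf (nat_lit 1025))
  (.leaf (nat_lit 396)))
  (.node (.leaf (nat_lit 263))
  (.leaf (nat_lit 17425))))
  (.node (.node (.leaf (nat_lit 132))
  (.leaf (nat_lit 495)))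
  (.leaf (nat_lit 10249))))
def c59_N : Tr := .node (.node c59_N_0
  c59_N_1)
  (.node c59_N_2
  c59_N_3)
noncomputable def c59 : TC :=
  ⟨[.l 0, .l 1, .l 2, .l 3, .l 4, .l 5, .l 6, .l 7, .l 8, .l 9, .l 10, .l 11, .l 12, .l 13, .l 14, .l 15, .l 16, .l 17, .l 18],
    (nat_lit 5), (nat_lit 7), (nat_lit 0x4a307b9ac5a547418a418820), (nat_lit 1), (nat_lit 17), (nat_lit 0), (nat_lit 32), (nat_lit 1), (nat_lit 61),
    get (nat_lit 10) (nat_lit 0x400c0400c02010030080400c02010030080400c02010030080400c02010030080400c02010030080400c02010030080400c02010030080400c02010030080400c0201003008040100401004), Tr.get c59_N, get (nat_lit 20) (nat_lit 0x3ff003ff003ff003ff003ff003ff003ff003ff003ff003ff003ff003ff003ff003ff003ff003ff003ff003ff003ff003ff003ff003ff003ff003ff003ff003ff003ff003ff003ff003ff003ff003ff003ff003ff003ff003ff003ff003ff003ff003ff003ff003ff003ff003ff003ff003ff003ff003ff003ff003ff003ff003ff003ff003ff003ff003ff00032000220001e0001d00000),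
    Tr.get3 c59_F (nat_lit 20) (nat_lit 5), Tr.get3 c59_T (nat_lit 5) (nat_lit 7), Tr.get c59_P⟩

theorem c59_head : c59.headOK rn58 ivA = true := by decide +kernel

theorem c59_b0 : allFrom (nat_lit 0) (nat_lit 1) c59.blockOK = true := by decide +kernel

theorem c59_blocks : ∀ t < c59.k, c59.blockOK t = true :=
  (of_allFrom_append of_lt_zero c59_b0)

theorem c59_mem0 {G : Type*} [Group G] {γ : ℕ → G} (hL : Lab γ ivA) (hr : ∀ t ∈ rn58, t.ev γ = 1) {K : Subgroup G}
    (hK : ∀ t ∈ ([] : List W), t.ev γ ∈ K) :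
    W.ev γ (.mul (.mul (.mul (.l 16) (.l 18)) (.l 16)) (.l 18)) ∈ K :=
  TC.mem (D := c59) hL (List.forall_mem_cons.2 ⟨hL.zero_mem K, hK⟩) hr c59_head c59_blocks
    (n := (nat_lit 4)) (w := (nat_lit 606800)) (st := (nat_lit 15450626)) (by decide +kernel) (by decide +kernel)

theorem c59_mem1 {G : Type*} [Group G] {γ : ℕ → G} (hL : Lab γ ivA) (hr : ∀ t ∈ rn58, t.ev γ = 1) {K : Subgroup G}
    (hK : ∀ t ∈ ([] : List W), t.ev γ ∈ K) :
    W.ev γ (.mul (.mul (.mul (.l 17) (.l 18)) (.l 17)) (.l 18)) ∈ K :=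
  TC.mem (D := c59) hL (List.forall_mem_cons.2 ⟨hL.zero_mem K, hK⟩) hr c59_head c59_blocks
    (n := (nat_lit 4)) (w := (nat_lit 607825)) (st := (nat_lit 15631882)) (by decide +kernel) (by decide +kernel)

def c59_loops : List W := [.mul (.mul (.mul (.l 16) (.l 18)) (.l 16)) (.l 18), .mul (.mul (.mul (.l 17) (.l 18)) (.l 17)) (.l 18)]

theorem c59_mems {G : Type*} [Group G] {γ : ℕ → G} (hL : Lab γ ivA) (hr : ∀ t ∈ rn58, t.ev γ = 1) {K : Subgroup G}
    (hK : ∀ t ∈ ([] : List W), t.ev γ ∈ K) :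
    ∀ t ∈ c59_loops, t.ev γ ∈ K :=
  List.forall_mem_cons.2 ⟨c59_mem0 hL hr hK,
    List.forall_mem_cons.2 ⟨c59_mem1 hL hr hK,
    fun _ h => absurd h List.not_mem_nil⟩⟩

def rn60 : List W := [.mul (.mul (.mul (.l 16) (.l 18)) (.l 16)) (.l 18), .mul (.mul (.mul (.l 17) (.l 18)) (.l 17)) (.l 18)] ++ rn58

def c61_F : Tr := .node (.leaf (nat_lit 0x6bfdabc3bf50ff23588fe6bf5ab92ae8afd63dd8fc63d98fb3945043014804301440e501400e3013c0e001380dd1b2064d11344dc136844c93e64da1be46c3130c4fa62098fa0b642fa1be06d963d58f81b046f58bc22f51b586f41af86f321b48f22bc4a6d3bbd0f111b0478212086c69adaed23b886b8bae2ee23b086a93a64ec73b1ceb93a24eb11d84ea73a5ce8211486901a40e6419cee7410cee5938e4e56901a310104031010009d183463f00fc09913404e41b8c6d08b822e31b3c6e27389ccc6b85ae283760e01a4c6df6a41adf63698dc93664db63058d93989054018c0542198862018809b925e460282ca6001800922828a5f017c08f0b1c25e017808c202085d0b1425d022405d2170887621d8d8216c8d813044d8735dc5b69e9ad618f46ce6b31a3d1b2c63c68f1ac910e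c4c86b19a3b68e9a886a0da3910e448513004386aeda3710dc4bf1ae863618d46b712d84d51b506b6934a4d420dc85a2964a3628d4a58295cad390d64d319146d2427ced18b3e2d00a602d00a4c2ce0a442cd0a402cc83260cc4320ecb0a382ca4318ec963158c70a302c763118c60a242c50a202c4730dcc262018c20a082c17305cc062158c00a002c08afe2c03ae90bf09f82be09f42bd3ae50bc09f02bc09e82bb82de0ba8ada2b809d82b509182b38aba2b182b60b042aceac62a98ab929a4aa3294ca98a962a83a910a5828a0a38a862a292824a161158a060c189f608589e3a6509d68c5a9d926249c4150e9b219889b8a5e29b2a68a66924a4977255c936a51a95823e0924230e8f622988d622588c602988b8a1228a920e488721dc856a19a8761fd88419286827209c806a05a8291f647f39e507c112447b19e864939dd07a2838a6528cca5620388541010448100c447100844611144011838643180463368c1a210838230083422f083022e082c22d082822c082422b082022a081c229081822808142270810226080c2250808224080422360058128cca2af64c58ae64c18a134bcca11cb86961cb46917cb1e9024ac8906ca9a8e1ca468e24a088b1c9c67e2c98a7a64958784490e781c8c6767c89e756c85a757c81e746c7da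746c79a732c74a732c70a72246c87224688718c6627024608708c5e26f3458c6d645586c7c51e6b1c4c66b6c49a6a7c45e696c41a69943e4667c39e663c350642430861242c860242885f942645e8c2225e2c1ca5e3c1905d2c14a5d141045c0c0c25c140845b6c05a5a1c0065a13fc45a0bf825a1bf465933f0c4b23ec84b1be864b13e444b0be024b33dcc4a23d884a0bd424a6bd1a4933ccc492bc8a4923c48490bc02492bbca486bb9a4723b48477bb1e466bada4623a88467ba5e456ba1a452b9ca452398845139443f1b9063e138c43e7b89e3d7385c3d138043d0b7c23d237883c137443c1b7063b736dc3a1b6863a7365c397361c38235c8380b582371b5463413504348b4e2331348433634582f7341c2e733dc2d6b39a2d233482d1b3062d6b2da2c232882c1b2462c6b21a2b231c82b131842b231482a131042a7b0de296b09a297b05e286b01a286afda2732f8c272af4a2722f082712ec4276ae9a262ae4a2672e1c256adda2572d9c2422d48241ad062412cc42462c981d32c4c1d6ac1a1c62bd81c32b8c1c6ab5a1b0ab021b0aac21a0aa82198aa621832a0c182a9ca180a9821862958166291815128c4151288414128441312804126a7da100a78210127440e7271c0d2a6ca0d226880d1a6460d7261c0c2a5ca0c125840c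7a55e0b7251c0b6a4da0b2a48a0b224480b1a4060b2a3ca0a223880a2a34a0922308093a2d0082a28a08222480812204087a1de077219c076a15a072a10a07120c4077a09e067205c066a01a0629fca0631f8c0529f4a0521f080519ec60511e840529e4a0421e080419dc60421d880291d647489d227381ce07239c907161c587091c246f61bd86e89ba26d41b4e6c81b206b89ae26a91aa46939a506829a0a67219c84439990656995a642990a0f418ce62918a4618986260818205f397d05e617985d917645c617185b896e25a4168e5981660588962257915e456395905521548326951a53214c80f4148e519146450894224f813e04e393904d613584c913244b612d84a892a2494124e488122047891e246911a44539150441910632690da42190860f6905a404100e3f90fe43e88fa23d80f603c38f103b60ed83a90ea43960e583888e223740dce3680da03588d623490d243338cd03210c840010c440f40c0e2f90be42e88ba22d80b602c38b102b60ad82a90aa42960a582888a2227409ce26809a02588962249092423388d0220888200088420f6881a1f407ce1e907a41d887621c807201b386d01a606981990664186061817885e2164058e1580560148852213904e41238490116045800604180f683da0e4038e0d903640c883220b802e00a382900960258089022407601d806881a2054014e048012003880e202900a40138050000000000))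
  (.leaf (nat_lit 0x687da100080010007c09f00780d124b893232c8d328aca33132bcd31237c8af6abdb2b62c192d64a98ad62398ac02b012802ac105041c0aa2a98b080c202a7929e4f32bccaa929f0aa504900a502900780054125028c115644d8a2648d92f348cd308cba32c0cac32d837a12d1a5472c74b1cdf1b3472b824612a1b7872a6ca5ade23249294414f28623992894225278c9e30933c0d270bcc3276a45b1d919a474043c0740198075043812204301208c7e30b69cdb0b042c11e21c885f847608e046c05f023811c01c810a041c11a01c408d04601050228070046408412f45261bc8726145452529f0b248c8e31322d092394825227489d21947e5217481d1f8c7a31f847211d4468f1c646191a945e51964599178baa3147451ced7449cea8bb631294464ea23a49117445d1023a0910943a50c7439d0d6999b0d2a44b0b4234f0a3424cf50bdc309441ce8e64159072a2cb06222890593de4c71c106fb640990493165031c086f623049021bc470112f05016c01af123d0900))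
def c61_T : Tr := .leaf (nat_lit 0x4ca633097cba5b2c95caa532893c9a4b2491c8a43208fc7a3b1c8dc6a33188bc5a2b1489c4a231087c3a1b0c85c2a130883c1a0b0481c0a03007fbf9fafc7dbe9f2f87bbd9eaf479bc9e2f077bb9daec75ba9d2e873b99cae471b89c2e06fb79badc6db69b2d86bb59aad469b49a2d067b399acc65b2992c863b198ac461b0982c05faf97abc5dae972b85bad96ab459ac962b057ab95aac55aa952a853a994aa451a8942a04fa793a9c4da6932984ba592a9449a49229047a391a8c45a29128843a190a8441a0902803f9f8fa7c3d9e8f2783b9d8ea74399c8e270379b8da6c359a8d26833998ca6431988c2602f978ba5c2d968b2582b958aa5429948a250279389a4c259289248239188a442190882401f8f87a3c1d8e872381b8d86a34198c86230178b85a2c158a85228138984a241188842200f8783a1c0d86832180b8582a14098482210078381a0c058281208038180a04018080200)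
def c61_P : Tr := .node (.node (.node (.node (.leaf (nat_lit 0x2004140089082103000241fc0307d8030c0f80143cc010d47b0f553400054249488ef530004683d0050ef004331943200f001108ac15419c018d4540a603c00440241478090000f11ca34038000808c514014000214306611222c020d04308403c0002219832003006330840794100105060502074008c82f27f0360000e1713e819000060b49ec0b800060584f2054018c82b2770260046e1513a811000070a49cc078011b8504e2034000182726f01600464131368090000c0949ac03800030484d20140001c2304400600c64090110030003d))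
  (.leaf (nat_lit 0x5b297e51c500001c4bc986508001e2605aeb5446aec2cc5a6270030ec9957a4a00c92d4ba0040296991494000264b524a4880109c96716afc00049c4a59002244ac4813e19b0042d4a91ae3f8010f2544a723800044de352918000409498d1943260045a9420b20c4160006c9415991d0003a908849088010041e79f20800865270fc1eea74f080317a4e5f8f28000991d470846000431ed0f000390eb8f287e009c922c77439004d31363ac298027288d1c90b0c34330002d1ba2200037c6e478000c68f07346c18285e0005634a36000488cd108001b10ac6546f0049110631c1a80254)))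
  (.leaf (nat_lit 0x3941f8e3801043a1104000c6b31cf8838026359ee6c40c0128b9a2640008a4c89cacb64ce60e407f8020239071dcb00015329724e3ce107d38e008027183e1c100210720660cf8000935638a00448710e1800121c00f46ec0083cdf35864a0044c6f9abb210020a3701d8da8001c9b60e86cc00814d9072362d7c01069bf8c600054590dec63c0128b7a58e00090b15bc0c318b00400dd1600003937424800096aedb88c18026c6e04780012d5cb6d17f004a8db18a0001fab56cc2f600981b3912000486cec40000fc5d3645564300891380409)))
  (.node (.leaf (nat_lit 0x3389f4938000519a4fa48c0009ccc27d2420004c6602d1930021332c160c8803111944f64740009cc905831a000666382b18b0003a31c9e48c8001398c0ac624000e0c52772260004e6213b9110002530861c00890c227501c4040088d8330354a00016600c1801121804e603c85801119804e640400028c00502fe004065f827175002222f89c47e8001497a4e23ec000a0bc04e2e60086a5e1388f9000272ec9c47a800129740985bc00878b804a2da0043e5a9358ed000272cc9ad460001296207457400864b00382b60043c5601b15700032))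
  (.leaf (nat_lit 0x10d0cb19a00844859bb92300230428dcc0a11b000363d47be0e00114a126df04c0001c8e37217c83c000d9070bc41600076831b591700635414dac8a8001831781881904c103ec7e5fa8010ebf3817038008e5040b840a000708185db69002073d8a99844080042d408d81af80115a0240300800045011ff7fc0001a788f4c00000204007f5fdbcc0022d5f2fe5fe000111fe1687ec010ccfe33735a0044e5c8babf6000213f4cd1a0801171f812c7bc000f0fb0963da00074fbc520002a3a67da29600945d2beb147004e4e55f48a18026f71af9c4fc01361ba6aac75f209d80034))))
  (.node (.node (.node (.leaf (nat_lit 0xab0342aa0006e5501914d002072a45456f8000c9500600b8a58040e14a058524018f4a302a28a0041e5101414300210284098a0801041404cea2c000e09f13d5a2a140088c9e0200860006e4e80e1330043327407c31801069380344c4008149b01d5240006a4d89aac20003026c068978010c0cc52e0709a8031b12e030494018609312b002242544a4000909201623e0042e4780a119000352340488a8001d91802444c000e88b01302a0007a4500810900218220040838010410a21e00448438868001210801c3fc000ed519020183d54d09500001))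
  (.leaf (nat_lit 0x7fc007fc007fc007fc007fc007fc007fe6a8400006327f34c20c0131b2a9a20fe00944d105e4fe4b52ecce99a5901ec010ea6498f25e4f8020b26499132c00065312ea2c4594008713115c2be004793112b3880022093930cb015f00023937242602e80001b2b45665fa55002239792240018245cbb5cd004a90625c2e4802605c72d90820f80018968538a6801144b290121c0001e5815229e00c30b8657af680901cf11e70043195b14c0012d6ecaa493004a292e54949802608ab29ca34012122a1b089e522da8021b)))
  (.leaf (nat_lit 0xf88dc3500022a70ef804d8011c0983e6f7800020da1b770af59edbdd002027b47d0f9801153d9548c29868030d1f412ca98000e4fa1f17a80004ce0de83d2002393e0258f58001b9ea54cc2000898f50943c20040c7a14db5a000113cca6c7a2702fa0085e790f1bc6000301b4f04efbc4002363c4248ef8021a8f0520f00000ac6c3bd3b824401054ed1dd77800040359dcbb47740082c770471d7002031a8eb4e8baf76c00812ed1d9baf002053ac76400890eb08c3a200408751468ed0002b3a074c00891d51cc0004839873dd48d11a70006c738450cf00035394e740ea8800034)))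
  (.node (.leaf (nat_lit 0x3626c22e4008e8d834760aab400068d81af6b8000286c1a3b070000e16ccdc389af00816358d157a8010519c332d58000443d35263c0003cd48c919700011632d383c8021119031ad38000343b34c61cc480108d57b4a0ea00008d20851070020d608d18398011c070684c0000041a117e2ee0041abfda006f002330d8cf9790000996e2e2bc59e1aa0d6000026a8d4b3a0002a2d812134a8b658ce000008d406834a004102d19a06f002350d8cc8598000b8b0660cbc01060d329415e008306983486b00200348a1d45801151a20c2b48008f4d005c33e0043e6813f9310000b))
  (.leaf (nat_lit 0x210c611cb004a90fe2f4188026056f17071c01304158b88c60092119c5a561004deaa550afa8b115de4a2d8750f200875260f44e05ec010b12629a3ca0005c929e1a2b002384903c079a9e0023644cefa1bc3976291c00805232ee2d45a4008b62544988e0040a90922801122421d48fc008111f2410022447c3a11e80101a3a1cc8e40085d1c0e446a0006a8d0712310003a464381178010022e1bc371168020e4368650d00087ddfa29002248630bddb3b844a010128906bbbe002033a8231d622185a00c130b215baf0001444088c00891103ad3a20044086062b7d84909c0182612a1d00224))))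
def c61_N_0 : Tr := .node (.node (.node (.node (.leaf (nat_lit 607825))
  (.leaf (nat_lit 1025)))
  (.node (.leaf (nat_lit 144525))
  (.leaf (nat_lit 396))))
  (.node (.node (.leaf (nat_lit 559650))
  (.leaf (nat_lit 263)))
  (.node (.leaf (nat_lit 168100))
  (.leaf (nat_lit 17425)))))
  (.node (.node (.node (.leaf (nat_lit 592450))
  (.leaf (nat_lit 132)))
  (.node (.leaf (nat_lit 165025))
  (.leaf (nat_lit 495))))
  (.node (.node (.leaf (nat_lit 595493))
  (.leaf (nat_lit 10249)))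
  (.leaf (nat_lit 77900))))
def c61_N_1 : Tr := .node (.node (.node (.node (.leaf (nat_lit 603725))
  (.leaf (nat_lit 99)))
  (.node (.leaf (nat_lit 15821))
  (.leaf (nat_lit 13325))))
  (.node (.node (.leaf (nat_lit 463300))
  (.leaf (nat_lit 232)))
  (.node (.leaf (nat_lit 2203751))
  (.leaf (nat_lit 0)))))
  (.node (.node (.node (.leaf (nat_lit 525825))
  (.leaf (nat_lit 5125)))
  (.node (.leaf (nat_lit 1214626))
  (.leaf (nat_lit 528))))
  (.node (.node (.leaf (nat_lit 18035244))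
  (.leaf (nat_lit 363)))
  (.leaf (nat_lit 209100))))
def c61_N_2 : Tr := .node (.node (.node (.node (.leaf (nat_lit 15637483075))
  (.leaf (nat_lit 66)))
  (.node (.leaf (nat_lit 242957))
  (.leaf (nat_lit 429))))
  (.node (.node (.leaf (nat_lit 462275))
  (.leaf (nat_lit 8199)))
  (.node (.leaf (nat_lit 40999))
  (.leaf (nat_lit 594)))))
  (.node (.node (.node (.leaf (nat_lit 427425))
  (.leaf (nat_lit 165)))
  (.node (.leaf (nat_lit 100450))
  (.leaf (nat_lit 15375))))
  (.node (.node (.leaf (nat_lit 14758348))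
  (.leaf (nat_lit 298)))
  (.leaf (nat_lit 143500))))
def c61_N_3 : Tr := .node (.node (.node (.node (.leaf (nat_lit 558625))
  (.leaf (nat_lit 3075)))
  (.node (.leaf (nat_lit 99425))
  (.leaf (nat_lit 462))))
  (.node (.node (.leaf (nat_lit 15241764))
  (.leaf (nat_lit 329)))
  (.leaf (nat_lit 4366503))))
  (.node (.node (.node (.leaf (nat_lit 461250))
  (.leaf (nat_lit 198)))
  (.node (.leaf (nat_lit 167075))
  (.leaf (nat_lit 561))))
  (.node (.node (.leaf (nat_lit 538125))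
  (.leaf (nat_lit 11275)))
  (.leaf (nat_lit 33))))
def c61_N_4 : Tr := .node (.node (.node (.node (.leaf (nat_lit 14446300707))
  (.leaf (nat_lit 66)))
  (.node (.leaf (nat_lit 177325))
  (.leaf (nat_lit 12300))))
  (.node (.node (.leaf (nat_lit 429475))
  (.leaf (nat_lit 263)))
  (.node (.leaf (nat_lit 36612281541))
  (.leaf (nat_lit 594)))))
  (.node (.node (.node (.leaf (nat_lit 451482180))
  (.leaf (nat_lit 4100)))
  (.node (.leaf (nat_lit 197825))
  (.leaf (nat_lit 495))))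
  (.node (.node (.leaf (nat_lit 563750))
  (.leaf (nat_lit 298)))
  (.leaf (nat_lit 110700))))
def c61_N_5 : Tr := .node (.node (.node (.node (.leaf (nat_lit 604750))
  (.leaf (nat_lit 99)))
  (.node (.leaf (nat_lit 66625))
  (.leaf (nat_lit 462))))
  (.node (.node (.leaf (nat_lit 14160388))
  (.leaf (nat_lit 7176)))
  (.node (.leaf (nat_lit 172167))
  (.leaf (nat_lit 0)))))
  (.node (.node (.node (.leaf (nat_lit 428450))
  (.leaf (nat_lit 198)))
  (.node (.leaf (nat_lit 1182851))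
  (.leaf (nat_lit 16400))))
  (.node (.node (.leaf (nat_lit 19827821589068))
  (.leaf (nat_lit 363)))
  (.leaf (nat_lit 274668))))
def c61_N_6 : Tr := .node (.node (.node (.node (.leaf (nat_lit 570925))
  (.leaf (nat_lit 2050)))
  (.node (.leaf (nat_lit 1455501))
  (.leaf (nat_lit 429))))
  (.node (.node (.leaf (nat_lit 527875))
  (.leaf (nat_lit 232)))
  (.node (.leaf (nat_lit 106567))
  (.leaf (nat_lit 18450)))))
  (.node (.node (.node (.leaf (nat_lit 460225))
  (.leaf (nat_lit 165)))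
  (.node (.leaf (nat_lit 133250))
  (.leaf (nat_lit 528))))
  (.node (.node (.leaf (nat_lit 16888332))
  (.leaf (nat_lit 9226)))
  (.leaf (nat_lit 176300))))
def c61_N_7 : Tr := .node (.node (.node (.node (.leaf (nat_lit 591425))
  (.leaf (nat_lit 132)))
  (.node (.leaf (nat_lit 132225))
  (.leaf (nat_lit 14350))))
  (.node (.node (.leaf (nat_lit 529925))
  (.leaf (nat_lit 329)))
  (.leaf (nat_lit 45100))))
  (.node (.node (.node (.leaf (nat_lit 526850))
  (.leaf (nat_lit 6150)))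
  (.node (.leaf (nat_lit 68357315))
  (.leaf (nat_lit 561))))
  (.node (.node (.leaf (nat_lit 571950))
  (.leaf (nat_lit 396)))
  (.leaf (nat_lit 33))))
def c61_N : Tr := .node (.node (.node c61_N_0
  c61_N_1)
  (.node c61_N_2
  c61_N_3))
  (.node (.node c61_N_4
  c61_N_5)
  (.node c61_N_6
  c61_N_7))
noncomputable def c61 : TC :=
  ⟨[.l 0, .l 1, .l 2, .l 3, .l 4, .l 5, .l 6, .l 7, .l 8, .l 9, .l 10, .l 11, .l 12, .l 13, .l 14, .l 15, .l 16, .l 17, .l 18],
    (nat_lit 9), (nat_lit 11), (nat_lit 0x4a307b9ac5a547418a418820), (nat_lit 1), (nat_lit 307), (nat_lit 0), (nat_lit 32), (nat_lit 10), (nat_lit 118),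
    get (nat_lit 10) (nat_lit 0x1003010030080400c02010030080400c02010030080400c02010030080400c02010030080400c02010030080400c02010030080400c02010030080400c02010030080400c0201004010040100401005010050100402004018040140501004010040100401003014040100401004024050140501004010050140401004010040100401004010040180401004010040100701c04), Tr.get c61_N, get (nat_lit 20) (nat_lit 0x3ff003ff003ff003ff003ff003ff003ff003ff003ff003ff003ff003ff003ff003ff003ff003ff003ff003ff003ff003ff003ff003ff003ff003ff003ff003ff003ff003ff003ff003ff003ff003ff003ff003ff003ff003ff003ff003ff003ff003ff003ff003ff003ff003ff003ff003ff003ff003ff003ff003ff003ff003ff003ff003ff003ff003ff0005a0005900058000570005600055000540004b0004a00049000480004700045000430004200041000400003f0003d0003c0003b0003a00039000380003700036000300002f0002d0002c0002b0002a0002800027000260002500022000200001f0001d0001c0001b0001a000190001800017000160001500014000130001200011000100000f0000e0000d0000b0000900008000040000300001),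
    Tr.get3 c61_F (nat_lit 28) (nat_lit 5), Tr.get3 c61_T (nat_lit 9) (nat_lit 6), Tr.get c61_P⟩

theorem c61_head : c61.headOK rn60 ivA = true := by decide +kernel

theorem c61_b0 : allFrom (nat_lit 0) (nat_lit 10) c61.blockOK = true := by decide +kernel

theorem c61_blocks : ∀ t < c61.k, c61.blockOK t = true :=
  (of_allFrom_append of_lt_zero c61_b0)

theorem c61_mem0 {G : Type*} [Group G] {γ : ℕ → G} (hL : Lab γ ivA) (hr : ∀ t ∈ rn60, t.ev γ = 1) {K : Subgroup G}
    (hK : ∀ t ∈ ([] : List W), t.ev γ ∈ K) :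
    W.ev γ (.mul (.mul (.mul (.mul (.mul (.inv (.mul (.mul (.mul (.mul (.inv (.l 7)) (.l 16)) (.l 17)) (.l 18)) (.l 7))) (.mul (.mul (.mul (.l 17) (.l 12)) (.l 18)) (.l 12))) (.mul (.mul (.mul (.mul (.inv (.l 7)) (.l 16)) (.l 17)) (.l 18)) (.l 7))) (.l 13)) (.l 12)) (.inv (.mul (.l 12) (.mul (.mul (.mul (.inv (.mul (.mul (.mul (.mul (.inv (.l 7)) (.l 16)) (.l 17)) (.l 18)) (.l 7))) (.mul (.mul (.mul (.l 17) (.l 12)) (.l 18)) (.l 12))) (.mul (.mul (.mul (.mul (.inv (.l 7)) (.l 16)) (.l 17)) (.l 18)) (.l 7))) (.l 13))))) ∈ K :=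
  TC.mem (D := c61) hL (List.forall_mem_cons.2 ⟨hL.zero_mem K, hK⟩) hr c61_head c61_blocks
    (n := (nat_lit 32)) (w := (nat_lit 0x61e518222c930f08c90d634f28c10c9322784648)) (st := (nat_lit 0x46094138290560b4178310660d41b8390760f41fcd60400780e01a0300580a0120200380600a01001802002)) (by decide +kernel) (by decide +kernel)

theorem c61_mem1 {G : Type*} [Group G] {γ : ℕ → G} (hL : Lab γ ivA) (hr : ∀ t ∈ rn60, t.ev γ = 1) {K : Subgroup G}
    (hK : ∀ t ∈ ([] : List W), t.ev γ ∈ K) :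
    W.ev γ (.mul (.mul (.mul (.mul (.mul (.inv (.mul (.mul (.mul (.mul (.inv (.l 7)) (.l 16)) (.l 17)) (.l 18)) (.l 7))) (.mul (.mul (.mul (.l 17) (.l 12)) (.l 18)) (.l 12))) (.mul (.mul (.mul (.mul (.inv (.l 7)) (.l 16)) (.l 17)) (.l 18)) (.l 7))) (.l 13)) (.l 1)) (.inv (.mul (.l 1) (.mul (.mul (.mul (.inv (.mul (.mul (.mul (.mul (.inv (.l 7)) (.l 16)) (.l 17)) (.l 18)) (.l 7))) (.mul (.mul (.mul (.l 17) (.l 12)) (.l 18)) (.l 12))) (.mul (.mul (.mul (.mul (.inv (.l 7)) (.l 16)) (.l 17)) (.l 18)) (.l 7))) (.l 13))))) ∈ K :=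
  TC.mem (D := c61) hL (List.forall_mem_cons.2 ⟨hL.zero_mem K, hK⟩) hr c61_head c61_blocks
    (n := (nat_lit 32)) (w := (nat_lit 0x9e518222c930f08c90d0b4f28c10c9322784648)) (st := (nat_lit 0x8a11c2484b09a13c288530aa15c2c85b0ba17c30a840840780e01a0300580a0120200380600a01001802002)) (by decide +kernel) (by decide +kernel)

theorem c61_mem2 {G : Type*} [Group G] {γ : ℕ → G} (hL : Lab γ ivA) (hr : ∀ t ∈ rn60, t.ev γ = 1) {K : Subgroup G}
    (hK : ∀ t ∈ ([] : List W), t.ev γ ∈ K) :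
    W.ev γ (.mul (.mul (.mul (.mul (.mul (.inv (.mul (.mul (.mul (.mul (.inv (.l 7)) (.l 16)) (.l 17)) (.l 18)) (.l 7))) (.mul (.mul (.mul (.l 17) (.l 12)) (.l 18)) (.l 12))) (.mul (.mul (.mul (.mul (.inv (.l 7)) (.l 16)) (.l 17)) (.l 18)) (.l 7))) (.l 13)) (.l 2)) (.inv (.mul (.l 2) (.mul (.mul (.mul (.inv (.mul (.mul (.mul (.mul (.inv (.l 7)) (.l 16)) (.l 17)) (.l 18)) (.l 7))) (.mul (.mul (.mul (.l 17) (.l 12)) (.l 18)) (.l 12))) (.mul (.mul (.mul (.mul (.inv (.l 7)) (.l 16)) (.l 17)) (.l 18)) (.l 7))) (.l 13))))) ∈ K :=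
  TC.mem (D := c61) hL (List.forall_mem_cons.2 ⟨hL.zero_mem K, hK⟩) hr c61_head c61_blocks
    (n := (nat_lit 32)) (w := (nat_lit 0x11e518222c930f08c90d134f28c10c9322784648)) (st := (nat_lit 0xca19c3486b0da1bc388730ea1dc3c87b0fa1fc40ba20c40780e01a0300580a0120200380600a01001802002)) (by decide +kernel) (by decide +kernel)

theorem c61_mem3 {G : Type*} [Group G] {γ : ℕ → G} (hL : Lab γ ivA) (hr : ∀ t ∈ rn60, t.ev γ = 1) {K : Subgroup G}
    (hK : ∀ t ∈ ([] : List W), t.ev γ ∈ K) :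
    W.ev γ (.mul (.mul (.mul (.mul (.mul (.inv (.mul (.mul (.mul (.mul (.inv (.l 7)) (.l 16)) (.l 17)) (.l 18)) (.l 7))) (.mul (.mul (.mul (.l 17) (.l 12)) (.l 18)) (.l 12))) (.mul (.mul (.mul (.mul (.inv (.l 7)) (.l 16)) (.l 17)) (.l 18)) (.l 7))) (.l 13)) (.l 3)) (.inv (.mul (.mul (.l 2) (.l 3)) (.mul (.mul (.mul (.inv (.mul (.mul (.mul (.mul (.inv (.l 7)) (.l 16)) (.l 17)) (.l 18)) (.l 7))) (.mul (.mul (.mul (.l 17) (.l 12)) (.l 18)) (.l 12))) (.mul (.mul (.mul (.mul (.inv (.l 7)) (.l 16)) (.l 17)) (.l 18)) (.l 7))) (.l 13))))) ∈ K :=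
  TC.mem (D := c61) hL (List.forall_mem_cons.2 ⟨hL.zero_mem K, hK⟩) hr c61_head c61_blocks
    (n := (nat_lit 33)) (w := (nat_lit 0x219e518222c930f08c90d1b4f28c10c9322784648)) (st := (nat_lit 0x6511222c4688f12224c4a89713226c4e89f14228df80861080780e01a0300580a0120200380600a01001802002)) (by decide +kernel) (by decide +kernel)

theorem c61_mem4 {G : Type*} [Group G] {γ : ℕ → G} (hL : Lab γ ivA) (hr : ∀ t ∈ rn60, t.ev γ = 1) {K : Subgroup G}
    (hK : ∀ t ∈ ([] : List W), t.ev γ ∈ K) :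
    W.ev γ (.mul (.mul (.mul (.mul (.mul (.inv (.mul (.mul (.mul (.mul (.inv (.l 7)) (.l 16)) (.l 17)) (.l 18)) (.l 7))) (.mul (.mul (.mul (.l 17) (.l 12)) (.l 18)) (.l 12))) (.mul (.mul (.mul (.mul (.inv (.l 7)) (.l 16)) (.l 17)) (.l 18)) (.l 7))) (.l 13)) (.l 4)) (.inv (.mul (.mul (.l 2) (.l 4)) (.mul (.mul (.mul (.inv (.mul (.mul (.mul (.mul (.inv (.l 7)) (.l 16)) (.l 17)) (.l 18)) (.l 7))) (.mul (.mul (.mul (.l 17) (.l 12)) (.l 18)) (.l 12))) (.mul (.mul (.mul (.mul (.inv (.l 7)) (.l 16)) (.l 17)) (.l 18)) (.l 7))) (.l 13))))) ∈ K :=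
  TC.mem (D := c61) hL (List.forall_mem_cons.2 ⟨hL.zero_mem K, hK⟩) hr c61_head c61_blocks
    (n := (nat_lit 33)) (w := (nat_lit 0x221e518222c930f08c90d234f28c10c9322784648)) (st := (nat_lit 0x651562b4578b11662d45b8b91762f45f8c1186315c00a814c0780e01a0300580a0120200380600a01001802002)) (by decide +kernel) (by decide +kernel)

theorem c61_mem5 {G : Type*} [Group G] {γ : ℕ → G} (hL : Lab γ ivA) (hr : ∀ t ∈ rn60, t.ev γ = 1) {K : Subgroup G}
    (hK : ∀ t ∈ ([] : List W), t.ev γ ∈ K) :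
    W.ev γ (.mul (.mul (.mul (.mul (.mul (.inv (.mul (.mul (.mul (.mul (.inv (.l 7)) (.l 16)) (.l 17)) (.l 18)) (.l 7))) (.mul (.mul (.mul (.l 17) (.l 12)) (.l 18)) (.l 12))) (.mul (.mul (.mul (.mul (.inv (.l 7)) (.l 16)) (.l 17)) (.l 18)) (.l 7))) (.l 13)) (.l 5)) (.inv (.mul (.mul (.mul (.mul (.l 2) (.l 3)) (.l 4)) (.l 5)) (.mul (.mul (.mul (.inv (.mul (.mul (.mul (.mul (.inv (.l 7)) (.l 16)) (.l 17)) (.l 18)) (.l 7))) (.mul (.mul (.mul (.l 17) (.l 12)) (.l 18)) (.l 12))) (.mul (.mul (.mul (.mul (.inv (.l 7)) (.l 16)) (.l 17)) (.l 18)) (.l 7))) (.l 13))))) ∈ K :=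
  TC.mem (D := c61) hL (List.forall_mem_cons.2 ⟨hL.zero_mem K, hK⟩) hr c61_head c61_blocks
    (n := (nat_lit 35)) (w := (nat_lit 0x86429e518222c930f08c90d2b4f28c10c9322784648)) (st := (nat_lit 0x194448cf1a234c6a8d71b236c6e8df1c238c728e71d31f4660ca1900780e01a0300580a0120200380600a01001802002)) (by decide +kernel) (by decide +kernel)

def c61_loops : List W := [.mul (.mul (.mul (.mul (.mul (.inv (.mul (.mul (.mul (.mul (.inv (.l 7)) (.l 16)) (.l 17)) (.l 18)) (.l 7))) (.mul (.mul (.mul (.l 17) (.l 12)) (.l 18)) (.l 12))) (.mul (.mul (.mul (.mul (.inv (.l 7)) (.l 16)) (.l 17)) (.l 18)) (.l 7))) (.l 13)) (.l 12)) (.inv (.mul (.l 12) (.mul (.mul (.mul (.inv (.mul (.mul (.mul (.mul (.inv (.l 7)) (.l 16)) (.l 17)) (.l 18)) (.l 7))) (.mul (.mul (.mul (.l 17) (.l 12)) (.l 18)) (.l 12))) (.mul (.mul (.mul (.mul (.inv (.l 7)) (.l 16)) (.l 17)) (.l 18)) (.l 7))) (.l 13)))), .mul (.mul (.mul (.mul (.mul (.inv (.mul (.mul (.mul (.mul (.inv (.l 7)) (.l 16)) (.l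 17)) (.l 18)) (.l 7))) (.mul (.mul (.mul (.l 17) (.l 12)) (.l 18)) (.l 12))) (.mul (.mul (.mul (.mul (.inv (.l 7)) (.l 16)) (.l 17)) (.l 18)) (.l 7))) (.l 13)) (.l 1)) (.inv (.mul (.l 1) (.mul (.mul (.mul (.inv (.mul (.mul (.mul (.mul (.inv (.l 7)) (.l 16)) (.l 17)) (.l 18)) (.l 7))) (.mul (.mul (.mul (.l 17) (.l 12)) (.l 18)) (.l 12))) (.mul (.mul (.mul (.mul (.inv (.l 7)) (.l 16)) (.l 17)) (.l 18)) (.l 7))) (.l 13)))), .mul (.mul (.mul (.mul (.mul (.inv (.mul (.mul (.mul (.mul (.inv (.l 7)) (.l 16)) (.l 17)) (.l 18)) (.l 7))) (.mul (.mul (.mul (.l 17) (.l 12)) (.l 18)) (.l 12))) (.mul (.mul (.mul (.mul (.inv (.l 7)) (.l 16)) (.l 17)) (.l 18)) (.l 7))) (.l 13)) (.l 2)) (.inv (.mul (.l 2) (.mul (.mul (.mul (.inv (.mul (.mul (.mul (.mul (.inv (.l 7)) (.l 16)) (.l 17)) (.l 18)) (.l 7))) (.mul (.mul (.mul (.l 17) (.l 12)) (.l 18)) (.l 12))) (.mul (.mul (.mul (.mul (.inv (.l 7)) (.l 16)) (.l 17)) (.l 18)) (.l 7))) (.l 13)))), .mul (.mul (.mul (.mul (.mul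 (.inv (.mul (.mul (.mul (.mul (.inv (.l 7)) (.l 16)) (.l 17)) (.l 18)) (.l 7))) (.mul (.mul (.mul (.l 17) (.l 12)) (.l 18)) (.l 12))) (.mul (.mul (.mul (.mul (.inv (.l 7)) (.l 16)) (.l 17)) (.l 18)) (.l 7))) (.l 13)) (.l 3)) (.inv (.mul (.mul (.l 2) (.l 3)) (.mul (.mul (.mul (.inv (.mul (.mul (.mul (.mul (.inv (.l 7)) (.l 16)) (.l 17)) (.l 18)) (.l 7))) (.mul (.mul (.mul (.l 17) (.l 12)) (.l 18)) (.l 12))) (.mul (.mul (.mul (.mul (.inv (.l 7)) (.l 16)) (.l 17)) (.l 18)) (.l 7))) (.l 13)))), .mul (.mul (.mul (.mul (.mul (.inv (.mul (.mul (.mul (.mul (.inv (.l 7)) (.l 16)) (.l 17)) (.l 18)) (.l 7))) (.mul (.mul (.mul (.l 17) (.l 12)) (.l 18)) (.l 12))) (.mul (.mul (.mul (.mul (.inv (.l 7)) (.l 16)) (.l 17)) (.l 18)) (.l 7))) (.l 13)) (.l 4)) (.inv (.mul (.mul (.l 2) (.l 4)) (.mul (.mul (.mul (.inv (.mul (.mul (.mul (.mul (.inv (.l 7)) (.l 16)) (.l 17)) (.l 18)) (.l 7))) (.mul (.mul (.mul (.l 17) (.l 12)) (.l 18)) (.l 12))) (.mul (.mul (.mul (.mul (.inv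 (.l 7)) (.l 16)) (.l 17)) (.l 18)) (.l 7))) (.l 13)))), .mul (.mul (.mul (.mul (.mul (.inv (.mul (.mul (.mul (.mul (.inv (.l 7)) (.l 16)) (.l 17)) (.l 18)) (.l 7))) (.mul (.mul (.mul (.l 17) (.l 12)) (.l 18)) (.l 12))) (.mul (.mul (.mul (.mul (.inv (.l 7)) (.l 16)) (.l 17)) (.l 18)) (.l 7))) (.l 13)) (.l 5)) (.inv (.mul (.mul (.mul (.mul (.l 2) (.l 3)) (.l 4)) (.l 5)) (.mul (.mul (.mul (.inv (.mul (.mul (.mul (.mul (.inv (.l 7)) (.l 16)) (.l 17)) (.l 18)) (.l 7))) (.mul (.mul (.mul (.l 17) (.l 12)) (.l 18)) (.l 12))) (.mul (.mul (.mul (.mul (.inv (.l 7)) (.l 16)) (.l 17)) (.l 18)) (.l 7))) (.l 13))))]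

theorem c61_mems {G : Type*} [Group G] {γ : ℕ → G} (hL : Lab γ ivA) (hr : ∀ t ∈ rn60, t.ev γ = 1) {K : Subgroup G}
    (hK : ∀ t ∈ ([] : List W), t.ev γ ∈ K) :
    ∀ t ∈ c61_loops, t.ev γ ∈ K :=
  List.forall_mem_cons.2 ⟨c61_mem0 hL hr hK,
    List.forall_mem_cons.2 ⟨c61_mem1 hL hr hK,
    List.forall_mem_cons.2 ⟨c61_mem2 hL hr hK,
    List.forall_mem_cons.2 ⟨c61_mem3 hL hr hK,
    List.forall_mem_cons.2 ⟨c61_mem4 hL hr hK,
    List.forall_mem_cons.2 ⟨c61_mem5 hL hr hK,
    fun _ h => absurd h List.not_mem_nil⟩⟩⟩⟩⟩⟩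

def rn62 : List W := List.map (sb (.mul (.mul (.mul (.inv (.mul (.mul (.mul (.mul (.inv (.l 7)) (.l 16)) (.l 17)) (.l 18)) (.l 7))) (.mul (.mul (.mul (.l 17) (.l 12)) (.l 18)) (.l 12))) (.mul (.mul (.mul (.mul (.inv (.l 7)) (.l 16)) (.l 17)) (.l 18)) (.l 7))) (.l 13))) [.mul (.l 30) (.inv (.mul (.mul (.l 2) (.l 4)) (.l 6)))] ++ rn60

def c63_F : Tr := .node (.leaf (nat_lit 0xa3c2c021888bf118c4bd82e60bc11804bb22e08bb0a202bb2ae0aba216c8ba92e64833298cb921708b929a0ab7219c8b66955ab622748b53154cb422388b221fc8b16ab1ab192c249f1aa86b072b1cb009d02ad89362ad89462ac72a5cab11984aa6931aa909c82a892764a7729dca511504a6691daa589122a16a09aa06a75a9e7111c9d710dc9c88fe29c817209b6975a9b911e49a6911a9a2208899690da9988e629889ee2967249c9568e1a926985a91124045b0a1c2903224c8f3138c8e3a1908e10e048d19ec68c10dc48c7231c8a19e868b10d848b19e468a10d448a30ccc8812204342980a8710c84872a18a5231a4c862934a8509b42853a1103410bc48409ac28488b628220ec8816909a8168b5a80214087e29f4a6b20c087d19cc67c6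899a7c11c447b71edc7969e9a7b11c04793098c7821dc85a2964a7718c4676216087631b8c752088875110c474888227410f847318dc67171c5c7018d4670197c66f116846e2880a6d115c46d4180e6b195866c109c46a186c669090c26888622687195c67705dc6608f8266685da6508e026308d826208d02603174c403050c5c08c825b3118c593064c582860a572158853205085408a4254284ca53211c85208a025218586517145c4f6941a51185064f089024e087c24c105844b712dc49105444a10504490874248104844708702471040446086824630c0c45103c445883624388aa24270b1c4268fda4168f5a4070e9c407035c3f20b083e7031c3e702dc3d6835a3c6831a3b70ddc3568d9a3718906333068c3110a04312838a2e086c22e202882b70adc2968a9a2b202482a20208292070828203c82708842271820625109041d1840621103041f102441e181c61d101841c104441b101041a100c41908302177059c1408242150820214081c213081821208142110810210080c20f080820e7029c086825a0a24ec90024e88fe94e64fc2ce0afb44dcefa44d8ef944d4ef844d0ef694ce4f48cca2f494c64ee94c24ed14bc4ed64b98eb3cb50ea64b18e93cad0e93ca90e87ca5ee66ca1ae6249c8e58c9a2e43c950e31c906e3948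e4e03488cdf4484ede64818dc947e4da8c7a2d94474ed824708d8246c8d73c690d54464ed564618d18c5e2cf3c590ce4454ece3450cce344cccd3c490cb4444ecb1c406c6943e4c41c386c38c362c21c306c17c2dec06c29ac064258c024208bd8c1e2bb8c1a2b97c15eb86c11ab83c0d0b74408eb77405cb28c022ae63fd8a833f8ca393f64a28bf22a243ecea12be8aa123e48a11be06a13bdd0a033d8ca03bd509f43d0e9f33ccc9f2bc8a9e2bc4a9d33c0c9c3bbd09943b8e993bb50981bb069893ae49793aa49693a649593a24928b9e291639988f8b9628e7391c8e938e48d8b8a28b8b862888b82286937e4853378c82937647f937247b936e4798b6a279636587993624783b5d0743358c7423548741b506748b4e271634987193464708b422706b3da6f933a46d3b350683330c68232c8681b2866893264679322466931e465931a46323148638b122628b0e2617b09e618b06260230086072fdc5f6af9a5f8af625e22f085d2aeca5b42e8e5a6ae5a5942e0e5992de4578ada25492d64528ad225282ce05242c8e528ac62508ac224f8abe24e62b984e92b644c1ab064c8aae24b8aaa24a8aa624992a24487a9de476a99a4692964442a90a443a8d0434288e433284c4322808431a7c6433278c413274c3f927243e326cc3d3268c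3c926643b9262438225c8381a586388a5623762518378a4e2368a4a23562458352a40a34223c8341a386348a362337a31e33722dc336a29a3322248332a20a32421ce301a1862f8a1622e3210c2e320cc2d920a42c8a0622b920242989fe22771f9c2731f4c2789f222579ede2471e9c2469e5a2489e222331dcc2231d8c2129d4a2191d241f89ce21e91ca41d79c5e1d69c1a1d21bc81d29b8a1c89b621b39b101b31acc1b19a861a29a4a1991a2417899e216899a21589962149192413898e2137189c1361858133180c13217c813117841381760126971a12416ce122968a1221648121960612895e211395901189562106951a10394d0103148c107945e0f7141c0f693da0f393900f913640e893220e792de0e7129c0e6925a0e392100e311cc0e211880e191460e3110c0d910e40c210880c910640a810200a90fe40988fa20980f600990f240888ee20880ea00890e640788e220778dde0770d9c0768d5a0730d0c0710cc40740c8e0620c480618c060630bcc0510b840590b640488b220478ade0470a9c0468a5a0430a0c04189c604889a2036895a033891003308cc032888a0320848039082402887e2027079c0238750023070c02286ca02206880218646029062401885e2017859e017055c016851a01384d0013048c012844a012040801183c601103840190364008832200802e0007829e007025c006821a00381d0003018c002814a002010800180c600100840008042000000000))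
  (.leaf (nat_lit 0x8002000000001001c01300e406402600c604400ec049011f84b612f8cbe33394ca52f93b64fc04c00fc03b41398cc632a94b253b649d93b14d853a8bf633913f853824d89382cd8b3723ec93713ec5350c74335346cd346c85b3413f05326bf5b314490f2f943a52e24b092e84aa12b6bb5b2a6415929948252974a5d28642992894625288c063277395d261bb472513b052423e89232be4b232bf8b1d3c890fe2c70b220c503227461d20144051f73a9d1f7439d1e6c01b1e3374d1c2c58b1b245891a4468f192b5cb1a1bdc71a2c54b196bfdb181c20717234c917444cf144458f151c0c7160bf8313240c9124448f112b34b122c08b1193425107319d0f8b4a30e643190e739dd0d334cd0c141450b742dd0a141050a0b98309131450813045070b84307937a5063af11057415d043ae5104440cf023acd10123909016395900939a4ff92924fa93e64b43354cf98ad62f90b602f86b79af613d44d743d4ef412884f413604f37291cf26bc5af223808f18a762f07285cf043bceee6a8daef6a89aee23a48eb8b722ea73a1ce96a61ae86b0dae732bcce512604e31b406e2124c4e23234ce12ad4ae02ab4adf0b382df8a0e2de227c8dd736dcdc13444db7259cda13404da6ab9ad97349cd91b306d83350cd81a8c6d712844d612804d5127c4d41a346d31a506d269c9ad121c08cf1af86cf29d0ace12dc4ce0a8c2cd0a842cc92da4cb0a802cb91f24ca0a7c2ca731dcc971a1cc869a1ac789922c68afe2c50a5c2c5718dcc40a4c2c463058c313084947309c91318ccc112e04c0))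
def c63_T : Tr := .leaf (nat_lit 0x9dcea73389bcda6b3499cca633097cba5b2c95caa532893c9a4b2491c8a43208fc7a3b1c8dc6a33188bc5a2b1489c4a231087c3a1b0c85c2a130883c1a0b0481c0a03007fbf9fafc7dbe9f2f87bbd9eaf479bc9e2f077bb9daec75ba9d2e873b99cae471b89c2e06fb79badc6db69b2d86bb59aad469b49a2d067b399acc65b2992c863b198ac461b0982c05faf97abc5dae972b85bad96ab459ac962b057ab95aac55aa952a853a994aa451a8942a04fa793a9c4da6932984ba592a9449a49229047a391a8c45a29128843a190a8441a0902803f9f8fa7c3d9e8f2783b9d8ea74399c8e270379b8da6c359a8d26833998ca6431988c2602f978ba5c2d968b2582b958aa5429948a250279389a4c259289248239188a442190882401f8f87a3c1d8e872381b8d86a34198c86230178b85a2c158a85228138984a241188842200f8783a1c0d86832180b8582a14098482210078381a0c058281208038180a04018080200)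
def c63_P : Tr := .node (.node (.node (.node (.leaf (nat_lit 0x5c5040880e8011d05c504a50000c9582ab4f6000381482b801188560aa00062150040130001c0a402008801158500100141c8021f84e5000800f8011d84e500a78000cc2500602200032a64070070920108810803003042008760f80201900018078010098000b03a00803c0190c1c00401a000720d802003046008740d00200900038064010038001b82e004064000381402d002310540080980009828004044000481300201e00c840900100d00036044008058001a820004024000d00f00200e000660700100500032020054008c40a01300031))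
  (.leaf (nat_lit 0x10f40d31a00018872304b043501a180010221c812864001290d40439e00054862514a18af0c8008f6554a99360002c8510b80118a1480282400055093ff39a00490841fd98b0003841cfdcc18000c20e7e670c00039063ec89c0040526a4cbf80043041082c008c5041702e60045c8110380020a022c859c010c1013dd39200038800ae15f8bc0084c7f8a82e7542af089b9439a0044e7d1dd949006217bef8a1041f86d2200081cf94383586ac008fcf94708e6f8000878f842287c000667b1dc9bd0002d8765189f9eb008443d07ac00104f413e28a0048679a1a43c000393c8eddda9490021f)))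
  (.leaf (nat_lit 0x9e2d32760005a4e96688900222270b2443800061380f81fc000089b2d059e1d1443100020626cb41898001693458a0680181d11e0040e4d1628890002d264d99b2ad520a008224c9618870000a2601c0398000112c738e789538a71a004084a9601250002a2481a838800049220d4a186180217b0f222df0908001d120628de8000d48f37d6fe44c008fc8e068530a85790031e91c6dedb4868022211a0cc1c400061c43836aa00034e21c0ac100016228464008c48b2bd1ea000344583306d00016228af4798000c9140cc1ac00055be0680ce00472c51bd37922200074439ae35e65a0048c4383006500243)))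
  (.node (.node (.leaf (nat_lit 0x1c0a64358000c8de532a185f8021d8dc52ea105a8021d0da06c104010846d29515e000303586cb2b60cc0460801238d852a2b40190c6a29309e0006e348190370003c1a0a3c43800078d005c0c4000086728c196000543301502f0002a198a2c3e800070ca0500bc00024632870e20001c3114386d00013180a1c348001b2d158e058018251760000c2e0120290022d16ca1432801210b25c8238468011f8b05c8b8c1c0330023d15c0881880210b0104c08c56804230a80400a4008ac542810a60002429810027006451480800e88f0043f148a04288001b2f85eaa34000684f0a300231))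
  (.leaf (nat_lit 0x2664cb4d0000092f532a24004214c53000041a73a5e98600a0e92d10a5941e00026842564b34aa94cfb92a598b4c8b4db4993a1fc8d91b93180b002769bd3868650b002114ed2452780025a74a45484000e1391f83f6000049c28d5199de008749c28e51f0003e4dd3ca78a6d002464dc7d0fb80122a6a3e07dc0090d35485476004849a0f61ef9a53666d00223a6890690c000b93247d3f20003098a359fb0000a4bd3d925249000444b875a074a499932e574b2002274b91a52c80125a568ca954018c12a4633b60085d4027fcab95a008494027ece60020c4a094c008c5284a6424854008bd2848e99c0041493a7c24c9240043c930e41cb0002a)))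
  (.leaf (nat_lit 0x6a9a094100038350d049f8001b9a6676afc3607171c008086919d9290024a344380728000519e1bc384008accf3352fa0003267198b3e00021338cbcb78000819a64a51c01908cc3252860006c65a0a418324f9000844cb325282000686520b19063acf1ad0010299464a4fc000ccc932131e000186418f8d10000c31cc6c688000518c18c32400008c540c310ff000878c531925e00068620620c70002a310c5c938000718618431e010021312858048e028031239b30a00462608600c700023300fd9fa8001c18062a47c000d0bf0be18a000385e85e0c7000182f0eb1d7be80021d))))
  (.node (.node (.node (.leaf (nat_lit 0xa2142000622780f029000191389fc24803210984fa0fc00039762e951a0002c2484b801188940380ac000584901c0520002a2413e83b0064211c070128001c88e4fa0e4000d84601c042000702313e835000341140700100d0c20047a2280e01f0003710c0600d800010845901f1560010f084590b2c00870412790fe000142013c87b000291009e83a8000587e02406c000303e2ac0a8164010783e012032000541e8090170000b0f00400d80005076020064000243506f002310dc1b4000c4332985420046e1894b03806a0047e1894b2a800038))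
  (.leaf (nat_lit 0x92a2e9db00643491174ec8001ba468e91da3cc8c0041148d1564300010a3a4733aa76001234c29913a001109224537a2d049fc4c9b80088091228a290003648112e24a310022447d1165c0000823e88e754000311e441968000548f221a01000094711e8f344c0023f46d3526c8011f4d69a331c0091519235000414686a8d780322a3486e7bc0190d191aa8508ac009191842f7887fc010bd1742b2f85fe084a40040445d0b59c9a70041e4508b662cc097a89c0091d1522d0004145909d0380321a2684a7f4000da5f4bb92e0048a8891280020a2432c66c01915111967cc81400919104b643d02e2c45b00205)))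
  (.leaf (nat_lit 0x176732e5dbd8021d1767dcfc4000f8bb30f2220006a5d1a6b4b2e20048c5d05a0b70024520cd888030277cfa80081cb930d29a0045a5c8590b90022b2dcc25910001096c60aa34678020f16c1502ac00024b52ff778f05e1802089681482ac0008cb23777200048a589b00fc1fe0083c5897b3cc0000927cec89c31c790f5000814b02f50500ac66bc8004042c0be5e60001515a5e23a40003cad09813600004561e33ca2acbbd7d001021565d854c000a8aa2eb19a0003054849099000092a0b9c7280007bc0294ed000831de94f00231298b84548000a94a750eac00028a12d911200446501d23a70002b)))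
  (.node (.node (.leaf (nat_lit 0x5faae1a434761634dba0002010c6d8dac6b3260023d214adc4d8021090a56a36c000398a32c6d4008844202e05f00039210ad46b8001b1040b016c00008812b34f41dc01078812af5ac000124002905b0000a1f8a9c508000e0d606c9f00e01f54c3ec011007d2a75b4b74010fc7c2a302004c3eb3c004041f01282680004b546a2ce400058790f7002311ec3d4000c4792a01c20002a3c02304d00023664d11a18ef0003f1dc1113f2da11423586002200ec53eb816faba0043d1d81094830a0043f1d4a91940d40680e46e801200ea084114000f87429d10e000203a01f041000021cca6c3e8000c33866eb0400068700e300231))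
  (.leaf (nat_lit 0x7fc007fc007fc007fc007fc007fc007fc007fc007fc007fc007fc007fc007fc007fc007fc007fc007fc007fc007fc007fc007fc007fc007fc007fea20020005004f50c07401310c9a821ca00a0e0953f747005008869e1d8802569e94ea72c0129ce34b74e287c02185364cd1fe40237a2d4552149e418fe24e504a069023325b00600)))
  (.leaf (nat_lit 0x1e476e78c000b0f13e08a80007c781d893b002233c0ecca1801111dc3be00082779d29470042e3b8e94a2800171d625ce71cf1d3004113a8e84dc800011d273e74400030e839d26200014739cd98700009394e4caf800119c671e4c400040e23876a4d50dac4500404388e14938000c1c26fe46c0008ce03762d6008426f9b9bce0002137cdc4ce800079bc6d241c0088cdd3da7b2f49eb002089b86a86dc00030db351346000206d1aaba00002a368d44d08000c1b21e4bc8ae802179b26aad5cd28011243d350d05921990043d360d3dac41c8370d00101cd734128e00c866b1a094300039))))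
def c63_N_0 : Tr := .node (.node (.node (.node (.leaf (nat_lit 0x44334f28c10c9322784648))
  (.leaf (nat_lit 561)))
  (.leaf (nat_lit 36612281541)))
  (.node (.leaf (nat_lit 529925))
  (.leaf (nat_lit 6150))))
  (.node (.node (.leaf (nat_lit 592450))
  (.leaf (nat_lit 33)))
  (.node (.leaf (nat_lit 532935))
  (.leaf (nat_lit 396))))
def c63_N_1 : Tr := .node (.node (.node (.node (.leaf (nat_lit 14446300707))
  (.leaf (nat_lit 18450)))
  (.leaf (nat_lit 2203751)))
  (.node (.leaf (nat_lit 14758348))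
  (.leaf (nat_lit 232))))
  (.node (.node (.leaf (nat_lit 525825))
  (.leaf (nat_lit 2050)))
  (.node (.leaf (nat_lit 132225))
  (.leaf (nat_lit 429))))
def c63_N_2 : Tr := .node (.node (.node (.node (.leaf (nat_lit 607825))
  (.leaf (nat_lit 594)))
  (.leaf (nat_lit 40999)))
  (.node (.leaf (nat_lit 465350))
  (.leaf (nat_lit 263))))
  (.node (.node (.leaf (nat_lit 427425))
  (.leaf (nat_lit 66)))
  (.node (.leaf (nat_lit 66625))
  (.leaf (nat_lit 12300))))
def c63_N_3 : Tr := .node (.node (.node (.node (.leaf (nat_lit 14445222406))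
  (.leaf (nat_lit 0)))
  (.leaf (nat_lit 4366503)))
  (.node (.leaf (nat_lit 18035244))
  (.leaf (nat_lit 7176))))
  (.node (.node (.leaf (nat_lit 461250))
  (.leaf (nat_lit 99)))
  (.node (.leaf (nat_lit 197825))
  (.leaf (nat_lit 462))))
def c63_N_4 : Tr := .node (.node (.node (.node (.leaf (nat_lit 606800))
  (.leaf (nat_lit 17425)))
  (.leaf (nat_lit 7399)))
  (.node (.leaf (nat_lit 595493))
  (.leaf (nat_lit 263))))
  (.node (.node (.leaf (nat_lit 451482180))
  (.leaf (nat_lit 1025)))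
  (.node (.leaf (nat_lit 15821))
  (.leaf (nat_lit 396))))
def c63_N_5 : Tr := .node (.node (.node (.node (.leaf (nat_lit 15637483075))
  (.leaf (nat_lit 0)))
  (.leaf (nat_lit 172167)))
  (.node (.leaf (nat_lit 16888332))
  (.leaf (nat_lit 232))))
  (.node (.node (.leaf (nat_lit 428450))
  (.leaf (nat_lit 99)))
  (.node (.leaf (nat_lit 165025))
  (.leaf (nat_lit 13325))))
def c63_N_6 : Tr := .node (.node (.node (.node (.leaf (nat_lit 574000))
  (.leaf (nat_lit 594)))
  (.leaf (nat_lit 106567)))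
  (.node (.leaf (nat_lit 563750))
  (.leaf (nat_lit 8199))))
  (.node (.node (.leaf (nat_lit 460225))
  (.leaf (nat_lit 66)))
  (.node (.leaf (nat_lit 99425))
  (.leaf (nat_lit 429))))
def c63_N_7 : Tr := .node (.node (.node (.node (.leaf (nat_lit 14563744326))
  (.leaf (nat_lit 7621220582)))
  (.node (.leaf (nat_lit 19827821589068))
  (.leaf (nat_lit 329))))
  (.node (.node (.leaf (nat_lit 526850))
  (.leaf (nat_lit 3075)))
  (.node (.leaf (nat_lit 100450))
  (.leaf (nat_lit 462)))))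
  (.node (.node (.node (.leaf (nat_lit 591425))
  (.leaf (nat_lit 33)))
  (.node (.leaf (nat_lit 1455501))
  (.leaf (nat_lit 11275))))
  (.node (.node (.leaf (nat_lit 14095813))
  (.leaf (nat_lit 198)))
  (.node (.leaf (nat_lit 2298052))
  (.leaf (nat_lit 561)))))
def c63_N : Tr := .node (.node (.node (.node c63_N_0
  (.node (.node (.node (.leaf (nat_lit 486580743))
  (.leaf (nat_lit 45100)))
  (.node (.leaf (nat_lit 472525))
  (.leaf (nat_lit 329))))
  (.node (.node (.leaf (nat_lit 559650))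
  (.leaf (nat_lit 132)))
  (.node (.leaf (nat_lit 133250))
  (.leaf (nat_lit 14350))))))
  (.node c63_N_1
  (.node (.node (.node (.leaf (nat_lit 604750))
  (.leaf (nat_lit 176300)))
  (.node (.leaf (nat_lit 177325))
  (.leaf (nat_lit 9226))))
  (.node (.node (.leaf (nat_lit 463300))
  (.leaf (nat_lit 165)))
  (.node (.leaf (nat_lit 167075))
  (.leaf (nat_lit 528)))))))
  (.node (.node c63_N_2
  (.node (.node (.node (.leaf (nat_lit 603725))
  (.leaf (nat_lit 110700)))
  (.node (.leaf (nat_lit 571950))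
  (.leaf (nat_lit 298))))
  (.node (.node (.leaf (nat_lit 462275))
  (.leaf (nat_lit 4100)))
  (.node (.leaf (nat_lit 1214626))
  (.leaf (nat_lit 495))))))
  (.node c63_N_3
  (.node (.node (.node (.leaf (nat_lit 558625))
  (.leaf (nat_lit 274668)))
  (.node (.leaf (nat_lit 242957))
  (.leaf (nat_lit 363))))
  (.node (.node (.leaf (nat_lit 15241764))
  (.leaf (nat_lit 198)))
  (.node (.leaf (nat_lit 168100))
  (.leaf (nat_lit 16400))))))))
  (.node (.node (.node c63_N_4
  (.node (.node (.node (.leaf (nat_lit 570925))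
  (.leaf (nat_lit 77900)))
  (.node (.leaf (nat_lit 538125))
  (.leaf (nat_lit 10249))))
  (.node (.node (.leaf (nat_lit 429475))
  (.leaf (nat_lit 132)))
  (.node (.leaf (nat_lit 198850))
  (.leaf (nat_lit 495))))))
  (.node c63_N_5
  (.node (.node (.node (.leaf (nat_lit 38873010702))
  (.leaf (nat_lit 209100)))
  (.node (.leaf (nat_lit 210125))
  (.leaf (nat_lit 363))))
  (.node (.node (.leaf (nat_lit 14160388))
  (.leaf (nat_lit 5125)))
  (.node (.leaf (nat_lit 68357315))
  (.leaf (nat_lit 528)))))))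
  (.node (.node c63_N_6
  (.node (.node (.node (.leaf (nat_lit 539150))
  (.leaf (nat_lit 143500)))
  (.node (.leaf (nat_lit 144525))
  (.leaf (nat_lit 298))))
  (.node (.node (.leaf (nat_lit 527875))
  (.leaf (nat_lit 165)))
  (.node (.leaf (nat_lit 1182851))
  (.leaf (nat_lit 15375))))))
  c63_N_7))
noncomputable def c63 : TC :=
  ⟨[.l 0, .l 1, .l 2, .l 3, .l 4, .l 5, .l 6, .l 7, .l 8, .l 9, .l 10, .l 11, .l 12, .l 13, .l 14, .l 15, .l 16, .l 17, .l 18],
    (nat_lit 9), (nat_lit 11), (nat_lit 0x4a307b9ac5a547418a418820), (nat_lit 1), (nat_lit 316), (nat_lit 0), (nat_lit 32), (nat_lit 12), (nat_lit 135),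
    get (nat_lit 10) (nat_lit 0x400c0400c02010030080400c02010030080400c02010030080400c02010030080400c02010030080400c02010030080400c02010030080400c02010030080400c02010030080401004010040100401c05010050100400c080140401804014050100401004010040100400c04014040100401004010040240501405010040100401405014040100401004010040100401004018040100402004010040100601c0701c070100401012), Tr.get c63_N, get (nat_lit 20) (nat_lit 0x3ff003ff003ff003ff003ff003ff003ff003ff003ff003ff003ff003ff003ff003ff003ff003ff003ff003ff003ff003ff003ff003ff003ff003ff003ff003ff003ff003ff003ff003ff003ff003ff003ff003ff003ff003ff003ff003ff003ff003ff003ff003ff003ff003ff003ff003ff003ff003ff003ff003ff003ff003ff003ff003ff003ff003ff0005b0005a00059000580005700056000550004d0004c0004b0004a000490004800047000460004500044000430004200041000400003f0003e0003d0003c0003b0003a0003900038000370003400031000300002f0002e0002d0002c0002b0002a00029000280002700026000230002200021000200001f0001e0001d0001c0001b0001a000190001800017000160001500014000130001200011000100000f0000e0000d0000c0000b0000a00009000080000700006000050000400003000020000100000),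
    Tr.get3 c63_F (nat_lit 28) (nat_lit 5), Tr.get3 c63_T (nat_lit 9) (nat_lit 6), Tr.get c63_P⟩

theorem c63_head : c63.headOK rn62 ivA = true := by decide +kernel

theorem c63_b0 : allFrom (nat_lit 0) (nat_lit 12) c63.blockOK = true := by decide +kernel

theorem c63_blocks : ∀ t < c63.k, c63.blockOK t = true :=
  (of_allFrom_append of_lt_zero c63_b0)

theorem c63_mem0 {G : Type*} [Group G] {γ : ℕ → G} (hL : Lab γ ivA) (hr : ∀ t ∈ rn62, t.ev γ = 1) {K : Subgroup G}
    (hK : ∀ t ∈ ([] : List W), t.ev γ ∈ K) :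
    W.ev γ (.l 1) ∈ K :=
  TC.mem (D := c63) hL (List.forall_mem_cons.2 ⟨hL.zero_mem K, hK⟩) hr c63_head c63_blocks
    (n := (nat_lit 1)) (w := (nat_lit 1)) (st := (nat_lit 1350)) (by decide +kernel) (by decide +kernel)

def c63_loops : List W := [.l 1]

theorem c63_mems {G : Type*} [Group G] {γ : ℕ → G} (hL : Lab γ ivA) (hr : ∀ t ∈ rn62, t.ev γ = 1) {K : Subgroup G}
    (hK : ∀ t ∈ ([] : List W), t.ev γ ∈ K) :
    ∀ t ∈ c63_loops, t.ev γ ∈ K :=
  List.forall_mem_cons.2 ⟨c63_mem0 hL hr hK,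
    fun _ h => absurd h List.not_mem_nil⟩

theorem tn62 {γ : ℕ → G} (S : T.Wk D o γ ivA 4096) (F : Fo D) (R : Ps D) (h : Al γ rn62) : T.Fin D :=
  (S.dead F (Al.bot (c63_mems S.lab h (nil_bot γ)))).elim

def rn64 : List W := List.map (sb (.mul (.mul (.mul (.inv (.mul (.mul (.mul (.mul (.inv (.l 7)) (.l 16)) (.l 17)) (.l 18)) (.l 7))) (.mul (.mul (.mul (.l 17) (.l 12)) (.l 18)) (.l 12))) (.mul (.mul (.mul (.mul (.inv (.l 7)) (.l 16)) (.l 17)) (.l 18)) (.l 7))) (.l 13))) [.mul (.l 30) (.inv (.mul (.mul (.mul (.l 1) (.l 2)) (.l 4)) (.l 6)))] ++ rn60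

def c65_F : Tr := .node (.leaf (nat_lit 0x286ca6c08f826c08ec26b2858a6a2994a68205086808e82674198e652854a6608cc266215486408c4264204886308c026318646617185c5f6981a61185c65f117845610fc45d08a825d184865c08a425c089825a10644597165c571060458105c457088c257185465618a8655104c455087c2551044454087425430fcc531040453883a25188d625070ddc506939a4f7039c4e20dc84d7035c4d6839a4c6835a4b7121c464070e4518b06453074c4010c444070f5c3b283ca390878239203083670d9c3468d5a36202c8352028834207c8312014830204082f08a022f182862d10b0421188062b101c42b18146291844628103442610304257095c23102c424102842310244221820621101841f104841e101041d100c41c083421a08302197065c176861a19082c218082821708242160820215081c214081821308142120810211080c210080820f7031c0a682da0c667d96b3e7916b3e7516a26709621e6c7622668961966655f2e60b5e465cf5d4658f5c4654f5b4650f5a364cd59964a5534644f5296425518e3e351963a5503e3514f4630f4e962e5473628d4626249468e22344461cf437619d424614f41961253b260c9394608f372604937960253635fcd3595fa53235f4d2c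2df0b2b3ded12a45e8f2a8de632735e0d2525dc9203dd911c45d4f1c35d0d1c25cc91c35c8d1695c65158dc23153dbd11345b8f1335b4d103db110c95ae50b95aa50a8da63068da23053d9d1004598f003594d002590900758dcf33588ce815844e895824e78d7e2e74578ee62d74ae625708e61d6c6e63568ce53d650e43560ce42d5cae32d58ae23554ce13d510df454cedf8d4a2de3d450dd65418db953e4da25388d83534cd225308d2952e4d0952a4ce8d262cd85220cd8d1e2cb951a4ca7d15ec76d11ac7350ccc62d08ac395064c095024bc74fdcbb94fa4b98cf62b88cf22b68cee2b594ea4b38ce62ad8ce22ac94de4aa8cda2a91cd46a78cd22a68cce2a58cca2a474c5ca48cc22a37cbdea36cb9aa32cb4a9f3cb109e34acc9e24a889e1ca469e94a249b649d89a1c9869a24948991c906998c8e2977489c95248489394824928c7e2918c7a2908c7628f947248c346cc898c6a2888c662866461883245c8833c590824454e823450c82244c8821c486823444c819442480343cc7f943a47e943647c943247a8c2e2798c2a2777425c763c21075941e4727c19e707415c706c11a70940e46f940a46e3404c6d940246c63fd86c93fa46b8bf626a8bf226733ecc661be866593e64648be22638bde26093da45f8bd625f73d1c5e23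cc85e3bc905c93c645a1bc065a8bbe2598bba2588bb62577bb1e553bad05493aa4522ba4a523ba1051439ce513398c5123948511b90651338cc4f3388c4e938644d3380c4c937e44b637984a93764498b72248936e4478b6a2472b64a459362443435ce413b590402b54a404350e3f2b4ca3f934a43e234483e8b4223d8b3e23c8b3a23b2b34a3a233083a1b2c63a8b2a2397b25e396b21a39331cc39931a4378b162369312434330cc3313084333304c328b0223182fe0317af9e3172f5c316af1a3142ece312ae8a318ae62307ae1e3072ddc306ad9a3032d4c3012d04308ace22f72c9c2f3ac502f32c0c2f8abe22d8aba22c62b582c32b0c2c92ae42a8aaa22a2aa4a2a22a082a8a9e2297a99e296a95a293290c29128c4293a890283284c282a80a28327cc27927a4268a7622492724238a6e223926a4228a662217a61e21725dc216a59a2122548213250c20924e41f8a4a21f7a45e1f7241c1f6a3da1f3a3901f2a34a1f8a3221e3a2d01e3228c1e3a2501d2a20a1d1a1c61d2a18a1c221481c621181b320cc1b920a41a92064198a0221991fe41889fa21891f641789f221791ee41689ea21579e5e1571e1c1569dda1511d841531d4c1429d0a1491ce41389ca21369c5a1329c0a1321bc81319b861391b641289b221269ada1261a9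81239a501241a0e12319cc1239990114194e113190c11298ca11918a4107985e107181c10697da1039790103174c102970a10916e40f896a20f7965e0f7161c0f695da0f395900f3154c0f215080f194c60f3148c0e914640d214080d913e40c913a40b893620b913240a892e20a912a40989262087921e08711dc086919a0811144089112406890e20639090062904a06210080618fc60688fa20578f5e0570f1c0568eda0530e8c0510e440590e240488de20478d9e0470d5c0468d1a0438cd00440c8e0430c4c0428c0a0418bc60488ba20368b5a0338b100340ace0330a8c0328a4a0320a0803909e402889a2027895e027091c02688da02608980238850024080e02307cc022878a0220748021870602906e401886a2017865e017061c01685da01605980138550014050e01304cc012848a0120448011840601103c401903a40088362007831e00702dc006829a0060258003821000401ce003018c002814a002010800180c600100840008042000000000))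
  (.leaf (nat_lit 0x800200000000100180130110073041c0d8050c14e06301876e71b918d4637105c418f95465700640170957e56c05b01998e4a39d960e59f867619e6db1b9d3668d9c1e5079c165859c0e4c39b8d823993584d983e2d198158859826589982e58b9725789970e1439615785950e08395264c9946e1db94464cf7e1dc87936d81b921e30791661998e854618d1e2878b257498b2d70b8b2d88b823e291622e04b8a260098a153458a0dd038a153058975fdd8895965883d21186358cd86261096535ccd842d60b8465e198334e8d813600d4c2cdcb801d1c77f8d1637f1d9477e25f097e2d68b7e45f4f6594b657c25d897b45ecf7a2cb0b7b2dd4b7a1d38779154857924e09788cfe3788d02377153857745c8f7445d8f751d9c776159457415905730d883720d7c370259c96f45bcf6e2c58b6f2d98b6e8c4636d7481d6d0d4436c75a9d6b6c31b6a74b5d696da1b6924c8968459cf660d343658c063650d3036423d096344a4f611d6476193a655d8be635c0d0435c0cdc35b6d0db5a8c0e35a156452c14dc5588c0a35873a5d576d59b57251c9568b8a3557399d554550f536ba1b546b9db5395265527375d4f8b6e34f94f254c6cf9b4c7529d4b24f894a6b49b4a3464d472be4b472bc4b4613485460c70346332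4d457515d4495125013320d44241c94333ccd423b35142245094124449407485d403afd13f3488d3f233893d6b45b3d234093c6ae5b3c32e4d3b2c08b3b239093a64e193932b8d381c5073734a4d378aae3373468d362aacb368b2633574cdd346a9db332c0cb322414931129c5300c643301b2472f129852f74bdd2e1b2072e129452e8c1232d1ba072c8a7e32b139052934a0d07137c5281c5c7271378527645d92624989188c8a32513705247265d23225c92292fa5216c5db213480d0d13605207475d1f6c79b1f230091e945251d2a78b1c140051c1c2071b235091b13e051a3210d184458f150ba03160b9c3150b983148a0e31492be5120b9031292425117435d108a06310924650f720dd0f7209d0e0b7c30d6a09b0d0b7430c7429d0b0b7030b69e9b0a1bd070911e05093420cd914204fb89ce3077419d046c15b0629c4b04340ccc43408cf62a08b000b4830089b630033f4cff2a10aff69b5afe63f18fd29ecafd31b0cfc1b5c6fb0b0c2fb4364efa23888f90ae42f822cc8f76bc1af76989af68b922f693d64e41bb86f573c1cf52bc8af333c8cd423c88b113c848b0a782f1896e2f189862f073b5cef11f84ee6969aed938a4ec73b1cea13ac4a219986eb6955aea894a2e68b122e56b19ae56b89ae37149ce27145ce1893a2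e191564e06949ae023188df6945adf937a4cd1ab86dc7125cda11984d94214ed91a886d90b082d989122d832c4cd74250ed73a510412b04a9423048422908ad64354ec13170cd521048d522288d319046d38ade2d172e5cd17339cd022e48cf70f9ccf68f9ace21748cd19906cd0aa02cd430cecc2b30a5d32d0ccc1a346cc2b2ca643218ccb0ae82cb296caca10f84ca0a302ca7325cc810ec4c810e84c70a282c7212c8c56941ac521388c468e1ac429d8ac222448be72f9cbc22408bd223c8bc3254cbb22348ba199c6ba20f48b872e1cb66addab820f08b720ec8b629b8ab52950ab420e48b421808b22978ab10a882b12ac0a8a20fc8b01a746af68b9aaf12644ae30b8caa3220ca92aa0a673214ca818c46a812844a87299ca5229087029bcaa418e46a30a182a328b0aa219006a121b88a13234ca020a48a091c649f114449e889e29e113449d689da9c112c49b112849a19206987261c966a5da9819186962a2ca9519d46946a0da933098c92110c4923094c917245c8f6a41a913090c90923e483308cc8f190868e11c048d289ca8c11b048c222c88919a468b2884a8918cc689118c48810bc4871170486187868619506850944282886e28269fda8171f1c80706dc7f7069c7e093427e686da7d092c27c6869a7c092827b092427a092027971e5c77091c27809182771978676091427621948743068c72305cc713150c6f119046f090026f3070c6e10a846e))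
def c65_T : Tr := .leaf (nat_lit 0xcfe7b3b9ccde6b3398cbe5b2b94c9e4b2390c7e3b1b8cc5e2b1388c3e1b0b84c1e0b0380bfdfafb7cbddeaf378bbddaeb74b9dcae370b7dbadb6cb5daad368b3d9acb64b1d8ac360afd7abb5cadd6ab358abd5aab54a9d4aa350a7d3a9b4ca5d2a9348a3d1a8b44a1d0a83409fcfa7b3c9dcea73389bcda6b3499cca633097cba5b2c95caa532893c9a4b2491c8a43208fc7a3b1c8dc6a33188bc5a2b1489c4a231087c3a1b0c85c2a130883c1a0b0481c0a03007fbf9fafc7dbe9f2f87bbd9eaf479bc9e2f077bb9daec75ba9d2e873b99cae471b89c2e06fb79badc6db69b2d86bb59aad469b49a2d067b399acc65b2992c863b198ac461b0982c05faf97abc5dae972b85bad96ab459ac962b057ab95aac55aa952a853a994aa451a8942a04fa793a9c4da6932984ba592a9449a49229047a391a8c45a29128843a190a8441a0902803f9f8fa7c3d9e8f2783b9d8ea74399c8e270379b8da6c359a8d26833998ca6431988c2602f978ba5c2d968b2582b958aa5429948a250279389a4c259289248239188a442190882401f8f87a3c1d8e872381b8d86a34198c86230178b85a2c158a85228138984a241188842200f8783a1c0d86832180b8582a14098482210078381a0c058281208038180a04018080200)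
def c65_P_0 : Tr := .node (.node (.node (.node (.leaf (nat_lit 0xda4080070b201068159b0038082004681580300f002330a4018058001605000c00c118021584c00806c00041b836d6860001e118258011084800805c0003c2300402a0001c1100201300239084010088031983e008034000a41e004006094010a81d004012000500e002007000270680080d8000435a6aad0c0003417033002210640c4000841800202e0001a0b8010150000c058008098011c02a004044018c81400201e004640980100d000260480080580012822004024000901000200e000460780100500022028064008840c01700021))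
  (.leaf (nat_lit 0xff800ff800ff800ff800ff800ff800ff800ff800ff800ff800ff800ff800ff800ff800ff800ff800ff800ff800ff800ff800ff800ff800ff800ff800fff4a0040007e09fa480c8024e1cfd1c444013958ee8945e009bd4ef43c7300490c67a030e80254e15c9b9f70380011)))
  (.leaf (nat_lit 0x4003606d800009feae55d8008f4ff3ff212004787f06b0db000063f43506cd72004193f4fe47b8020b1f819c36400060fb53ea812928a002169f67da61c00098fa3f1a3c000667c9f5d3ca875140102cf83e52e6000107ba541642ce008287b9ef54c000053d82f862800031ec3d757800004e453038509aa455c002033d4f74170311fb52001008f53e1a980003679a535550022e3501f8409aba0e794000de538bc172794020da218d27a8794020d0f13d127a000127885a0b7000013c151aa51de79ef8800808ef3cc3b600036771e58fd000103b42b85a80002d423a94c80081e9e9d900221a354761a9d700834)))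
  (.node (.leaf (nat_lit 0x508283608040085e501c143a21c0e81f91b00230280140298001713e8e04e1e33c9814004084f1ba8a30000a278130278000093a6de26c000409c04609e0000c4d9b689700010268dac4a800054688cae8c0004896131002212604bc000849636911a000224aa204450022e250df1bdb4e1d60085a4988fc50000062480f8268000c1246ce21c000422b44f6e20002e4789180110922242000424801f0490001720d0907d3556d9138008108f03e08e0043c471b388500633234d9da60e10042a2300f0278020b1186ca364000422084207a45c020d88b3651a600c664481d04300635))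
  (.leaf (nat_lit 0x1615f2ce20044eaea9d9d30061657198b32d6a002145716db19000122b6b6d8580008d5a53750e0003cad29cd8700218be6740e4ab3008345617bb0a00014ab0ac16140086157535a6674c008555753555a0003aab2b56480002e5554bce28010c2aaa627340085d532a90003155149ce88020faa6a4e73c0007d5252452600402a7a909bb0000753c6d0db80000a98c999414b6240020b531933278000e2969f6a540001d4a628c4f3f53e80205a949ea69400019474e346600030a3a721f30041651937ea70000b28c9ba69400029464db472000138fb1dcd900017))))
  (.node (.node (.leaf (nat_lit 0xd80480dc010586c34b0fa00010359a58770000c1a8090168011e0d07cc318658011b0d00480a4008d46734b0ea0004c32866800188cc0440ac018d4663490ce00c643201101f1560085e321a48630002618c08812800170c669218400095f03dd6b6000242f861801108c2182000422f81002f0001178a0a8108bd00834174ed9dc800148ba68e154000985c02004a000582e1a385300025168d1426800043cc792d6c0003c570b30022116007818800078ae03c0bc000385734508e000182b00f02b0063315429ddbb470aa0085a2a80f02700029))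
  (.leaf (nat_lit 0xbf57e66c800095fabef2340003d2e25f002214b921cc880008a5c28c52c000392d479b100042c9623b9d1006334ad1d49f8010c2528ee7240009d0740d84086ed1dea004044a11bcdf8000524e49b794008e92746d37a004737891822f0003bb7f5eabed7583f1b1268041824abb891aed0010a2489354880009d2312e266000369109512f0001348517ed35a998c0041690a2fa2f0001cb42411afb748b8904000112045b362000148fa2b23b0001b47d1551e80002a3c9845e8c08020a23a8a16d0008051c4498e80002c8e223a010000a46d0fcc2d18b260085a8da22d53aac0085e8d21e9f100010)))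
  (.node (.leaf (nat_lit 0x68a7b19e9640042868a7b4f900213340e60ce8000d99e9645b8b98020a19e0f01f40006cce0760fa0000a668cccea0002e33465e720001619a7e52540009673cbc2e81883398700c377af0006e0df8132b274000181989a863a550011799832f3865e80215be97352023fc0321b388000c0cb4d49a64521b001169967e52e80008cca39716e0082c6503907d00010328e548c8000419032600442640390770000e31c1c83a8001498e72a45400098c539368425c01050c538f7640000a621c581402e2740102cc40680e20000c611f63ef1da0045531260c57000132f05f400884bd389242000265e1c491f0021c))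
  (.leaf (nat_lit 0x6359655180310316da5ba373e89ddc00806c5b33668cd79f00102d8b649cf40002cc1181ef2de80046da9b586ec0043262991ea8c773938736c00218314627baf6b80217b14c8aa6c000a58a6435d20004cc4b22a99000286218ff680000db10c79a18008058663552200840c331bac700017d54ba173ede0002f61188711654d09aa0010118461fcd80002cc1b0deb80003b6059b95861c0022fca69f2b45c0c20c04000118060fc240002cbf935602c03928010b57f60dc8000431b357c2564b2bef640051bafcd19a3b48ec60040b5f981f390000b2ca59fab3626c15f60046ebe2f8a5b00616d85aff578011aaf45ee00062bd92a25900635))))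
def c65_P : Tr := .node c65_P_0
  (.node (.node (.node (.leaf (nat_lit 0xaa68a0fc000985401e046000502a1a283b0002414c0780100d0fe0045a2980f021000271440680e800008a0750269c60010a0a0750eac0084c4f34113a0000c2700b01d00007134e303506f004141340580d8000d898028074000184b0140360000a230488011088a6d01081c8001a08a6d0dfc0089c4036607c0ec008bc40366710000501d83d801108726940900f80115072694d9000089c838b686000261a0368011086c0d6000421a804017000130d00200a8010e0620100141f8021786001002c000b82f348044084008ac2f3486ec000461680301500011))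
  (.leaf (nat_lit 0x460418848011ea2a45a000628b2199d1006324550cce780119228866734000991443120e00430892d221c84f1ca4f00101a248667240008d1142f1fcd5db7452002044410b50d80003a2020040c000050f42e204d75b94580020443d0ac838010ba1c8524140001d0d42337e0001286a1090500006431074dd80004a168308540006d0b41b37200010850770f50000542504cf4800092121d83c40003eb61f481c3a075a1100037ae344e30a110083441c3907380000a0841a004428310580010a081c038c0087665870690ef20420700004ac6311a3b6080481400011003ff8600002c801fe9a500009)))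
  (.node (.leaf (nat_lit 0xbb0620cf0fa22c62004372e8e248d80017174921250000b25b4b1732000265b0b8801109702de000425b9c3879000132d8e1c3b8010e16a0c0d21de434215008010c0b43e418cef0008a8b43870e600450591c28c1000132c4e145e8031a962706514018c88a03c68807810b842c200860581c2bb67720085e579c081402e26e390020115e0b417400014ae37e266000205502a05d000182a4f59ec87e102e7488801180ce04800802839217248010c0a840080642c008bca83c277ee20010aca84008fc00050528a680110c4a8f91eca4800179480a4d19db0a6153020010c0a33790e60044e519e9438000222881402c8031a9426eeef1ddb9c0042d))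
  (.leaf (nat_lit 0x2f44a9721758011b2f2bd375b176b4d6600804bcaf3aa5000105e092a4d6180042f5e1787150010c2eed31a6f180010a2eeba6a74000a1742edd5ba8b4fae5002375d4bb4000c5765c759e00c66ba2e3acb000295cd71d64800142e4b76b1400099705b957e00011a834ee8b002355b8b7c000c56f22645a00c6ab711358259a0046cb6ad5a23002185b56b6ea8010bad8b3ea8c018c96b59d5aa0000eb52cca19000065a5632fa0000dad2b16b4400015686044c499401051662cf000315956054d800132caafe80c008616458153200048b18f31e9000135857c92c25300034))))
  (.node (.node (.leaf (nat_lit 0x1126c619c018cc8836369031c010a8873630be0004e431b0b46172008544301c03d0002c2140e1a20a90042b208d7c51800049040680dc00004813591fe0000c401ad0f90001b1fc0c01b800038fc0600d40006c7e357136000103e817037000061f0d544b800040f805c0d4000147b35312a000123d1a889300008831055d1800068ee1e6004423c1a888f0000d1dcd4446800060ec788f6c0089c76351116000443a1fa3f70002e1c80981a8000c0e204c0bc008786f3c01542a4008bc6f3c07d400050379a6881000241b8f01df83e0720045a371e03c300027))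
  (.leaf (nat_lit 0x2885160044280abc1fc7f735b1d0010228831c6440087943528bd57b0010bd4256eb23712e1d57ab000460a12761983360086ca0ae65ceba372c0102d404c123c486d700205a8098b7600001d3f1762fe008409fa5fa45000174f52e5cc19d004144f52d67f00002a78962e64d08020a2782d85cc000153b16a2e6000309da57a05004164e959ab2d5aabc008169c8ad15dc30008329c0ac15d00018c2a94a3bc324520085a9ba4cc9cb656c6f70020226e2a855c000053649746a000309b0a9157004164d582305268bf97fc008093448c4ce00036998a514f000054c9225038020b26291482c0004d3014629e0002098242a3300008)))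
  (.node (.leaf (nat_lit 0x3acef466803199d4a554b400018e63b514a0043072a9852f9980042872a935290001c38cebce28000f1c475a2940085ce13a91460000e7084d09d00001380e9c0e00303e2ac00810e03a714a0003c6fa684cf7626340102cdf3a51460000d3be47c811000300989537a020346e23546725c4ce4d002011b411c24c0006cd908a6a0fb8010a8d93a12160006a6c9cfc820002c36504264000129b010c22400004d7500a0728cb01630003735d444000c682508a1c0086a4a02003f23b136868031bd0a3586ae840041b1ac100214018d4c10640bee145cd060023735501203cf09e62e85c801181aa10020c000b8d34a09440005c6983f0830002c))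
  (.leaf (nat_lit 0x19165b524a4772700638a832b31bdffcf1715bdb76b0d9af2801c00e74c78001bd8f7385c0b8e008079bb2000072d4bcd34bb2180209e64cc8001cb90f04e61cae000179633c67fcbf6deb7c5a5f8c0a83617c4b9233858997b303250160067cb5acddde49092d78eda0021a679a559d8031033ad26b640107d9c71ae3ecd4008bd9c337e47c30010ad9c71ae3200050cdb5370600023664af96080000f1ddfbbc76ae15d000006ecc15e2b9df00086ccc38870fdee00854cc38a7170002e65dbeb7cb2d0023665cae95e8011ab2ccf2c2c008c9952b657a00466cab3bb0500232651b2b848011ab28ceac3c0007f67ee1dbaac159b2700c3764d9f9615ba5ca0085ac932eac100006645aeb5eb1900234638a80db416b2965f416e20041a)))))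
def c65_N_0 : Tr := .node (.node (.node (.node (.leaf (nat_lit 0x444334f28c10c9322784648))
  (.leaf (nat_lit 1025)))
  (.node (.leaf (nat_lit 532935))
  (.leaf (nat_lit 396))))
  (.node (.node (.leaf (nat_lit 559650))
  (.leaf (nat_lit 263)))
  (.node (.leaf (nat_lit 36612281541))
  (.leaf (nat_lit 17425)))))
  (.node (.node (.node (.leaf (nat_lit 558625))
  (.leaf (nat_lit 132)))
  (.node (.leaf (nat_lit 133250))
  (.leaf (nat_lit 495))))
  (.node (.node (.leaf (nat_lit 563750))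
  (.leaf (nat_lit 10249)))
  (.leaf (nat_lit 45100))))
def c65_N_1 : Tr := .node (.node (.node (.node (.leaf (nat_lit 14563744326))
  (.leaf (nat_lit 99)))
  (.node (.leaf (nat_lit 132225))
  (.leaf (nat_lit 13325))))
  (.node (.node (.leaf (nat_lit 15241764))
  (.leaf (nat_lit 232)))
  (.node (.leaf (nat_lit 2203751))
  (.leaf (nat_lit 0)))))
  (.node (.node (.node (.leaf (nat_lit 427425))
  (.leaf (nat_lit 5125)))
  (.node (.leaf (nat_lit 167075))
  (.leaf (nat_lit 528))))
  (.node (.node (.leaf (nat_lit 144525))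
  (.leaf (nat_lit 363)))
  (.leaf (nat_lit 176300))))
def c65_N_2 : Tr := .node (.node (.node (.node (.leaf (nat_lit 14446300707))
  (.leaf (nat_lit 66)))
  (.node (.leaf (nat_lit 66625))
  (.leaf (nat_lit 429))))
  (.node (.node (.leaf (nat_lit 462275))
  (.leaf (nat_lit 8199)))
  (.node (.leaf (nat_lit 40999))
  (.leaf (nat_lit 594)))))
  (.node (.node (.node (.leaf (nat_lit 592450))
  (.leaf (nat_lit 165)))
  (.node (.leaf (nat_lit 1214626))
  (.leaf (nat_lit 15375))))
  (.node (.node (.leaf (nat_lit 19827821589068))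
  (.leaf (nat_lit 298)))
  (.leaf (nat_lit 110700))))
def c65_N_3 : Tr := .node (.node (.node (.node (.leaf (nat_lit 603725))
  (.leaf (nat_lit 3075)))
  (.node (.leaf (nat_lit 197825))
  (.leaf (nat_lit 462))))
  (.node (.node (.leaf (nat_lit 595493))
  (.leaf (nat_lit 329)))
  (.leaf (nat_lit 4366503))))
  (.node (.node (.node (.leaf (nat_lit 428450))
  (.leaf (nat_lit 198)))
  (.node (.leaf (nat_lit 168100))
  (.leaf (nat_lit 561))))
  (.node (.node (.leaf (nat_lit 210125))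
  (.leaf (nat_lit 11275)))
  (.leaf (nat_lit 33))))
def c65_N_4 : Tr := .node (.node (.node (.node (.leaf (nat_lit 607825))
  (.leaf (nat_lit 66)))
  (.node (.leaf (nat_lit 15821))
  (.leaf (nat_lit 12300))))
  (.node (.node (.leaf (nat_lit 429475))
  (.leaf (nat_lit 263)))
  (.node (.leaf (nat_lit 7399))
  (.leaf (nat_lit 594)))))
  (.node (.node (.node (.leaf (nat_lit 591425))
  (.leaf (nat_lit 4100)))
  (.node (.leaf (nat_lit 198850))
  (.leaf (nat_lit 495))))
  (.node (.node (.leaf (nat_lit 18035244))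
  (.leaf (nat_lit 298)))
  (.leaf (nat_lit 77900))))
def c65_N_5 : Tr := .node (.node (.node (.node (.leaf (nat_lit 570925))
  (.leaf (nat_lit 99)))
  (.node (.leaf (nat_lit 165025))
  (.leaf (nat_lit 462))))
  (.node (.node (.leaf (nat_lit 14095813))
  (.leaf (nat_lit 7176)))
  (.node (.leaf (nat_lit 172167))
  (.leaf (nat_lit 0)))))
  (.node (.node (.node (.leaf (nat_lit 460225))
  (.leaf (nat_lit 198)))
  (.node (.leaf (nat_lit 68357315))
  (.leaf (nat_lit 16400))))
  (.node (.node (.leaf (nat_lit 177325))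
  (.leaf (nat_lit 363)))
  (.leaf (nat_lit 209100))))
def c65_N_6 : Tr := .node (.node (.node (.node (.leaf (nat_lit 15637483075))
  (.leaf (nat_lit 2050)))
  (.node (.leaf (nat_lit 99425))
  (.leaf (nat_lit 429))))
  (.node (.node (.leaf (nat_lit 463300))
  (.leaf (nat_lit 232)))
  (.node (.leaf (nat_lit 106567))
  (.leaf (nat_lit 18450)))))
  (.node (.node (.node (.leaf (nat_lit 451482180))
  (.leaf (nat_lit 165)))
  (.node (.leaf (nat_lit 1182851))
  (.leaf (nat_lit 528))))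
  (.node (.node (.leaf (nat_lit 571950))
  (.leaf (nat_lit 9226)))
  (.leaf (nat_lit 143500))))
def c65_N_7 : Tr := .node (.node (.node (.node (.leaf (nat_lit 604750))
  (.leaf (nat_lit 132)))
  (.node (.leaf (nat_lit 100450))
  (.leaf (nat_lit 14350))))
  (.node (.node (.leaf (nat_lit 465350))
  (.leaf (nat_lit 329)))
  (.leaf (nat_lit 7621220582))))
  (.node (.node (.node (.leaf (nat_lit 461250))
  (.leaf (nat_lit 6150)))
  (.node (.leaf (nat_lit 2298052))
  (.leaf (nat_lit 561))))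
  (.node (.node (.leaf (nat_lit 242957))
  (.leaf (nat_lit 396)))
  (.leaf (nat_lit 33))))
def c65_N : Tr := .node (.node (.node c65_N_0
  c65_N_1)
  (.node c65_N_2
  c65_N_3))
  (.node (.node c65_N_4
  c65_N_5)
  (.node c65_N_6
  c65_N_7))
noncomputable def c65 : TC :=
  ⟨[.l 0, .l 1, .l 2, .l 3, .l 4, .l 5, .l 6, .l 7, .l 8, .l 9, .l 10, .l 11, .l 12, .l 13, .l 14, .l 15, .l 16, .l 17, .l 18],
    (nat_lit 9), (nat_lit 11), (nat_lit 0x4a307b9ac5a547418a418820), (nat_lit 1), (nat_lit 416), (nat_lit 0), (nat_lit 32), (nat_lit 17), (nat_lit 118),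
    get (nat_lit 10) (nat_lit 0x1003010030080400c02010030080400c02010030080400c02010030080400c02010030080400c02010030080400c02010030080400c02010030080400c02010030080400c0201004010040100401c05010050100400c080140401804014050100401004010040100400c04010040100401009014040100401405010040100401004010040180401004010040100701c0701013), Tr.get c65_N, get (nat_lit 20) (nat_lit 0x3ff003ff003ff003ff003ff003ff003ff003ff003ff003ff003ff003ff003ff003ff003ff003ff003ff003ff003ff003ff003ff003ff003ff003ff003ff003ff003ff003ff003ff003ff003ff003ff003ff003ff003ff003ff003ff003ff003ff003ff003ff003ff003ff003ff003ff003ff003ff003ff003ff003ff003ff003ff003ff003ff003ff003ff0005a00059000580005700056000550004d0004c0004b0004a000490004800047000460004500044000430004200041000400003f0003e0003d0003c0003b0003a00039000380003700034000300002f0002e0002d0002c00029000280002300022000210001f0001e0001c0001a00019000180001600015000130001200011000100000f0000e0000c0000a000090000700005000040000200000),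
    Tr.get3 c65_F (nat_lit 28) (nat_lit 5), Tr.get3 c65_T (nat_lit 9) (nat_lit 6), Tr.get c65_P⟩

theorem c65_head : c65.headOK rn64 ivA = true := by decide +kernel

theorem c65_b0 : allFrom (nat_lit 0) (nat_lit 17) c65.blockOK = true := by decide +kernel

theorem c65_blocks : ∀ t < c65.k, c65.blockOK t = true :=
  (of_allFrom_append of_lt_zero c65_b0)

theorem c65_mem0 {G : Type*} [Group G] {γ : ℕ → G} (hL : Lab γ ivA) (hr : ∀ t ∈ rn64, t.ev γ = 1) {K : Subgroup G}
    (hK : ∀ t ∈ ([] : List W), t.ev γ ∈ K) :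
    W.ev γ (.l 1) ∈ K :=
  TC.mem (D := c65) hL (List.forall_mem_cons.2 ⟨hL.zero_mem K, hK⟩) hr c65_head c65_blocks
    (n := (nat_lit 1)) (w := (nat_lit 1)) (st := (nat_lit 1868)) (by decide +kernel) (by decide +kernel)

def c65_loops : List W := [.l 1]

theorem c65_mems {G : Type*} [Group G] {γ : ℕ → G} (hL : Lab γ ivA) (hr : ∀ t ∈ rn64, t.ev γ = 1) {K : Subgroup G}
    (hK : ∀ t ∈ ([] : List W), t.ev γ ∈ K) :
    ∀ t ∈ c65_loops, t.ev γ ∈ K :=
  List.forall_mem_cons.2 ⟨c65_mem0 hL hr hK,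
    fun _ h => absurd h List.not_mem_nil⟩

theorem tn64 {γ : ℕ → G} (S : T.Wk D o γ ivA 4096) (F : Fo D) (R : Ps D) (h : Al γ rn64) : T.Fin D :=
  (S.dead F (Al.bot (c65_mems S.lab h (nil_bot γ)))).elim

theorem tn60 {γ : ℕ → G} (S : T.Wk D o γ ivA 4096) (F : Fo D) (R : Ps D) (h : Al γ rn60) : T.Fin D :=
  let ⟨a, p, q, k⟩ := S.pin R.p4 (.mul (.mul (.mul (.inv (.mul (.mul (.mul (.mul (.inv (.l 7)) (.l 16)) (.l 17)) (.l 18)) (.l 7))) (.mul (.mul (.mul (.l 17) (.l 12)) (.l 18)) (.l 12))) (.mul (.mul (.mul (.mul (.inv (.l 7)) (.l 16)) (.l 17)) (.l 18)) (.l 7))) (.l 13)) (by decide +kernel) nofun ((Al.bot (c61_mems S.lab h (nil_bot γ))).triv S.lab (by decide +kernel))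
  (List.forall_mem_cons.2 ⟨fun _ k => tn62 S F R (k.app h),
    List.forall_mem_cons.2 ⟨fun _ k => tn64 S F R (k.app h),
    nofun⟩⟩ : ∀ a ∈ pn4.alts, (a.1 = true → o = true) → Al γ (a.2.map (sb (.mul (.mul (.mul (.inv (.mul (.mul (.mul (.mul (.inv (.l 7)) (.l 16)) (.l 17)) (.l 18)) (.l 7))) (.mul (.mul (.mul (.l 17) (.l 12)) (.l 18)) (.l 12))) (.mul (.mul (.mul (.mul (.inv (.l 7)) (.l 16)) (.l 17)) (.l 18)) (.l 7))) (.l 13)))) → T.Fin D) a p q k

theorem tn58 {γ : ℕ → G} (S : T.Wk D o γ ivA 4096) (F : Fo D) (R : Ps D) (h : Al γ rn58) : T.Fin D :=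
  tn60 S F R (((Al.bot (c59_mems S.lab h (nil_bot γ))).triv S.lab (by decide +kernel)).app h)

def rn66 : List W := List.map (sb (.pow (.mul (.l 16) (.l 17)) 2)) [.mul (.l 30) (.inv (.l 2))] ++ rn56

def c67_F : Tr := .leaf (nat_lit 0x20040000004070080400781a03585b0d8ba17653c9d55027489d1784a09404c0780a02701c088028110020240d82901a0841401906008e124334e4ace394704beaca2f46285f0c52f2b14c2ac04c8b04c4abe4fca19252941282a83b08a15c2e2ba5b8ae16d2b45b0b116b13a2a9342a91462a04a0a72a259c2f8654c6a9126aa311c2882906150e9712ca9b5109692c29a490a6123a97492a58a315528a550a495309e14c430925229404589011423c2404e51892c4288c0861282104950a9123b46c86b0725a49a8e716a594988e315e584968df15a374558db152164148d714e554928d31465449054e93e3344e84b03a3244c94722e514898430263044883f0224f48793b21a4e4858b71160d4059332122c44482f0104b08482b00d4a24312620e094024a2a094824229e50a4748181b00526281516904a51411122064448088f1020340048aa01422402865004108008210000000)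
def c67_T : Tr := .leaf (nat_lit 0x36d74cf2c70beeb6caeaa689e69648e28607de75c6da6585d65544d24503ce34c2ca2481c61440c2040)
def c67_P : Tr := .node (.node (.leaf (nat_lit 0xac852280203151023b00002291f8a20080e503e91c000089c82130a40083c9c1e1180008128f23f00003241d88e0080e460b06c0002488120e80001108e225000031c0281e0000e36370cc0101c680a08802048d0dc310040818020220080e2e0403c0102058080184c0103c540606800028a00c0b00010131c828130020c131c8f40001424020340001040230000d101c024170020f0f01006150040c0e0082200002160c80006860040b0060e0a0080e00016120101400028100b0000d))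
  (.leaf (nat_lit 0xff800ff800ff800ff800ff800ff800ff800ff800ff800ff800ff800ff800ff800ff800ff800ff800ff800ff800ff800ff800ff800ff800ff800ff800ff800ffbd804000241d7a0420091482f273c01213a9e2e98022a352c1dced8000536161ca5b00400)))
  (.leaf (nat_lit 0xd8af34802031a92e3d004093424c820000ee326000213814a0002ac86f9360090946dd434010f111b61d8024529b646d00484436b86a008fd52d44a40115309a49d8022d603494d0042a9e6833d9900c10661a1d0920080066489940101d86bd65001039911e3f000095f3198a00c1062170b4be0080062468f40101cc08b21800049805833000022f22c8a0080e995d2840080570540004555ad9364b80204562d1660040a5c1509cae008005c448ec01018b4871c802031610e3500005))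
def c67_N_0 : Tr := .node (.node (.node (.node (.leaf (nat_lit 2671152))
  (.leaf (nat_lit 16400)))
  (.leaf (nat_lit 198)))
  (.node (.leaf (nat_lit 300325))
  (.leaf (nat_lit 363))))
  (.node (.node (.node (.leaf (nat_lit 567817))
  (.leaf (nat_lit 0)))
  (.leaf (nat_lit 7176)))
  (.node (.leaf (nat_lit 99))
  (.leaf (nat_lit 462))))
def c67_N_1 : Tr := .node (.node (.node (.node (.leaf (nat_lit 526850))
  (.leaf (nat_lit 594)))
  (.leaf (nat_lit 263)))
  (.node (.leaf (nat_lit 66))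
  (.leaf (nat_lit 12300))))
  (.node (.node (.leaf (nat_lit 1214626))
  (.leaf (nat_lit 298)))
  (.node (.leaf (nat_lit 4100))
  (.leaf (nat_lit 495))))
def c67_N_2 : Tr := .node (.node (.node (.node (.leaf (nat_lit 592450))
  (.leaf (nat_lit 561)))
  (.leaf (nat_lit 6150)))
  (.node (.leaf (nat_lit 33))
  (.leaf (nat_lit 396))))
  (.node (.node (.leaf (nat_lit 66625))
  (.leaf (nat_lit 329)))
  (.node (.leaf (nat_lit 132))
  (.leaf (nat_lit 14350))))
def c67_N_3 : Tr := .node (.node (.node (.node (.leaf (nat_lit 595493))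
  (.leaf (nat_lit 18450)))
  (.leaf (nat_lit 232)))
  (.node (.leaf (nat_lit 2050))
  (.leaf (nat_lit 429))))
  (.node (.node (.leaf (nat_lit 75817))
  (.leaf (nat_lit 9226)))
  (.node (.leaf (nat_lit 165))
  (.leaf (nat_lit 528))))
def c67_N_4 : Tr := .node (.node (.node (.node (.leaf (nat_lit 591425))
  (.leaf (nat_lit 561)))
  (.leaf (nat_lit 198)))
  (.node (.leaf (nat_lit 33))
  (.leaf (nat_lit 11275))))
  (.node (.node (.leaf (nat_lit 599562))
  (.leaf (nat_lit 329)))
  (.node (.leaf (nat_lit 3075))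
  (.leaf (nat_lit 462))))
def c67_N_5 : Tr := .node (.node (.node (.node (.leaf (nat_lit 529925))
  (.leaf (nat_lit 594)))
  (.leaf (nat_lit 8199)))
  (.node (.leaf (nat_lit 66))
  (.leaf (nat_lit 429))))
  (.node (.node (.leaf (nat_lit 9513))
  (.leaf (nat_lit 298)))
  (.node (.leaf (nat_lit 165))
  (.leaf (nat_lit 15375))))
def c67_N_6 : Tr := .node (.node (.node (.node (.leaf (nat_lit 525825))
  (.leaf (nat_lit 17425)))
  (.leaf (nat_lit 263)))
  (.node (.leaf (nat_lit 1025))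
  (.leaf (nat_lit 396))))
  (.node (.node (.leaf (nat_lit 165025))
  (.leaf (nat_lit 10249)))
  (.node (.leaf (nat_lit 132))
  (.leaf (nat_lit 495))))
def c67_N_7 : Tr := .node (.node (.node (.node (.leaf (nat_lit 600617))
  (.leaf (nat_lit 0)))
  (.leaf (nat_lit 232)))
  (.node (.leaf (nat_lit 99))
  (.leaf (nat_lit 13325))))
  (.node (.node (.leaf (nat_lit 1124425))
  (.leaf (nat_lit 363)))
  (.node (.leaf (nat_lit 5125))
  (.leaf (nat_lit 528))))
def c67_N : Tr := .node (.node (.node c67_N_0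
  c67_N_1)
  (.node c67_N_2
  c67_N_3))
  (.node (.node c67_N_4
  c67_N_5)
  (.node c67_N_6
  c67_N_7))
noncomputable def c67 : TC :=
  ⟨[.l 0, .l 1, .l 2, .l 3, .l 4, .l 5, .l 6, .l 7, .l 8, .l 9, .l 10, .l 11, .l 12, .l 13, .l 14, .l 15, .l 16, .l 17, .l 18],
    (nat_lit 6), (nat_lit 9), (nat_lit 0x4a307b9ac5a547418a418820), (nat_lit 1), (nat_lit 55), (nat_lit 0), (nat_lit 32), (nat_lit 3), (nat_lit 73),
    get (nat_lit 10) (nat_lit 0x400c0400c02010030080400c02010030080400c02010030080400c02010030080400c02010030080400c02010030080400c02010030080400c02010030080400c0201003008040140400c05010040100401004010040100401005), Tr.get c67_N, get (nat_lit 20) (nat_lit 0x3ff003ff003ff003ff003ff003ff003ff003ff003ff003ff003ff003ff003ff003ff003ff003ff003ff003ff003ff003ff003ff003ff003ff003ff003ff003ff003ff003ff003ff003ff003ff003ff003ff003ff003ff003ff003ff003ff003ff003ff003ff003ff003ff003ff003ff003ff003ff003ff003ff003ff003ff003ff003ff003ff003ff003ff000510004d0004c0004b0003d00038000350003300032000220001e0001d00014000110000d0000c00000),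
    Tr.get3 c67_F (nat_lit 22) (nat_lit 5), Tr.get3 c67_T (nat_lit 6) (nat_lit 7), Tr.get c67_P⟩

theorem c67_head : c67.headOK rn66 ivA = true := by decide +kernel

theorem c67_b0 : allFrom (nat_lit 0) (nat_lit 3) c67.blockOK = true := by decide +kernel

theorem c67_blocks : ∀ t < c67.k, c67.blockOK t = true :=
  (of_allFrom_append of_lt_zero c67_b0)

theorem c67_mem0 {G : Type*} [Group G] {γ : ℕ → G} (hL : Lab γ ivA) (hr : ∀ t ∈ rn66, t.ev γ = 1) {K : Subgroup G}
    (hK : ∀ t ∈ ([] : List W), t.ev γ ∈ K) :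
    W.ev γ (.l 1) ∈ K :=
  TC.mem (D := c67) hL (List.forall_mem_cons.2 ⟨hL.zero_mem K, hK⟩) hr c67_head c67_blocks
    (n := (nat_lit 1)) (w := (nat_lit 1)) (st := (nat_lit 248)) (by decide +kernel) (by decide +kernel)

def c67_loops : List W := [.l 1]

theorem c67_mems {G : Type*} [Group G] {γ : ℕ → G} (hL : Lab γ ivA) (hr : ∀ t ∈ rn66, t.ev γ = 1) {K : Subgroup G}
    (hK : ∀ t ∈ ([] : List W), t.ev γ ∈ K) :
    ∀ t ∈ c67_loops, t.ev γ ∈ K :=
  List.forall_mem_cons.2 ⟨c67_mem0 hL hr hK,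
    fun _ h => absurd h List.not_mem_nil⟩

theorem tn66 {γ : ℕ → G} (S : T.Wk D o γ ivA 4096) (F : Fo D) (R : Ps D) (h : Al γ rn66) : T.Fin D :=
  (S.dead F (Al.bot (c67_mems S.lab h (nil_bot γ)))).elim

def rn68 : List W := List.map (sb (.pow (.mul (.l 16) (.l 17)) 2)) [.mul (.l 30) (.inv (.l 1))] ++ rn56

def c69_F : Tr := .leaf (nat_lit 0x8008000000100201a02704384584204204784784504604551e4c60c30c352648e83d82600e01d51a4818c58c329a2c302602f01b00104404309a09a01a01c2a62c592f91c2c329c5164c34af53103103c03003e2c22bd04103d2c12c29149414be53203203703803303a03983d82f53c4af02f03b5374be4a153d50e4bc2b32ba49d52648f5252b82b993790e90b93818a1b40b20b38aa8b112512f49a52a52448b6946a92942a81241260a40a590292411711c80682109a09c28c29f28e29e10e11d10111b60261948d51709209650849548651428b29318919110b10f08b08e08808c80080b9009088808865004838478465464bf8c58c42c429a5434a08c28a86c16c094092953f49e83e83c83d83b53c4bb53b48e83a81f8b98930b80b71371361b61b593593483481183380c8328088318308b08951af1ae22e22d32d32c62c62b92b9190aa0838298228288272a728292691a9259176a46a39239226a26828a188e52049689f89681e81681d81b51c48149b51a11a10251949861860009708229628181580381480281381229228071171019018080f80d80e80110d10090c90170b70a80a809709700688687907904686685885884684680503482502480081080000000)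
def c69_T : Tr := .leaf (nat_lit 0x8f1a2c4870a0c07ef9ebc76e9cb86ed9ab466c98b05eb96ac56a94a84e992a446890a03e78e9c3668c982e58a9426488901e3868c16284880e182840608080)
def c69_P : Tr := .node (.node (.leaf (nat_lit 0x3427c2a00014664c9940001cc4601515401800bc5c2d160acab5d2f003038a8061a8020a25c0aba0041129110520001e50270a40002c98345d000031285cba00005241188800406380106d500042a420e009240080038560d8008507c2c0c802060f0581d0000b1d2b43a00010361a0100600c2a32180140105c5c040d8020a0b00425000121524528008222802248010404c244b000058884013000090f0692c000101c012580001c30024a000028582812002040803810004060c05020008080c0400013))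
  (.leaf (nat_lit 0xff800ff800ff800ff800ff800ff800ff800ff800ff800ff800ff800ff800ff800ff800ff800ffcb004000331595812008d221292740112c72272642142000024922000469141632f78000b90a3c0011a0b1a5847a00859187e0001388c222000025166c00018c39ce0008c3a860760091a1a360003185a2c00126168800025)))
  (.leaf (nat_lit 0x40a0e4d8024c1cc1c6f004690083a26008960cb50001981bf196c78000d452209a00818b925b2000818702d7f0000b2188000026fa720001a1f5f26380246771914861806107abc800095beb7513c20184508c1780020620900c30020376380000d0e2ea66c010cb69d0d580225390994c3f3ac0200388f60008ce23c800189d9369c6b32200854f8dd69802089e8ec43004103c1d80004ce8b33380005afd889a570020aaf5889c0041439285a0008189b681c000814e06e361a99e1700a01))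
def c69_N_0 : Tr := .node (.node (.node (.node (.leaf (nat_lit 1622576))
  (.leaf (nat_lit 462)))
  (.leaf (nat_lit 3075)))
  (.node (.leaf (nat_lit 567817))
  (.leaf (nat_lit 329))))
  (.node (.node (.node (.leaf (nat_lit 526850))
  (.leaf (nat_lit 561)))
  (.leaf (nat_lit 198)))
  (.node (.leaf (nat_lit 33))
  (.leaf (nat_lit 11275))))
def c69_N_1 : Tr := .node (.node (.node (.node (.leaf (nat_lit 539150))
  (.leaf (nat_lit 15375)))
  (.leaf (nat_lit 165)))
  (.node (.leaf (nat_lit 75817))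
  (.leaf (nat_lit 298))))
  (.node (.node (.node (.leaf (nat_lit 595493))
  (.leaf (nat_lit 594)))
  (.leaf (nat_lit 8199)))
  (.node (.leaf (nat_lit 66))
  (.leaf (nat_lit 429))))
def c69_N_2 : Tr := .node (.node (.node (.node (.leaf (nat_lit 570925))
  (.leaf (nat_lit 495)))
  (.leaf (nat_lit 132)))
  (.node (.leaf (nat_lit 165025))
  (.leaf (nat_lit 10249))))
  (.node (.node (.node (.leaf (nat_lit 527875))
  (.leaf (nat_lit 17425)))
  (.leaf (nat_lit 263)))
  (.node (.leaf (nat_lit 1025))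
  (.leaf (nat_lit 396))))
def c69_N_3 : Tr := .node (.node (.node (.node (.leaf (nat_lit 592450))
  (.leaf (nat_lit 528)))
  (.leaf (nat_lit 5125)))
  (.node (.leaf (nat_lit 300325))
  (.leaf (nat_lit 363))))
  (.node (.node (.node (.leaf (nat_lit 19827821589068))
  (.leaf (nat_lit 0)))
  (.leaf (nat_lit 232)))
  (.node (.leaf (nat_lit 99))
  (.leaf (nat_lit 13325))))
def c69_N_4 : Tr := .node (.node (.node (.node (.leaf (nat_lit 15637483075))
  (.leaf (nat_lit 14350)))
  (.leaf (nat_lit 132)))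
  (.node (.leaf (nat_lit 599562))
  (.leaf (nat_lit 329))))
  (.node (.node (.node (.leaf (nat_lit 462275))
  (.leaf (nat_lit 561)))
  (.leaf (nat_lit 6150)))
  (.node (.leaf (nat_lit 33))
  (.leaf (nat_lit 396))))
def c69_N_5 : Tr := .node (.node (.node (.node (.leaf (nat_lit 591425))
  (.leaf (nat_lit 528)))
  (.leaf (nat_lit 165)))
  (.node (.leaf (nat_lit 1124425))
  (.leaf (nat_lit 9226))))
  (.node (.node (.node (.leaf (nat_lit 600617))
  (.leaf (nat_lit 18450)))
  (.leaf (nat_lit 232)))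
  (.node (.leaf (nat_lit 2050))
  (.leaf (nat_lit 429))))
def c69_N_6 : Tr := .node (.node (.node (.node (.leaf (nat_lit 603725))
  (.leaf (nat_lit 495)))
  (.leaf (nat_lit 4100)))
  (.node (.leaf (nat_lit 9513))
  (.leaf (nat_lit 298))))
  (.node (.node (.node (.leaf (nat_lit 529925))
  (.leaf (nat_lit 594)))
  (.leaf (nat_lit 263)))
  (.node (.leaf (nat_lit 66))
  (.leaf (nat_lit 12300))))
def c69_N_7 : Tr := .node (.node (.node (.node (.leaf (nat_lit 525825))
  (.leaf (nat_lit 16400)))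
  (.leaf (nat_lit 198)))
  (.node (.leaf (nat_lit 340268))
  (.leaf (nat_lit 363))))
  (.node (.node (.node (.leaf (nat_lit 538125))
  (.leaf (nat_lit 0)))
  (.leaf (nat_lit 7176)))
  (.node (.leaf (nat_lit 99))
  (.leaf (nat_lit 462))))
def c69_N : Tr := .node (.node (.node c69_N_0
  c69_N_1)
  (.node c69_N_2
  c69_N_3))
  (.node (.node c69_N_4
  c69_N_5)
  (.node c69_N_6
  c69_N_7))
noncomputable def c69 : TC :=
  ⟨[.l 0, .l 1, .l 2, .l 3, .l 4, .l 5, .l 6, .l 7, .l 8, .l 9, .l 10, .l 11, .l 12, .l 13, .l 14, .l 15, .l 16, .l 17, .l 18],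
    (nat_lit 7), (nat_lit 9), (nat_lit 0x4a307b9ac5a547418a418820), (nat_lit 1), (nat_lit 72), (nat_lit 0), (nat_lit 32), (nat_lit 3), (nat_lit 80),
    get (nat_lit 10) (nat_lit 0x1003010030080400c02010030080400c02010030080400c02010030080400c02010030080400c02010030080400c02010030080400c02010030080400c02010030080400c02010040140400c04010040100901004010040100401004010040100401c05), Tr.get c69_N, get (nat_lit 20) (nat_lit 0x3ff003ff003ff003ff003ff003ff003ff003ff003ff003ff003ff003ff003ff003ff003ff003ff003ff003ff003ff003ff003ff003ff003ff003ff003ff003ff003ff003ff003ff003ff003ff003ff003ff003ff003ff003ff003ff003ff003ff003ff003ff003ff003ff003ff003ff003ff003ff003ff003ff003ff003ff003ff003ff003ff003ff003ff00059000510004d0004c0004b0003800033000320002800026000220001e0001d000180001700014000110000d0000c0000800007000060000200000),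
    Tr.get3 c69_F (nat_lit 24) (nat_lit 5), Tr.get3 c69_T (nat_lit 7) (nat_lit 7), Tr.get c69_P⟩

theorem c69_head : c69.headOK rn68 ivA = true := by decide +kernel

theorem c69_b0 : allFrom (nat_lit 0) (nat_lit 3) c69.blockOK = true := by decide +kernel

theorem c69_blocks : ∀ t < c69.k, c69.blockOK t = true :=
  (of_allFrom_append of_lt_zero c69_b0)

theorem c69_mem0 {G : Type*} [Group G] {γ : ℕ → G} (hL : Lab γ ivA) (hr : ∀ t ∈ rn68, t.ev γ = 1) {K : Subgroup G}
    (hK : ∀ t ∈ ([] : List W), t.ev γ ∈ K) :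
    W.ev γ (.l 1) ∈ K :=
  TC.mem (D := c69) hL (List.forall_mem_cons.2 ⟨hL.zero_mem K, hK⟩) hr c69_head c69_blocks
    (n := (nat_lit 1)) (w := (nat_lit 1)) (st := (nat_lit 302)) (by decide +kernel) (by decide +kernel)

def c69_loops : List W := [.l 1]

theorem c69_mems {G : Type*} [Group G] {γ : ℕ → G} (hL : Lab γ ivA) (hr : ∀ t ∈ rn68, t.ev γ = 1) {K : Subgroup G}
    (hK : ∀ t ∈ ([] : List W), t.ev γ ∈ K) :
    ∀ t ∈ c69_loops, t.ev γ ∈ K :=
  List.forall_mem_cons.2 ⟨c69_mem0 hL hr hK,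
    fun _ h => absurd h List.not_mem_nil⟩

theorem tn68 {γ : ℕ → G} (S : T.Wk D o γ ivA 4096) (F : Fo D) (R : Ps D) (h : Al γ rn68) : T.Fin D :=
  (S.dead F (Al.bot (c69_mems S.lab h (nil_bot γ)))).elim

def rn70 : List W := List.map (sb (.pow (.mul (.l 16) (.l 17)) 2)) [.mul (.l 30) (.inv (.mul (.l 1) (.l 2)))] ++ rn56

def c71_F : Tr := .leaf (nat_lit 0x1102240d8090100280f01c1462962f465098124100090320740580e03e08a0c4248c31902886384308a2cc608af17c2705d8350722a45a0961642b05812c25c4288300c00e0ac058a715608c1481f04a4549091b23e22c4f2ca5415224f2c653d5124e5429343004c53e92caf14a8bb124ae148136220ad1479332154c24552e9114b24312a208aa141126204290412a25004808009e1022744d09a1262644b917210450899132020440790f2044308508a1122244080700a2144180300000000)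
def c71_T : Tr := .leaf (nat_lit 0x9648e28607de75c6da6585d65544d24503ce34c2ca2481c61440c2040)
def c71_P : Tr := .leaf (nat_lit 0x893600013158737802133d84388021c676555708281806004a201f470040c4a513d002087d40000103b7b6c802406979628021045773e8022b6f7275615e6a80600484d310020a484f4300209461e230000b441c430020a401862002013e162f002093a1b1d0000138103500207340e2900208320a1700002305c2d0020d2e0b5c2d0020e5b0c00013062b580d800054c52242756004002a0427002062802230020724021f00204201315002031e131b002021e090b00201)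
def c71_N_0 : Tr := .node (.node (.node (.node (.leaf (nat_lit 36225584))
  (.leaf (nat_lit 561)))
  (.leaf (nat_lit 6150)))
  (.node (.leaf (nat_lit 33))
  (.leaf (nat_lit 396))))
  (.node (.node (.leaf (nat_lit 595493))
  (.leaf (nat_lit 329)))
  (.node (.leaf (nat_lit 132))
  (.leaf (nat_lit 14350))))
def c71_N_1 : Tr := .node (.node (.node (.node (.leaf (nat_lit 525825))
  (.leaf (nat_lit 18450)))
  (.leaf (nat_lit 232)))
  (.node (.leaf (nat_lit 2050))
  (.leaf (nat_lit 429))))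
  (.node (.node (.leaf (nat_lit 1214626))
  (.leaf (nat_lit 9226)))
  (.node (.leaf (nat_lit 165))
  (.leaf (nat_lit 528))))
def c71_N_2 : Tr := .node (.node (.node (.node (.leaf (nat_lit 591425))
  (.leaf (nat_lit 594)))
  (.leaf (nat_lit 263)))
  (.node (.leaf (nat_lit 66))
  (.leaf (nat_lit 12300))))
  (.node (.node (.leaf (nat_lit 567817))
  (.leaf (nat_lit 298)))
  (.node (.leaf (nat_lit 4100))
  (.leaf (nat_lit 495))))
def c71_N_3 : Tr := .node (.node (.node (.node (.leaf (nat_lit 559650))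
  (.leaf (nat_lit 0)))
  (.leaf (nat_lit 7176)))
  (.node (.leaf (nat_lit 99))
  (.leaf (nat_lit 462))))
  (.node (.node (.leaf (nat_lit 1124425))
  (.leaf (nat_lit 363)))
  (.node (.leaf (nat_lit 198))
  (.leaf (nat_lit 16400))))
def c71_N_4 : Tr := .node (.node (.node (.node (.leaf (nat_lit 558625))
  (.leaf (nat_lit 17425)))
  (.leaf (nat_lit 263)))
  (.node (.leaf (nat_lit 1025))
  (.leaf (nat_lit 396))))
  (.node (.node (.leaf (nat_lit 600617))
  (.leaf (nat_lit 10249)))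
  (.node (.leaf (nat_lit 132))
  (.leaf (nat_lit 495))))
def c71_N_5 : Tr := .node (.node (.node (.node (.leaf (nat_lit 526850))
  (.leaf (nat_lit 0)))
  (.leaf (nat_lit 232)))
  (.node (.leaf (nat_lit 99))
  (.leaf (nat_lit 13325))))
  (.node (.node (.leaf (nat_lit 75817))
  (.leaf (nat_lit 363)))
  (.node (.leaf (nat_lit 5125))
  (.leaf (nat_lit 528))))
def c71_N_6 : Tr := .node (.node (.node (.node (.leaf (nat_lit 592450))
  (.leaf (nat_lit 594)))
  (.leaf (nat_lit 8199)))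
  (.node (.leaf (nat_lit 66))
  (.leaf (nat_lit 429))))
  (.node (.node (.leaf (nat_lit 165025))
  (.leaf (nat_lit 298)))
  (.node (.leaf (nat_lit 165))
  (.leaf (nat_lit 15375))))
def c71_N : Tr := .node (.node (.node c71_N_0
  c71_N_1)
  (.node c71_N_2
  c71_N_3))
  (.node (.node c71_N_4
  c71_N_5)
  (.node c71_N_6
  (.node (.node (.node (.leaf (nat_lit 529925))
  (.leaf (nat_lit 329)))
  (.node (.leaf (nat_lit 3075))
  (.leaf (nat_lit 462))))
  (.node (.node (.leaf (nat_lit 33))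
  (.leaf (nat_lit 11275)))
  (.node (.leaf (nat_lit 198))
  (.leaf (nat_lit 561)))))))
noncomputable def c71 : TC :=
  ⟨[.l 0, .l 1, .l 2, .l 3, .l 4, .l 5, .l 6, .l 7, .l 8, .l 9, .l 10, .l 11, .l 12, .l 13, .l 14, .l 15, .l 16, .l 17, .l 18],
    (nat_lit 6), (nat_lit 8), (nat_lit 0x4a307b9ac5a547418a418820), (nat_lit 1), (nat_lit 38), (nat_lit 0), (nat_lit 32), (nat_lit 1), (nat_lit 71),
    get (nat_lit 10) (nat_lit 0x400c0400c02010030080400c02010030080400c02010030080400c02010030080400c02010030080400c02010030080400c02010030080400c02010030080400c02010030080501005010040100401004010040100401006), Tr.get c71_N, get (nat_lit 20) (nat_lit 0x3ff003ff003ff003ff003ff003ff003ff003ff003ff003ff003ff003ff003ff003ff003ff003ff003ff003ff003ff003ff003ff003ff003ff003ff003ff003ff003ff003ff003ff003ff003ff003ff003ff003ff003ff003ff003ff003ff003ff003ff003ff003ff003ff003ff003ff003ff003ff003ff003ff003ff003ff003ff003ff003ff003ff003ff0004d0004c0003d0003800032000220001e0001d0001500014000110000d0000c0000b00000),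
    Tr.get3 c71_F (nat_lit 22) (nat_lit 5), Tr.get3 c71_T (nat_lit 6) (nat_lit 7), Tr.get c71_P⟩

theorem c71_head : c71.headOK rn70 ivA = true := by decide +kernel

theorem c71_b0 : allFrom (nat_lit 0) (nat_lit 1) c71.blockOK = true := by decide +kernel

theorem c71_blocks : ∀ t < c71.k, c71.blockOK t = true :=
  (of_allFrom_append of_lt_zero c71_b0)

theorem c71_mem0 {G : Type*} [Group G] {γ : ℕ → G} (hL : Lab γ ivA) (hr : ∀ t ∈ rn70, t.ev γ = 1) {K : Subgroup G}
    (hK : ∀ t ∈ ([] : List W), t.ev γ ∈ K) :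
    W.ev γ (.mul (.mul (.mul (.mul (.mul (.l 16) (.l 17)) (.l 16)) (.l 2)) (.l 1)) (.l 17)) ∈ K :=
  TC.mem (D := c71) hL (List.forall_mem_cons.2 ⟨hL.zero_mem K, hK⟩) hr c71_head c71_blocks
    (n := (nat_lit 6)) (w := (nat_lit 571556400)) (st := (nat_lit 9944393188354)) (by decide +kernel) (by decide +kernel)

theorem c71_mem1 {G : Type*} [Group G] {γ : ℕ → G} (hL : Lab γ ivA) (hr : ∀ t ∈ rn70, t.ev γ = 1) {K : Subgroup G}
    (hK : ∀ t ∈ ([] : List W), t.ev γ ∈ K) :
    W.ev γ (.mul (.mul (.mul (.mul (.l 16) (.l 18)) (.l 16)) (.l 2)) (.l 18)) ∈ K :=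
  TC.mem (D := c71) hL (List.forall_mem_cons.2 ⟨hL.zero_mem K, hK⟩) hr c71_head c71_blocks
    (n := (nat_lit 5)) (w := (nat_lit 18956880)) (st := (nat_lit 83937463810)) (by decide +kernel) (by decide +kernel)

theorem c71_mem2 {G : Type*} [Group G] {γ : ℕ → G} (hL : Lab γ ivA) (hr : ∀ t ∈ rn70, t.ev γ = 1) {K : Subgroup G}
    (hK : ∀ t ∈ ([] : List W), t.ev γ ∈ K) :
    W.ev γ (.mul (.mul (.mul (.mul (.l 17) (.l 18)) (.l 17)) (.l 1)) (.l 18)) ∈ K :=
  TC.mem (D := c71) hL (List.forall_mem_cons.2 ⟨hL.zero_mem K, hK⟩) hr c71_head c71_blocks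
    (n := (nat_lit 5)) (w := (nat_lit 18925137)) (st := (nat_lit 83736663560)) (by decide +kernel) (by decide +kernel)

def c71_loops : List W := [.mul (.mul (.mul (.mul (.mul (.l 16) (.l 17)) (.l 16)) (.l 2)) (.l 1)) (.l 17), .mul (.mul (.mul (.mul (.l 16) (.l 18)) (.l 16)) (.l 2)) (.l 18), .mul (.mul (.mul (.mul (.l 17) (.l 18)) (.l 17)) (.l 1)) (.l 18)]

theorem c71_mems {G : Type*} [Group G] {γ : ℕ → G} (hL : Lab γ ivA) (hr : ∀ t ∈ rn70, t.ev γ = 1) {K : Subgroup G}
    (hK : ∀ t ∈ ([] : List W), t.ev γ ∈ K) :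
    ∀ t ∈ c71_loops, t.ev γ ∈ K :=
  List.forall_mem_cons.2 ⟨c71_mem0 hL hr hK,
    List.forall_mem_cons.2 ⟨c71_mem1 hL hr hK,
    List.forall_mem_cons.2 ⟨c71_mem2 hL hr hK,
    fun _ h => absurd h List.not_mem_nil⟩⟩⟩

def rn72 : List W := [.mul (.mul (.mul (.mul (.mul (.l 16) (.l 17)) (.l 16)) (.l 2)) (.l 1)) (.l 17), .mul (.mul (.mul (.mul (.l 16) (.l 18)) (.l 16)) (.l 2)) (.l 18), .mul (.mul (.mul (.mul (.l 17) (.l 18)) (.l 17)) (.l 1)) (.l 18)] ++ rn70

def c73_F : Tr := .node (.leaf (nat_lit 0x1ac0b702d006a0208104940e47e12ac50c1b9470c39e110b140050a4424f0829ccb098c1e2fe2294907940a50464059038b7a2ff73fdce173f5cde8b862fd93f24de23748fc73f1cfb23708fb83ea0f523dc8fa23e486093ae4f973e5cf893aa4f88bde2f883da0f742dcef533bccf48bbe2f392064f2917244f017404f01700ec016c0bf28a8a5a0a1825a01680bb01640b60a0425802cc058215c8b162c58f173c5ccb11d84f06bb9a763bb50ee6bb5a7229d0aed8afe2ec73adcea913243f013403f01300d7012c0d301280d21ae064911244d1133c44893a24cf1ba06b112c44e973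a5ccd61f18e90b382e91b9c6ce63998e71ab86e6219c8e52b90a673b8d0e4119847121108666995ae123888658b7e2e2238086493764e07381cdf93724df11bc4de7375cdc2104863018c0da4184edb8b562d91b046d97361cc138f102e00f402e183463c00f008c90fe4d71b5c6c28b4e2d71b006d67359cbd6b55ad6834a0d3633d8d1933a4d062b98ce632d8cd12bc4cd12b84cc8b2a2cb23288553b250ca2b24a5419d06c983220c92b20a5393164c86af5a3a1af063968e5ab910e04b86ad5a3868dda8069f5a3610d847f12b443510d04ac1aa863318c86a8129c4c71b186a793124c62948ac519046c40a2c2c393064c38b022c20a242bf82ee0bf0a202be82e60bd42e0ebc42d8ebb0a182bb0a142ba42d4eb962d18b762cd8b662c98b50a082b40a042b30a002b272c5caf6ac1ab161e98af09fc2af09f02ae72b9cad61fd8ad09e82ad8ab22ad3aa90ac09dc2ab82a20aa09d02aa8a9e2a909bc2a609082a48a7e2a2606989d8a6e29c626989b8a562993a4d0974248e1582420918a3e290923a48f610588e403ce8d40b8e8c10fc48c1a2c63f922648a893e28a4210e866205884602988389fa28291f648061e587e191867c71f1c7a69eda7c91de47939c907619d464539c107541cce05217c84f28c0a512834a4f1010444100c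44310084421104401180463038b501f083422d083022c082c22b082822a08242290820228081c227081822608142250810224080c2230808222080422160058118c8a2a0648589f148049a2c7ca992c78a9814744962c70a952c6ca94646988f3464c8f946248d1c5c688245888784560856c51a851c4c6858c4a2842c44a848442083243c8838c3a28164358762c30a75642d87364298713c250714420e711c1c66f241886c0c1426c0c1026a8c0e2690c082693404c6764018667bfde651bf86656bf5a647bf1e636beda638bea2607be5e5c6be1a5c6bdda5b6bd9a5a23d485a8bd225733ccc570bc825723c48566bc1a5563bd85513b84551bb465493b244f7bade4f6ba9a4f1ba464713a04470b9c2470b982462b94a4523908452b8ca446b89a4323848437b81e426b7da4223788427b75e416b71a412b6ca4123688417365c3b1b6063b135c43b7b59e3a7355c3a235083a134c43a13484391b446387341c371b3c6377339c360b342367331c350b2c2350b282340b242330b202321b1c63113184318b162301310430130c42d7309c2c130442c7301c2b2afca2b22f882b1af462b6af1a2a2aeca2a22e882a1ae462a6ae1a292adca2922d882912d44292ad0a2822cc82812c84287ac5e2772c1c276abda277ab9e266ab5a266ab1a2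52aaca256aa9a2472a5c236aa1a23729dc2222988221a946221290422628d81c3288c1c6a85a1b628181b327cc1b227881a3a750182a70a182a6ca172a68a1612644160a60216625d8152a58a1512544150a50215624d8143a4901412444141240413123c4121238411623580d1a3060d122c40d2a28a0c2a24a0b222080b1a1c60b2a18a0a221480a22108093a0d0082a08a082204808120040869fda0729f8a0711f440779f1e0671edc0669e9a0629e4a0661e180529dca0521d880511d440569d1a0439cd00429c8a0421c480419c060421bc80289ba26d81b606c39b106b61ad86a91aa46961a586889a2267419ce66819a06589962649192463398d0622988a612184840918245f397d05e2978a0e917645c897225b816e05a396905961658589162457615d856895a2554154e548152053894e252914a4513945050214082f393d04e213880e913644c893224b812e04a392904961258489122447611d846891a2454114e448112043890e242910a4413905040190062f38fd03e18f860e40f4e3c90f243b88ee23a80ea03938e503860e183790de43660d983588d623440d0e3380ce03288ca23190c643038c102f10bc40010b840e90b642c88b222b80ae02a38a902960a582890a2427609d826889a2254094e248092023888e222908a42138850200880200087c20e4078e1d907641c887221b806e01a386901960658189062417605d816885a2154054e148052013884e212904a41138450106041800603d80e4038e0d903640c883220b802e00a382900960258089022407601d806881a2054014e048012003880e202900a40138050000000000))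
  (.leaf (nat_lit 0x387500f007800f007408d00701182364922328cd228a8e3213280d2120e88a002800d4628591624408a120688830278083043c01a027408504440180270084026c1123268d0e0c7c320147851f947251f0a6831e6bbdb1c63c191d0c7031d146c51c0a5831b61d989604340962c2ca9262499094424e970420097024c071005010a024410063f9890641d919341cd1a0c583176b51b171af87166a21b151b507158452088844e0d422e49133a15111621d910621590f93d250e21e090d2c14a85221890589b626001b806021b085a01b40fa041805a01b00f5))
def c73_T : Tr := .leaf (nat_lit 0x48a43208fc7a3b1c8dc6a33188bc5a2b1489c4a231087c3a1b0c85c2a130883c1a0b0481c0a03007fbf9fafc7dbe9f2f87bbd9eaf479bc9e2f077bb9daec75ba9d2e873b99cae471b89c2e06fb79badc6db69b2d86bb59aad469b49a2d067b399acc65b2992c863b198ac461b0982c05faf97abc5dae972b85bad96ab459ac962b057ab95aac55aa952a853a994aa451a8942a04fa793a9c4da6932984ba592a9449a49229047a391a8c45a29128843a190a8441a0902803f9f8fa7c3d9e8f2783b9d8ea74399c8e270379b8da6c359a8d26833998ca6431988c2602f978ba5c2d968b2582b958aa5429948a250279389a4c259289248239188a442190882401f8f87a3c1d8e872381b8d86a34198c86230178b85a2c158a85228138984a241188842200f8783a1c0d86832180b8582a14098482210078381a0c058281208038180a04018080200)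
def c73_P : Tr := .node (.node (.node (.node (.leaf (nat_lit 0x3f0070f30003a4fe3d8060eb4f0234000047a0f9002251f03dc000947900c1de00c323b0050e5004341149b470a76002331d4028708021900a1ce000609bc0e8bd17e0106a288500610063413c2700e0031a0884d6024000404326900e0002221133005000094c818040883008330c0178018031903e038980010c42d25f036000101612e819000070ac96c0b800068544b2054018c4292570260046c1412a8110000809c94c078011b04c4a20340001c2524f01600462121268090000d08c92c0380003844492014000202104000600c62088100030003c))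
  (.leaf (nat_lit 0x1ff001ff001ff001ff001ff8f20f00014d4d47707b004a08c63a83b802714604680d25e306d323947128d0083c912359ab69c0082e9123646f0001a484ac0a21470021d4844f8a08011dc683500008f09a14c6728450600891164168c8000725081b4624420002d1849e00023a1f8bc4f60091d5745c829004bf0622d13b8025327316111c01252258aeab2009b91228d43b155554020ec1378312a2745248000806902264500002647c4c898a3d0042c47caa51c8030ca3c2604d4000a6234493c077c000911d4417400006e8ea2144400026)))
  (.leaf (nat_lit 0x240e8b820000933c68598b786fee0400809bf1d23a200454ded402cc5a200c36cad66a816f40103674847282000383a473dbb00013b2f6e4dd0008e0e708e39a0006c731412c800227394725b7000178ce6d271db60011a9c811471c010d07126c6d000056331b29c41120082c708e2b6400021194d85ae36200417388218df801020c86aa6e5abb5e0040a6b8d6dab801031be3820044a6f8421b9002053789a46f800159b83760044ad48da000239b436ed44628c78003536c208618001a1b20ec6ac00880d91b169400026bc97a9166881e0d8806013470f4000a6a61a187b80250)))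
  (.node (.leaf (nat_lit 0x57ec083480119066600ae800050a815356ebf8c70650000131c6357e0001514e08892533af65f40000463031189002093149c0528020c9884ca99c008a8c326122e0004c6182d18300209308160c08011017e4ba44c000a4bf0562ee004305f12e911000282f4158b98010a1780a85c40188cbb0542da000685d92d90d000292e896c85800141720a85ac000c8b70522d2000745b029167000392d4148b28001b9684ae414000a4b3257206000505912b901000262bc58c00894b1161000252bc954070f5002242bc9547f80005ac6586a0400030ad15d00225))
  (.leaf (nat_lit 0x3d280236e009acf5c0141b0048ef0dff8d9802535baff06bc012fa097f6b5a008f9f3a0440efe144400002854faaf1fb3f56e280df20010f2181d4940ab802162184f072c000b90b2741e200c78851b5a010023742084c000c1090e21ce00c687f1b33e17c6d650780100a0e568530a580116a081a881400821030d21a080c01075f03dc7bc00440d9cff80112bdb7b2d79b01fb0080a3f432db3001021bc108d50fbbd70060a7acf55ab8000a9f63f20044a7d9aa9b9002213d47b5e23d0002163e8f3de53c7004171809c8eab9579800814f29e4b95002063e07cc00894f83ba3aa0040a7c05c1ef00204))))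
  (.node (.node (.leaf (nat_lit 0x15a4a603c7f8011215a4a63d40002cad04c2b20040856025155002232ac94477800149540905440087caa24f1d2000165482314f0022029892c6f800141484969a000098a203827e004344e8198350003c2700c09b8010c93605c4d4000e89902c256004224b8151270063c054494000c091028242004204801311f0021123c0908e8010491c48e99c000dc8d01d03e004784600e85d0003223045d4a0001507e0f80708b8031991403044c018648a01b4dc004324300a10900034210048818001c906026054000f0820101fa00432400080fb00209))
  (.leaf (nat_lit 0x3dc2d8f68010f9ea766150b78001a9e83ceefc00068f30ae15877c02074f20b175600410ee45d000389d976e2ee009c5cbbb5173004dcbb5d78b78026b75c5d800129d72e30003e5caeb45ac0129adb7502ce0097dd4ad50003e160e99679600a259e01029d21e215e00472e899637d6fe00836c9d920ad3c60102e780eeb9e0000e4f6e6dce000119dc15476c010c8720e97300004476990b1f0022e3b0a4149aee004003a875c00895c889a00071680e3c4dc0138b3d71a266009b99ab8b12f004d66918aae7710256000cdc31a262000454ccdc209300237)))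
  (.node (.leaf (nat_lit 0xd088c000222976806b83cc0104b3e30816d3091752800404bc59d3373541dcd7802009ae0ec69c008459c17a30200026c58d6801129ac3560004a6983a1a5002103441c0cf8001c1a00dc67400818ce06c332ca40106ccd06c32e0006c669842ca00226330c1d63800079960d46540081c55321644004686503419300431150c6d8e0000c192606ae40089cc90663220041a2997c318004193201903118b008000e8c49740000fb122e45e4000496fb0e0e6008465c0b5b0e0000e0e0c31692d80042450ec283780002b081fc3ec00839623060da0046e1a9822c000011))
  (.leaf (nat_lit 0x11c12a2528dc010b11b12825a000530fd0d0002f92c54b0f5f9c1080835874fb50b8011d43825ca94010f21bbef0005054f0d108c012821586649e0097df8c3124500482800661fd85ca8a0087150a3385afa80007519235856000768d14fa9d10aac8a414b7d000c3c8b9754240002745d08a108010922c21c970be80216a2a4530780007d15227838000284400b10b45200c2c6a18bae98340042c899701742e60045a8894740c81c0086a8814581721e008388794590b00039438ef0f21e9002004343b0788011c90a21b030008bd05406762004510246e000371f580a376009ba01a0c00047))))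
def c73_N_0 : Tr := .node (.node (.node (.node (.leaf (nat_lit 18925137))
  (.leaf (nat_lit 66)))
  (.node (.leaf (nat_lit 571950))
  (.leaf (nat_lit 12300))))
  (.node (.node (.leaf (nat_lit 526850))
  (.leaf (nat_lit 263)))
  (.node (.leaf (nat_lit 7399))
  (.leaf (nat_lit 594)))))
  (.node (.node (.node (.leaf (nat_lit 591425))
  (.leaf (nat_lit 4100)))
  (.node (.leaf (nat_lit 132225))
  (.leaf (nat_lit 495))))
  (.node (.node (.leaf (nat_lit 529925))
  (.leaf (nat_lit 298)))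
  (.leaf (nat_lit 110700))))
def c73_N_1 : Tr := .node (.node (.node (.node (.leaf (nat_lit 570925))
  (.leaf (nat_lit 99)))
  (.node (.leaf (nat_lit 1455501))
  (.leaf (nat_lit 462))))
  (.node (.node (.leaf (nat_lit 527875))
  (.leaf (nat_lit 7176)))
  (.node (.leaf (nat_lit 172167))
  (.leaf (nat_lit 0)))))
  (.node (.node (.node (.leaf (nat_lit 460225))
  (.leaf (nat_lit 198)))
  (.node (.leaf (nat_lit 1214626))
  (.leaf (nat_lit 16400))))
  (.node (.node (.leaf (nat_lit 16888332))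
  (.leaf (nat_lit 363)))
  (.leaf (nat_lit 274668))))
def c73_N_2 : Tr := .node (.node (.node (.node (.leaf (nat_lit 15637483075))
  (.leaf (nat_lit 2050)))
  (.node (.leaf (nat_lit 177325))
  (.leaf (nat_lit 429))))
  (.node (.node (.leaf (nat_lit 429475))
  (.leaf (nat_lit 232)))
  (.node (.leaf (nat_lit 106567))
  (.leaf (nat_lit 18450)))))
  (.node (.node (.node (.leaf (nat_lit 451482180))
  (.leaf (nat_lit 165)))
  (.node (.leaf (nat_lit 100450))
  (.leaf (nat_lit 528))))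
  (.node (.node (.leaf (nat_lit 563750))
  (.leaf (nat_lit 9226)))
  (.leaf (nat_lit 176300))))
def c73_N_3 : Tr := .node (.node (.node (.node (.leaf (nat_lit 604750))
  (.leaf (nat_lit 132)))
  (.node (.leaf (nat_lit 66625))
  (.leaf (nat_lit 14350))))
  (.node (.node (.leaf (nat_lit 14160388))
  (.leaf (nat_lit 329)))
  (.leaf (nat_lit 45100))))
  (.node (.node (.node (.leaf (nat_lit 428450))
  (.leaf (nat_lit 6150)))
  (.node (.leaf (nat_lit 167075))
  (.leaf (nat_lit 561))))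
  (.node (.node (.leaf (nat_lit 19827821589068))
  (.leaf (nat_lit 396)))
  (.leaf (nat_lit 33))))
def c73_N_4 : Tr := .node (.node (.node (.node (.leaf (nat_lit 14446300707))
  (.leaf (nat_lit 66)))
  (.node (.leaf (nat_lit 144525))
  (.leaf (nat_lit 429))))
  (.node (.node (.leaf (nat_lit 559650))
  (.leaf (nat_lit 8199)))
  (.node (.leaf (nat_lit 40999))
  (.leaf (nat_lit 594)))))
  (.node (.node (.node (.leaf (nat_lit 592450))
  (.leaf (nat_lit 165)))
  (.node (.leaf (nat_lit 165025))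
  (.leaf (nat_lit 15375))))
  (.node (.node (.leaf (nat_lit 595493))
  (.leaf (nat_lit 298)))
  (.leaf (nat_lit 143500))))
def c73_N_5 : Tr := .node (.node (.node (.node (.leaf (nat_lit 603725))
  (.leaf (nat_lit 3075)))
  (.node (.leaf (nat_lit 15821))
  (.leaf (nat_lit 462))))
  (.node (.node (.leaf (nat_lit 463300))
  (.leaf (nat_lit 329)))
  (.leaf (nat_lit 4366503))))
  (.node (.node (.node (.leaf (nat_lit 525825))
  (.leaf (nat_lit 198)))
  (.node (.leaf (nat_lit 1182851))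
  (.leaf (nat_lit 561))))
  (.node (.node (.leaf (nat_lit 18035244))
  (.leaf (nat_lit 11275)))
  (.leaf (nat_lit 33))))
def c73_N_6 : Tr := .node (.node (.node (.node (.leaf (nat_lit 14563744326))
  (.leaf (nat_lit 99)))
  (.node (.leaf (nat_lit 242957))
  (.leaf (nat_lit 13325))))
  (.node (.node (.leaf (nat_lit 462275))
  (.leaf (nat_lit 232)))
  (.node (.leaf (nat_lit 2203751))
  (.leaf (nat_lit 0)))))
  (.node (.node (.node (.leaf (nat_lit 427425))
  (.leaf (nat_lit 5125)))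
  (.node (.leaf (nat_lit 133250))
  (.leaf (nat_lit 528))))
  (.node (.node (.leaf (nat_lit 14758348))
  (.leaf (nat_lit 363)))
  (.leaf (nat_lit 209100))))
def c73_N_7 : Tr := .node (.node (.node (.node (.leaf (nat_lit 558625))
  (.leaf (nat_lit 132)))
  (.node (.leaf (nat_lit 99425))
  (.leaf (nat_lit 495))))
  (.node (.node (.leaf (nat_lit 15241764))
  (.leaf (nat_lit 10249)))
  (.leaf (nat_lit 77900))))
  (.node (.node (.node (.leaf (nat_lit 461250))
  (.leaf (nat_lit 263)))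
  (.node (.leaf (nat_lit 168100))
  (.leaf (nat_lit 17425))))
  (.node (.node (.leaf (nat_lit 538125))
  (.leaf (nat_lit 396)))
  (.leaf (nat_lit 1025))))
def c73_N : Tr := .node (.node (.node c73_N_0
  c73_N_1)
  (.node c73_N_2
  c73_N_3))
  (.node (.node c73_N_4
  c73_N_5)
  (.node c73_N_6
  c73_N_7))
noncomputable def c73 : TC :=
  ⟨[.l 0, .l 1, .l 2, .l 3, .l 4, .l 5, .l 6, .l 7, .l 8, .l 9, .l 10, .l 11, .l 12, .l 13, .l 14, .l 15, .l 16, .l 17, .l 18],
    (nat_lit 9), (nat_lit 11), (nat_lit 0x4a307b9ac5a547418a418820), (nat_lit 1), (nat_lit 291), (nat_lit 0), (nat_lit 32), (nat_lit 9), (nat_lit 117),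
    get (nat_lit 10) (nat_lit 0x400c0400c02010030080400c02010030080400c02010030080400c02010030080400c02010030080400c02010030080400c02010030080400c02010030080400c020100300804010040100401004014040140401003010040140501004010040100400c050100401004010090140501404010040140501004010040100401004010040100601004010040100401c0701c05), Tr.get c73_N, get (nat_lit 20) (nat_lit 0x3ff003ff003ff003ff003ff003ff003ff003ff003ff003ff003ff003ff003ff003ff003ff003ff003ff003ff003ff003ff003ff003ff003ff003ff003ff003ff003ff003ff003ff003ff003ff003ff003ff003ff003ff003ff003ff003ff003ff003ff003ff003ff003ff003ff003ff003ff003ff003ff003ff003ff003ff003ff003ff003ff003ff003ff0005b0005a00059000580005700056000550004c0004b0004a000490004800047000440004200041000400003e0003d0003b0003a00039000380003700031000300002e0002d0002c0002b000290002800027000260002300021000200001e0001d0001c0001b0001a000190001800017000160001500014000130001200011000100000f0000e0000c0000a0000900007000050000400002),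
    Tr.get3 c73_F (nat_lit 28) (nat_lit 5), Tr.get3 c73_T (nat_lit 9) (nat_lit 6), Tr.get c73_P⟩

theorem c73_head : c73.headOK rn72 ivA = true := by decide +kernel

theorem c73_b0 : allFrom (nat_lit 0) (nat_lit 9) c73.blockOK = true := by decide +kernel

theorem c73_blocks : ∀ t < c73.k, c73.blockOK t = true :=
  (of_allFrom_append of_lt_zero c73_b0)

theorem c73_mem0 {G : Type*} [Group G] {γ : ℕ → G} (hL : Lab γ ivA) (hr : ∀ t ∈ rn72, t.ev γ = 1) {K : Subgroup G}
    (hK : ∀ t ∈ ([] : List W), t.ev γ ∈ K) :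
    W.ev γ (.mul (.mul (.mul (.mul (.inv (.mul (.mul (.mul (.mul (.inv (.l 7)) (.l 16)) (.l 17)) (.l 18)) (.l 7))) (.mul (.mul (.mul (.l 17) (.l 12)) (.l 18)) (.l 12))) (.mul (.mul (.mul (.mul (.inv (.l 7)) (.l 16)) (.l 17)) (.l 18)) (.l 7))) (.l 12)) (.inv (.mul (.l 12) (.mul (.mul (.inv (.mul (.mul (.mul (.mul (.inv (.l 7)) (.l 16)) (.l 17)) (.l 18)) (.l 7))) (.mul (.mul (.mul (.l 17) (.l 12)) (.l 18)) (.l 12))) (.mul (.mul (.mul (.mul (.inv (.l 7)) (.l 16)) (.l 17)) (.l 18)) (.l 7)))))) ∈ K :=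
  TC.mem (D := c73) hL (List.forall_mem_cons.2 ⟨hL.zero_mem K, hK⟩) hr c73_head c73_blocks
    (n := (nat_lit 30)) (w := (nat_lit 0x187946088b24c3c232430f28c10c9322784648)) (st := (nat_lit 0x1082304a09c1482b05a0bc1883306a0dc1c83b8f40780e01a0300580a0120200380600a01001802002)) (by decide +kernel) (by decide +kernel)

theorem c73_mem1 {G : Type*} [Group G] {γ : ℕ → G} (hL : Lab γ ivA) (hr : ∀ t ∈ rn72, t.ev γ = 1) {K : Subgroup G}
    (hK : ∀ t ∈ ([] : List W), t.ev γ ∈ K) :
    W.ev γ (.mul (.mul (.mul (.mul (.inv (.mul (.mul (.mul (.mul (.inv (.l 7)) (.l 16)) (.l 17)) (.l 18)) (.l 7))) (.mul (.mul (.mul (.l 17) (.l 12)) (.l 18)) (.l 12))) (.mul (.mul (.mul (.mul (.inv (.l 7)) (.l 16)) (.l 17)) (.l 18)) (.l 7))) (.l 1)) (.inv (.mul (.l 1) (.mul (.mul (.inv (.mul (.mul (.mul (.mul (.inv (.l 7)) (.l 16)) (.l 17)) (.l 18)) (.l 7))) (.mul (.mul (.mul (.l 17) (.l 12)) (.l 18)) (.l 12))) (.mul (.mul (.mul (.mul (.inv (.l 7)) (.l 16)) (.l 17)) (.l 18)) (.l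 7)))))) ∈ K :=
  TC.mem (D := c73) hL (List.forall_mem_cons.2 ⟨hL.zero_mem K, hK⟩) hr c73_head c73_blocks
    (n := (nat_lit 30)) (w := (nat_lit 0x27946088b24c3c232404f28c10c9322784648)) (st := (nat_lit 0x2084308a11c2484b09a13c288530aa15c2c85b4c40f80e01a0300580a0120200380600a01001802002)) (by decide +kernel) (by decide +kernel)

theorem c73_mem2 {G : Type*} [Group G] {γ : ℕ → G} (hL : Lab γ ivA) (hr : ∀ t ∈ rn72, t.ev γ = 1) {K : Subgroup G}
    (hK : ∀ t ∈ ([] : List W), t.ev γ ∈ K) :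
    W.ev γ (.mul (.mul (.mul (.mul (.inv (.mul (.mul (.mul (.mul (.inv (.l 7)) (.l 16)) (.l 17)) (.l 18)) (.l 7))) (.mul (.mul (.mul (.l 17) (.l 12)) (.l 18)) (.l 12))) (.mul (.mul (.mul (.mul (.inv (.l 7)) (.l 16)) (.l 17)) (.l 18)) (.l 7))) (.l 2)) (.inv (.mul (.l 2) (.mul (.mul (.inv (.mul (.mul (.mul (.mul (.inv (.l 7)) (.l 16)) (.l 17)) (.l 18)) (.l 7))) (.mul (.mul (.mul (.l 17) (.l 12)) (.l 18)) (.l 12))) (.mul (.mul (.mul (.mul (.inv (.l 7)) (.l 16)) (.l 17)) (.l 18)) (.l 7)))))) ∈ K :=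
  TC.mem (D := c73) hL (List.forall_mem_cons.2 ⟨hL.zero_mem K, hK⟩) hr c73_head c73_blocks
    (n := (nat_lit 30)) (w := (nat_lit 0x47946088b24c3c232408f28c10c9322784648)) (st := (nat_lit 0x2f8610c6194338690d61b4378710e61d43b8796901700e01a0300580a0120200380600a01001802002)) (by decide +kernel) (by decide +kernel)

theorem c73_mem3 {G : Type*} [Group G] {γ : ℕ → G} (hL : Lab γ ivA) (hr : ∀ t ∈ rn72, t.ev γ = 1) {K : Subgroup G}
    (hK : ∀ t ∈ ([] : List W), t.ev γ ∈ K) :
    W.ev γ (.mul (.mul (.mul (.mul (.inv (.mul (.mul (.mul (.mul (.inv (.l 7)) (.l 16)) (.l 17)) (.l 18)) (.l 7))) (.mul (.mul (.mul (.l 17) (.l 12)) (.l 18)) (.l 12))) (.mul (.mul (.mul (.mul (.inv (.l 7)) (.l 16)) (.l 17)) (.l 18)) (.l 7))) (.l 3)) (.inv (.mul (.mul (.l 2) (.l 3)) (.mul (.mul (.inv (.mul (.mul (.mul (.mul (.inv (.l 7)) (.l 16)) (.l 17)) (.l 18)) (.l 7))) (.mul (.mul (.mul (.l 17) (.l 12)) (.l 18)) (.l 12))) (.mul (.mul (.mul (.mul (.inv (.l 7)) (.l 16)) (.l 17))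 (.l 18)) (.l 7)))))) ∈ K :=
  TC.mem (D := c73) hL (List.forall_mem_cons.2 ⟨hL.zero_mem K, hK⟩) hr c73_head c73_blocks
    (n := (nat_lit 31)) (w := (nat_lit 0x867946088b24c3c23240cf28c10c9322784648)) (st := (nat_lit 0x17c4088310a21c4488b11a23c4889312a25c4cb920fc1f00e01a0300580a0120200380600a01001802002)) (by decide +kernel) (by decide +kernel)

theorem c73_mem4 {G : Type*} [Group G] {γ : ℕ → G} (hL : Lab γ ivA) (hr : ∀ t ∈ rn72, t.ev γ = 1) {K : Subgroup G}
    (hK : ∀ t ∈ ([] : List W), t.ev γ ∈ K) :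
    W.ev γ (.mul (.mul (.mul (.mul (.inv (.mul (.mul (.mul (.mul (.inv (.l 7)) (.l 16)) (.l 17)) (.l 18)) (.l 7))) (.mul (.mul (.mul (.l 17) (.l 12)) (.l 18)) (.l 12))) (.mul (.mul (.mul (.mul (.inv (.l 7)) (.l 16)) (.l 17)) (.l 18)) (.l 7))) (.l 4)) (.inv (.mul (.mul (.l 2) (.l 4)) (.mul (.mul (.inv (.mul (.mul (.mul (.mul (.inv (.l 7)) (.l 16)) (.l 17)) (.l 18)) (.l 7))) (.mul (.mul (.mul (.l 17) (.l 12)) (.l 18)) (.l 12))) (.mul (.mul (.mul (.mul (.inv (.l 7)) (.l 16)) (.l 17)) (.l 18)) (.l 7)))))) ∈ K :=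
  TC.mem (D := c73) hL (List.forall_mem_cons.2 ⟨hL.zero_mem K, hK⟩) hr c73_head c73_blocks
    (n := (nat_lit 31)) (w := (nat_lit 0x887946088b24c3c232410f28c10c9322784648)) (st := (nat_lit 0x17c508a314a29c548ab15a2bc588b316a2dc5cbba13c2700e01a0300580a0120200380600a01001802002)) (by decide +kernel) (by decide +kernel)

theorem c73_mem5 {G : Type*} [Group G] {γ : ℕ → G} (hL : Lab γ ivA) (hr : ∀ t ∈ rn72, t.ev γ = 1) {K : Subgroup G}
    (hK : ∀ t ∈ ([] : List W), t.ev γ ∈ K) :
    W.ev γ (.mul (.mul (.mul (.mul (.inv (.mul (.mul (.mul (.mul (.inv (.l 7)) (.l 16)) (.l 17)) (.l 18)) (.l 7))) (.mul (.mul (.mul (.l 17) (.l 12)) (.l 18)) (.l 12))) (.mul (.mul (.mul (.mul (.inv (.l 7)) (.l 16)) (.l 17)) (.l 18)) (.l 7))) (.l 5)) (.inv (.mul (.mul (.mul (.mul (.l 2) (.l 3)) (.l 4)) (.l 5)) (.mul (.mul (.inv (.mul (.mul (.mul (.mul (.inv (.l 7)) (.l 16)) (.l 17)) (.l 18)) (.l 7))) (.mul (.mul (.mul (.l 17) (.l 12)) (.l 18)) (.l 12))) (.mul (.mul (.mul (.mul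 (.inv (.l 7)) (.l 16)) (.l 17)) (.l 18)) (.l 7)))))) ∈ K :=
  TC.mem (D := c73) hL (List.forall_mem_cons.2 ⟨hL.zero_mem K, hK⟩) hr c73_head c73_blocks
    (n := (nat_lit 33)) (w := (nat_lit 0x2190a7946088b24c3c232414f28c10c9322784648)) (st := (nat_lit 0x5f10230c628c719232c668cf1a234c6a8d71b236e050c017c2f00e01a0300580a0120200380600a01001802002)) (by decide +kernel) (by decide +kernel)

def c73_loops : List W := [.mul (.mul (.mul (.mul (.inv (.mul (.mul (.mul (.mul (.inv (.l 7)) (.l 16)) (.l 17)) (.l 18)) (.l 7))) (.mul (.mul (.mul (.l 17) (.l 12)) (.l 18)) (.l 12))) (.mul (.mul (.mul (.mul (.inv (.l 7)) (.l 16)) (.l 17)) (.l 18)) (.l 7))) (.l 12)) (.inv (.mul (.l 12) (.mul (.mul (.inv (.mul (.mul (.mul (.mul (.inv (.l 7)) (.l 16)) (.l 17)) (.l 18)) (.l 7))) (.mul (.mul (.mul (.l 17) (.l 12)) (.l 18)) (.l 12))) (.mul (.mul (.mul (.mul (.inv (.l 7)) (.l 16)) (.l 17)) (.l 18)) (.l 7))))), .mul (.mul (.mul (.mul (.inv (.mul (.mul (.mul (.mul (.inv (.l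 7)) (.l 16)) (.l 17)) (.l 18)) (.l 7))) (.mul (.mul (.mul (.l 17) (.l 12)) (.l 18)) (.l 12))) (.mul (.mul (.mul (.mul (.inv (.l 7)) (.l 16)) (.l 17)) (.l 18)) (.l 7))) (.l 1)) (.inv (.mul (.l 1) (.mul (.mul (.inv (.mul (.mul (.mul (.mul (.inv (.l 7)) (.l 16)) (.l 17)) (.l 18)) (.l 7))) (.mul (.mul (.mul (.l 17) (.l 12)) (.l 18)) (.l 12))) (.mul (.mul (.mul (.mul (.inv (.l 7)) (.l 16)) (.l 17)) (.l 18)) (.l 7))))), .mul (.mul (.mul (.mul (.inv (.mul (.mul (.mul (.mul (.inv (.l 7)) (.l 16)) (.l 17)) (.l 18)) (.l 7))) (.mul (.mul (.mul (.l 17) (.l 12)) (.l 18)) (.l 12))) (.mul (.mul (.mul (.mul (.inv (.l 7)) (.l 16)) (.l 17)) (.l 18)) (.l 7))) (.l 2)) (.inv (.mul (.l 2) (.mul (.mul (.inv (.mul (.mul (.mul (.mul (.inv (.l 7)) (.l 16)) (.l 17)) (.l 18)) (.l 7))) (.mul (.mul (.mul (.l 17) (.l 12)) (.l 18)) (.l 12))) (.mul (.mul (.mul (.mul (.inv (.l 7)) (.l 16)) (.l 17)) (.l 18)) (.l 7))))), .mul (.mul (.mul (.mul (.inv (.mul (.mul (.mul (.mul (.inv (.l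 7)) (.l 16)) (.l 17)) (.l 18)) (.l 7))) (.mul (.mul (.mul (.l 17) (.l 12)) (.l 18)) (.l 12))) (.mul (.mul (.mul (.mul (.inv (.l 7)) (.l 16)) (.l 17)) (.l 18)) (.l 7))) (.l 3)) (.inv (.mul (.mul (.l 2) (.l 3)) (.mul (.mul (.inv (.mul (.mul (.mul (.mul (.inv (.l 7)) (.l 16)) (.l 17)) (.l 18)) (.l 7))) (.mul (.mul (.mul (.l 17) (.l 12)) (.l 18)) (.l 12))) (.mul (.mul (.mul (.mul (.inv (.l 7)) (.l 16)) (.l 17)) (.l 18)) (.l 7))))), .mul (.mul (.mul (.mul (.inv (.mul (.mul (.mul (.mul (.inv (.l 7)) (.l 16)) (.l 17)) (.l 18)) (.l 7))) (.mul (.mul (.mul (.l 17) (.l 12)) (.l 18)) (.l 12))) (.mul (.mul (.mul (.mul (.inv (.l 7)) (.l 16)) (.l 17)) (.l 18)) (.l 7))) (.l 4)) (.inv (.mul (.mul (.l 2) (.l 4)) (.mul (.mul (.inv (.mul (.mul (.mul (.mul (.inv (.l 7)) (.l 16)) (.l 17)) (.l 18)) (.l 7))) (.mul (.mul (.mul (.l 17) (.l 12)) (.l 18)) (.l 12))) (.mul (.mul (.mul (.mul (.inv (.l 7)) (.l 16)) (.l 17)) (.l 18)) (.l 7))))), .mul (.mul (.mul (.mul (.inv (.mul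 (.mul (.mul (.mul (.inv (.l 7)) (.l 16)) (.l 17)) (.l 18)) (.l 7))) (.mul (.mul (.mul (.l 17) (.l 12)) (.l 18)) (.l 12))) (.mul (.mul (.mul (.mul (.inv (.l 7)) (.l 16)) (.l 17)) (.l 18)) (.l 7))) (.l 5)) (.inv (.mul (.mul (.mul (.mul (.l 2) (.l 3)) (.l 4)) (.l 5)) (.mul (.mul (.inv (.mul (.mul (.mul (.mul (.inv (.l 7)) (.l 16)) (.l 17)) (.l 18)) (.l 7))) (.mul (.mul (.mul (.l 17) (.l 12)) (.l 18)) (.l 12))) (.mul (.mul (.mul (.mul (.inv (.l 7)) (.l 16)) (.l 17)) (.l 18)) (.l 7)))))]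

theorem c73_mems {G : Type*} [Group G] {γ : ℕ → G} (hL : Lab γ ivA) (hr : ∀ t ∈ rn72, t.ev γ = 1) {K : Subgroup G}
    (hK : ∀ t ∈ ([] : List W), t.ev γ ∈ K) :
    ∀ t ∈ c73_loops, t.ev γ ∈ K :=
  List.forall_mem_cons.2 ⟨c73_mem0 hL hr hK,
    List.forall_mem_cons.2 ⟨c73_mem1 hL hr hK,
    List.forall_mem_cons.2 ⟨c73_mem2 hL hr hK,
    List.forall_mem_cons.2 ⟨c73_mem3 hL hr hK,
    List.forall_mem_cons.2 ⟨c73_mem4 hL hr hK,
    List.forall_mem_cons.2 ⟨c73_mem5 hL hr hK,
    fun _ h => absurd h List.not_mem_nil⟩⟩⟩⟩⟩⟩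

def rn74 : List W := List.map (sb (.mul (.mul (.inv (.mul (.mul (.mul (.mul (.inv (.l 7)) (.l 16)) (.l 17)) (.l 18)) (.l 7))) (.mul (.mul (.mul (.l 17) (.l 12)) (.l 18)) (.l 12))) (.mul (.mul (.mul (.mul (.inv (.l 7)) (.l 16)) (.l 17)) (.l 18)) (.l 7)))) [.mul (.l 30) (.inv (.mul (.mul (.l 2) (.l 4)) (.l 6)))] ++ rn72

def c75_F : Tr := .leaf (nat_lit 0x81080d00d0118fe8fd80f87d10f17c3fb47594e96d92e96c8cc8eb12b16a8068688e68e78078040040089079660e60af14e1666a66e50d10e40e30e26a86e382385f0db0dc72875c95b92a74c75b74d75a74b7598a38d88558537017519239500a60ce94b9321cd1cb91d94c63e64763364662d64562964409c0c34815424a85414a354039243f32633e32033d2a62bc2a82bb2812ba2a32b97387268a08b86b66818128362202341811b31a01b21921b112612f10112e12012d11212c0810ab0a00aa0920a94a75281061285254a63814247237124a25236a06a351f4a061d61c69969a6976986956966936940fe08c97d90a97c90987b87a8fa8f99799783f84773773762762056756749749736736728f28f14713f087086f8ef8ee96e91a8ed8a886c82896b9268ea8e9869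82696890116711d8668028e58923e440a9639121621613613609609180df0de35e35d85d81895c92015b15a1da1d99599301581571d71d68d68b035535425421d35335225225185182025024f94f9148ce89d14d14c0cc0a824b24a34a3496496489489438c78c38468437457436c46c364360094291e8c189e74071e6bf6898be89873d71893c9168bb89683a8167397162382378b78942362358358147347148338307327306b16b01b01808af88582e80572d7056ac68582b81d72a71d6a969d9289008278218a688082581e7247097a37806a26a14a150072070069f69e51e48009d08069c69b61b61239a40039941231830031731229628029529221420021321269268081181089088f90f90e10e10910d10c90c90b88b88a80a809409380808807887886906905105100104103903902882881801800000000)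
def c75_T : Tr := .leaf (nat_lit 0x1fbefcf7ebcf8efdbaf4e7cb8f0dfbb6ecd7ab4e8cf9b2e4c78b0e0bf7aedcb76acd8af5aad4a74a8d09f3a6cc972a4c88f1a2c4870a0c07ef9ebc76e9cb86ed9ab466c98b05eb96ac56a94a84e992a446890a03e78e9c3668c982e58a9426488901e3868c16284880e182840608080)
def c75_P : Tr := .node (.node (.leaf (nat_lit 0x3c0b09a00044761614401088e82c01800109c858258780210130526f388040f9c0dc28208030f808526b368040f1b0d428128030f1a050410001d33180060003864301040006cc460128000d178144d000192e02806000305a051040005cb00a128000b1587403000152a0e88200028521d0940004ca043278001a140160d00011260f49600066480900c010c84847002352310c8a0006246208001a9007a3f000301c0d8483b0062f1a094660085c30128bc000b4582515800160a04a270002b))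
  (.leaf (nat_lit 0x7fc007fc007fc007fc007fc007fc007fc007fc007fc007fc007fc007fc007fc007fc007fc007fc007ff3022000651108329977e06e01805f4170cbf40100df4147ce4c01009f01d0f80008ba9d0e672389c0de6e0d016ed77bc5e6f57b80900368a03b4e80101b60a00b2e8010135898514c80201b51a44c01c7002011a00228c54010099c9dbd0010ce0020000ca10bf3300e0980602be1781a0f00803)))
  (.leaf (nat_lit 0x24a4c018159a01408cc020089b5a00601650909a00014c80a04882a30060962309803012b1c020218c242880005af978ba180961e0100eb88d5ac0004170402880006952a9680020d5b59d340042eb4b2d5c0086d6465ac80006ac15cac300961e0100aa652288803b54aac02039444001800062813c2812c3c01849383a2680007ca480514ca6eac0040c964a249208628a65360145498280ec008411c8626d00010a5188601ca8010a1148620c800109d114b8394c008bd0c3b830011b210780300034410f0a20084c801e0961e0084a7e09094008b8f83026800121e8604100023))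
def c75_N_0 : Tr := .node (.node (.node (.node (.leaf (nat_lit 0x2218f28c10c9322784648))
  (.leaf (nat_lit 132)))
  (.node (.leaf (nat_lit 14095813))
  (.leaf (nat_lit 14350))))
  (.node (.node (.leaf (nat_lit 591425))
  (.leaf (nat_lit 329)))
  (.leaf (nat_lit 469417))))
  (.node (.node (.node (.leaf (nat_lit 14563744326))
  (.leaf (nat_lit 6150)))
  (.node (.leaf (nat_lit 16888332))
  (.leaf (nat_lit 561))))
  (.node (.node (.leaf (nat_lit 526850))
  (.leaf (nat_lit 396)))
  (.leaf (nat_lit 33))))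
def c75_N_1 : Tr := .node (.node (.node (.node (.leaf (nat_lit 36225584))
  (.leaf (nat_lit 165)))
  (.node (.leaf (nat_lit 563750))
  (.leaf (nat_lit 528))))
  (.node (.node (.leaf (nat_lit 460225))
  (.leaf (nat_lit 9226)))
  (.leaf (nat_lit 599562))))
  (.node (.node (.node (.leaf (nat_lit 539150))
  (.leaf (nat_lit 232)))
  (.node (.leaf (nat_lit 177325))
  (.leaf (nat_lit 18450))))
  (.node (.node (.leaf (nat_lit 527875))
  (.leaf (nat_lit 429)))
  (.leaf (nat_lit 2050))))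
def c75_N_2 : Tr := .node (.node (.node (.node (.leaf (nat_lit 18956880))
  (.leaf (nat_lit 4100)))
  (.node (.leaf (nat_lit 595493))
  (.leaf (nat_lit 495))))
  (.node (.node (.leaf (nat_lit 451482180))
  (.leaf (nat_lit 298)))
  (.leaf (nat_lit 532935))))
  (.node (.node (.node (.leaf (nat_lit 570925))
  (.leaf (nat_lit 263)))
  (.node (.leaf (nat_lit 19827821589068))
  (.leaf (nat_lit 594))))
  (.node (.node (.leaf (nat_lit 429475))
  (.leaf (nat_lit 12300)))
  (.leaf (nat_lit 66))))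
def c75_N_3 : Tr := .node (.node (.node (.node (.leaf (nat_lit 15637483075))
  (.leaf (nat_lit 198)))
  (.node (.leaf (nat_lit 600617))
  (.leaf (nat_lit 16400))))
  (.node (.node (.leaf (nat_lit 428450))
  (.leaf (nat_lit 363)))
  (.leaf (nat_lit 45100))))
  (.node (.node (.node (.leaf (nat_lit 38873010702))
  (.leaf (nat_lit 7176)))
  (.node (.leaf (nat_lit 242957))
  (.leaf (nat_lit 0))))
  (.node (.node (.leaf (nat_lit 14160388))
  (.leaf (nat_lit 462)))
  (.leaf (nat_lit 99))))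
def c75_N_4 : Tr := .node (.node (.node (.node (.leaf (nat_lit 571556400))
  (.leaf (nat_lit 132)))
  (.node (.leaf (nat_lit 529925))
  (.leaf (nat_lit 495))))
  (.node (.node (.leaf (nat_lit 592450))
  (.leaf (nat_lit 10249)))
  (.leaf (nat_lit 501162))))
  (.node (.node (.node (.leaf (nat_lit 486580743))
  (.leaf (nat_lit 263)))
  (.node (.leaf (nat_lit 18035244))
  (.leaf (nat_lit 17425))))
  (.node (.node (.leaf (nat_lit 559650))
  (.leaf (nat_lit 396)))
  (.leaf (nat_lit 1025))))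
def c75_N_5 : Tr := .node (.node (.node (.node (.leaf (nat_lit 14446300707))
  (.leaf (nat_lit 5125)))
  (.node (.leaf (nat_lit 14100937))
  (.leaf (nat_lit 528))))
  (.node (.node (.leaf (nat_lit 525825))
  (.leaf (nat_lit 363)))
  (.leaf (nat_lit 15821))))
  (.node (.node (.node (.leaf (nat_lit 604750))
  (.leaf (nat_lit 232)))
  (.node (.leaf (nat_lit 210125))
  (.leaf (nat_lit 0))))
  (.node (.node (.leaf (nat_lit 463300))
  (.leaf (nat_lit 13325)))
  (.leaf (nat_lit 99))))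
def c75_N_6 : Tr := .node (.node (.node (.node (.leaf (nat_lit 18925137))
  (.leaf (nat_lit 165)))
  (.node (.leaf (nat_lit 465350))
  (.leaf (nat_lit 15375))))
  (.node (.node (.leaf (nat_lit 427425))
  (.leaf (nat_lit 298)))
  (.leaf (nat_lit 567817))))
  (.node (.node (.node (.leaf (nat_lit 603725))
  (.leaf (nat_lit 8199)))
  (.node (.leaf (nat_lit 144525))
  (.leaf (nat_lit 594))))
  (.node (.node (.leaf (nat_lit 462275))
  (.leaf (nat_lit 429)))
  (.leaf (nat_lit 66))))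
def c75_N_7 : Tr := .node (.node (.node (.node (.leaf (nat_lit 14445222406))
  (.leaf (nat_lit 198)))
  (.node (.leaf (nat_lit 14758348))
  (.leaf (nat_lit 561))))
  (.node (.node (.leaf (nat_lit 461250))
  (.leaf (nat_lit 11275)))
  (.leaf (nat_lit 33))))
  (.node (.node (.node (.leaf (nat_lit 558625))
  (.leaf (nat_lit 329)))
  (.leaf (nat_lit 1455501)))
  (.node (.node (.leaf (nat_lit 15241764))
  (.leaf (nat_lit 462)))
  (.leaf (nat_lit 3075))))
def c75_N : Tr := .node (.node (.node c75_N_0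
  c75_N_1)
  (.node c75_N_2
  c75_N_3))
  (.node (.node c75_N_4
  c75_N_5)
  (.node c75_N_6
  c75_N_7))
noncomputable def c75 : TC :=
  ⟨[.l 0, .l 1, .l 2, .l 3, .l 4, .l 5, .l 6, .l 7, .l 8, .l 9, .l 10, .l 11, .l 12, .l 13, .l 14, .l 15, .l 16, .l 17, .l 18],
    (nat_lit 7), (nat_lit 9), (nat_lit 0x4a307b9ac5a547418a418820), (nat_lit 1), (nat_lit 127), (nat_lit 0), (nat_lit 32), (nat_lit 3), (nat_lit 111),
    get (nat_lit 10) (nat_lit 0x400c0400c02010030080400c02010030080400c02010030080400c02010030080400c02010030080400c02010030080400c02010030080400c02010030080400c02010030080400c040100401004014040100401009014050140401404010040100501405010040100401004010040100401006010040100801004010040180701c0701c060140501811), Tr.get c75_N, get (nat_lit 20) (nat_lit 0x3ff003ff003ff003ff003ff003ff003ff003ff003ff003ff003ff003ff003ff003ff003ff003ff003ff003ff003ff003ff003ff003ff003ff003ff003ff003ff003ff003ff003ff003ff003ff003ff003ff003ff003ff003ff003ff003ff003ff003ff003ff003ff003ff003ff003ff003ff003ff003ff003ff003ff003ff003ff003ff003ff003ff003ff000560003800037000360003500034000330003200031000300002f0002e0002a000290002800027000260002500024000230002200021000200001f0001e0001d0001c0001b0001a000190001800017000160001500014000130001200011000100000f0000e0000d0000c0000b0000a00009000080000700006000050000400003000020000100000),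
    Tr.get3 c75_F (nat_lit 24) (nat_lit 5), Tr.get3 c75_T (nat_lit 7) (nat_lit 7), Tr.get c75_P⟩

theorem c75_head : c75.headOK rn74 ivA = true := by decide +kernel

theorem c75_b0 : allFrom (nat_lit 0) (nat_lit 3) c75.blockOK = true := by decide +kernel

theorem c75_blocks : ∀ t < c75.k, c75.blockOK t = true :=
  (of_allFrom_append of_lt_zero c75_b0)

theorem c75_mem0 {G : Type*} [Group G] {γ : ℕ → G} (hL : Lab γ ivA) (hr : ∀ t ∈ rn74, t.ev γ = 1) {K : Subgroup G}
    (hK : ∀ t ∈ ([] : List W), t.ev γ ∈ K) :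
    W.ev γ (.mul (.mul (.mul (.mul (.l 16) (.l 17)) (.l 18)) (.l 2)) (.mul (.mul (.mul (.l 16) (.l 17)) (.l 18)) (.l 2))) ∈ K :=
  TC.mem (D := c75) hL (List.forall_mem_cons.2 ⟨hL.zero_mem K, hK⟩) hr c75_head c75_blocks
    (n := (nat_lit 8)) (w := (nat_lit 88634116656)) (st := (nat_lit 0x58341f82040180802)) (by decide +kernel) (by decide +kernel)

theorem c75_mem1 {G : Type*} [Group G] {γ : ℕ → G} (hL : Lab γ ivA) (hr : ∀ t ∈ rn74, t.ev γ = 1) {K : Subgroup G}
    (hK : ∀ t ∈ ([] : List W), t.ev γ ∈ K) :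
    W.ev γ (.mul (.mul (.mul (.mul (.mul (.mul (.l 7) (.l 16)) (.l 17)) (.l 18)) (.l 2)) (.inv (.l 7))) (.mul (.mul (.mul (.mul (.mul (.l 7) (.l 16)) (.l 17)) (.l 18)) (.l 2)) (.inv (.l 7)))) ∈ K :=
  TC.mem (D := c75) hL (List.forall_mem_cons.2 ⟨hL.zero_mem K, hK⟩) hr c75_head c75_blocks
    (n := (nat_lit 10)) (w := (nat_lit 284311268443655)) (st := (nat_lit 0x261d0f887341a0c0582812)) (by decide +kernel) (by decide +kernel)

theorem c75_mem2 {G : Type*} [Group G] {γ : ℕ → G} (hL : Lab γ ivA) (hr : ∀ t ∈ rn74, t.ev γ = 1) {K : Subgroup G}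
    (hK : ∀ t ∈ ([] : List W), t.ev γ ∈ K) :
    W.ev γ (.mul (.mul (.mul (.inv (.l 13)) (.inv (.l 4))) (.l 13)) (.l 4)) ∈ K :=
  TC.mem (D := c75) hL (List.forall_mem_cons.2 ⟨hL.zero_mem K, hK⟩) hr c75_head c75_blocks
    (n := (nat_lit 4)) (w := (nat_lit 144525)) (st := (nat_lit 5569793060)) (by decide +kernel) (by decide +kernel)

theorem c75_mem3 {G : Type*} [Group G] {γ : ℕ → G} (hL : Lab γ ivA) (hr : ∀ t ∈ rn74, t.ev γ = 1) {K : Subgroup G}
    (hK : ∀ t ∈ ([] : List W), t.ev γ ∈ K) :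
    W.ev γ (.mul (.mul (.mul (.inv (.l 13)) (.inv (.l 5))) (.l 13)) (.l 5)) ∈ K :=
  TC.mem (D := c75) hL (List.forall_mem_cons.2 ⟨hL.zero_mem K, hK⟩) hr c75_head c75_blocks
    (n := (nat_lit 4)) (w := (nat_lit 177325)) (st := (nat_lit 6107190308)) (by decide +kernel) (by decide +kernel)

theorem c75_mem4 {G : Type*} [Group G] {γ : ℕ → G} (hL : Lab γ ivA) (hr : ∀ t ∈ rn74, t.ev γ = 1) {K : Subgroup G}
    (hK : ∀ t ∈ ([] : List W), t.ev γ ∈ K) :
    W.ev γ (.mul (.mul (.mul (.inv (.l 13)) (.inv (.l 6))) (.l 13)) (.l 6)) ∈ K :=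
  TC.mem (D := c75) hL (List.forall_mem_cons.2 ⟨hL.zero_mem K, hK⟩) hr c75_head c75_blocks
    (n := (nat_lit 4)) (w := (nat_lit 210125)) (st := (nat_lit 6644587556)) (by decide +kernel) (by decide +kernel)

theorem c75_mem5 {G : Type*} [Group G] {γ : ℕ → G} (hL : Lab γ ivA) (hr : ∀ t ∈ rn74, t.ev γ = 1) {K : Subgroup G}
    (hK : ∀ t ∈ ([] : List W), t.ev γ ∈ K) :
    W.ev γ (.mul (.mul (.mul (.inv (.l 13)) (.inv (.l 7))) (.l 13)) (.l 7)) ∈ K :=
  TC.mem (D := c75) hL (List.forall_mem_cons.2 ⟨hL.zero_mem K, hK⟩) hr c75_head c75_blocks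
    (n := (nat_lit 4)) (w := (nat_lit 242957)) (st := (nat_lit 7181984804)) (by decide +kernel) (by decide +kernel)

theorem c75_mem6 {G : Type*} [Group G] {γ : ℕ → G} (hL : Lab γ ivA) (hr : ∀ t ∈ rn74, t.ev γ = 1) {K : Subgroup G}
    (hK : ∀ t ∈ ([] : List W), t.ev γ ∈ K) :
    W.ev γ (.mul (.mul (.mul (.mul (.l 13) (.l 12)) (.l 13)) (.l 12)) (.l 1)) ∈ K :=
  TC.mem (D := c75) hL (List.forall_mem_cons.2 ⟨hL.zero_mem K, hK⟩) hr c75_head c75_blocks
    (n := (nat_lit 5)) (w := (nat_lit 1455501)) (st := (nat_lit 4089628879908)) (by decide +kernel) (by decide +kernel)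

theorem c75_mem7 {G : Type*} [Group G] {γ : ℕ → G} (hL : Lab γ ivA) (hr : ∀ t ∈ rn74, t.ev γ = 1) {K : Subgroup G}
    (hK : ∀ t ∈ ([] : List W), t.ev γ ∈ K) :
    W.ev γ (.mul (.mul (.mul (.l 9) (.l 13)) (.inv (.l 9))) (.l 14)) ∈ K :=
  TC.mem (D := c75) hL (List.forall_mem_cons.2 ⟨hL.zero_mem K, hK⟩) hr c75_head c75_blocks
    (n := (nat_lit 4)) (w := (nat_lit 469417)) (st := (nat_lit 8793652284)) (by decide +kernel) (by decide +kernel)

theorem c75_mem8 {G : Type*} [Group G] {γ : ℕ → G} (hL : Lab γ ivA) (hr : ∀ t ∈ rn74, t.ev γ = 1) {K : Subgroup G}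
    (hK : ∀ t ∈ ([] : List W), t.ev γ ∈ K) :
    W.ev γ (.mul (.mul (.mul (.inv (.l 9)) (.l 13)) (.l 9)) (.l 15)) ∈ K :=
  TC.mem (D := c75) hL (List.forall_mem_cons.2 ⟨hL.zero_mem K, hK⟩) hr c75_head c75_blocks
    (n := (nat_lit 4)) (w := (nat_lit 501162)) (st := (nat_lit 9600010306)) (by decide +kernel) (by decide +kernel)

theorem c75_mem9 {G : Type*} [Group G] {γ : ℕ → G} (hL : Lab γ ivA) (hr : ∀ t ∈ rn74, t.ev γ = 1) {K : Subgroup G}
    (hK : ∀ t ∈ ([] : List W), t.ev γ ∈ K) :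
    W.ev γ (.mul (.mul (.mul (.l 7) (.l 14)) (.inv (.l 7))) (.l 16)) ∈ K :=
  TC.mem (D := c75) hL (List.forall_mem_cons.2 ⟨hL.zero_mem K, hK⟩) hr c75_head c75_blocks
    (n := (nat_lit 4)) (w := (nat_lit 532935)) (st := (nat_lit 473993234)) (by decide +kernel) (by decide +kernel)

theorem c75_mem10 {G : Type*} [Group G] {γ : ℕ → G} (hL : Lab γ ivA) (hr : ∀ t ∈ rn74, t.ev γ = 1) {K : Subgroup G}
    (hK : ∀ t ∈ ([] : List W), t.ev γ ∈ K) :
    W.ev γ (.mul (.mul (.mul (.l 9) (.l 16)) (.inv (.l 9))) (.l 17)) ∈ K :=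
  TC.mem (D := c75) hL (List.forall_mem_cons.2 ⟨hL.zero_mem K, hK⟩) hr c75_head c75_blocks
    (n := (nat_lit 4)) (w := (nat_lit 567817)) (st := (nat_lit 10406892604)) (by decide +kernel) (by decide +kernel)

theorem c75_mem11 {G : Type*} [Group G] {γ : ℕ → G} (hL : Lab γ ivA) (hr : ∀ t ∈ rn74, t.ev γ = 1) {K : Subgroup G}
    (hK : ∀ t ∈ ([] : List W), t.ev γ ∈ K) :
    W.ev γ (.mul (.mul (.mul (.inv (.l 9)) (.l 16)) (.l 9)) (.l 18)) ∈ K :=
  TC.mem (D := c75) hL (List.forall_mem_cons.2 ⟨hL.zero_mem K, hK⟩) hr c75_head c75_blocks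
    (n := (nat_lit 4)) (w := (nat_lit 599562)) (st := (nat_lit 10944814146)) (by decide +kernel) (by decide +kernel)

theorem c75_mem12 {G : Type*} [Group G] {γ : ℕ → G} (hL : Lab γ ivA) (hr : ∀ t ∈ rn74, t.ev γ = 1) {K : Subgroup G}
    (hK : ∀ t ∈ ([] : List W), t.ev γ ∈ K) :
    W.ev γ (.mul (.mul (.l 13) (.l 14)) (.l 15)) ∈ K :=
  TC.mem (D := c75) hL (List.forall_mem_cons.2 ⟨hL.zero_mem K, hK⟩) hr c75_head c75_blocks
    (n := (nat_lit 3)) (w := (nat_lit 15821)) (st := (nat_lit 18750500)) (by decide +kernel) (by decide +kernel)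

theorem c75_mem13 {G : Type*} [Group G] {γ : ℕ → G} (hL : Lab γ ivA) (hr : ∀ t ∈ rn74, t.ev γ = 1) {K : Subgroup G}
    (hK : ∀ t ∈ ([] : List W), t.ev γ ∈ K) :
    W.ev γ (.mul (.mul (.mul (.l 1) (.l 13)) (.l 1)) (.l 13)) ∈ K :=
  TC.mem (D := c75) hL (List.forall_mem_cons.2 ⟨hL.zero_mem K, hK⟩) hr c75_head c75_blocks
    (n := (nat_lit 4)) (w := (nat_lit 427425)) (st := (nat_lit 5039498298)) (by decide +kernel) (by decide +kernel)

theorem c75_mem14 {G : Type*} [Group G] {γ : ℕ → G} (hL : Lab γ ivA) (hr : ∀ t ∈ rn74, t.ev γ = 1) {K : Subgroup G}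
    (hK : ∀ t ∈ ([] : List W), t.ev γ ∈ K) :
    W.ev γ (.mul (.mul (.mul (.l 1) (.l 14)) (.l 1)) (.l 14)) ∈ K :=
  TC.mem (D := c75) hL (List.forall_mem_cons.2 ⟨hL.zero_mem K, hK⟩) hr c75_head c75_blocks
    (n := (nat_lit 4)) (w := (nat_lit 460225)) (st := (nat_lit 8798119994)) (by decide +kernel) (by decide +kernel)

theorem c75_mem15 {G : Type*} [Group G] {γ : ℕ → G} (hL : Lab γ ivA) (hr : ∀ t ∈ rn74, t.ev γ = 1) {K : Subgroup G}
    (hK : ∀ t ∈ ([] : List W), t.ev γ ∈ K) :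
    W.ev γ (.mul (.mul (.mul (.l 1) (.l 16)) (.l 1)) (.l 16)) ∈ K :=
  TC.mem (D := c75) hL (List.forall_mem_cons.2 ⟨hL.zero_mem K, hK⟩) hr c75_head c75_blocks
    (n := (nat_lit 4)) (w := (nat_lit 525825)) (st := (nat_lit 477146170)) (by decide +kernel) (by decide +kernel)

theorem c75_mem16 {G : Type*} [Group G] {γ : ℕ → G} (hL : Lab γ ivA) (hr : ∀ t ∈ rn74, t.ev γ = 1) {K : Subgroup G}
    (hK : ∀ t ∈ ([] : List W), t.ev γ ∈ K) :
    W.ev γ (.mul (.mul (.mul (.l 2) (.l 13)) (.l 2)) (.l 13)) ∈ K :=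
  TC.mem (D := c75) hL (List.forall_mem_cons.2 ⟨hL.zero_mem K, hK⟩) hr c75_head c75_blocks
    (n := (nat_lit 4)) (w := (nat_lit 428450)) (st := (nat_lit 5041074186)) (by decide +kernel) (by decide +kernel)

theorem c75_mem17 {G : Type*} [Group G] {γ : ℕ → G} (hL : Lab γ ivA) (hr : ∀ t ∈ rn74, t.ev γ = 1) {K : Subgroup G}
    (hK : ∀ t ∈ ([] : List W), t.ev γ ∈ K) :
    W.ev γ (.mul (.mul (.mul (.l 2) (.l 14)) (.l 2)) (.l 14)) ∈ K :=
  TC.mem (D := c75) hL (List.forall_mem_cons.2 ⟨hL.zero_mem K, hK⟩) hr c75_head c75_blocks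
    (n := (nat_lit 4)) (w := (nat_lit 461250)) (st := (nat_lit 8799695882)) (by decide +kernel) (by decide +kernel)

theorem c75_mem18 {G : Type*} [Group G] {γ : ℕ → G} (hL : Lab γ ivA) (hr : ∀ t ∈ rn74, t.ev γ = 1) {K : Subgroup G}
    (hK : ∀ t ∈ ([] : List W), t.ev γ ∈ K) :
    W.ev γ (.mul (.mul (.mul (.l 2) (.l 16)) (.l 2)) (.l 16)) ∈ K :=
  TC.mem (D := c75) hL (List.forall_mem_cons.2 ⟨hL.zero_mem K, hK⟩) hr c75_head c75_blocks
    (n := (nat_lit 4)) (w := (nat_lit 526850)) (st := (nat_lit 478722058)) (by decide +kernel) (by decide +kernel)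

theorem c75_mem19 {G : Type*} [Group G] {γ : ℕ → G} (hL : Lab γ ivA) (hr : ∀ t ∈ rn74, t.ev γ = 1) {K : Subgroup G}
    (hK : ∀ t ∈ ([] : List W), t.ev γ ∈ K) :
    W.ev γ (.mul (.mul (.mul (.l 2) (.l 17)) (.l 2)) (.l 17)) ∈ K :=
  TC.mem (D := c75) hL (List.forall_mem_cons.2 ⟨hL.zero_mem K, hK⟩) hr c75_head c75_blocks
    (n := (nat_lit 4)) (w := (nat_lit 559650)) (st := (nat_lit 10411359242)) (by decide +kernel) (by decide +kernel)

theorem c75_mem20 {G : Type*} [Group G] {γ : ℕ → G} (hL : Lab γ ivA) (hr : ∀ t ∈ rn74, t.ev γ = 1) {K : Subgroup G}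
    (hK : ∀ t ∈ ([] : List W), t.ev γ ∈ K) :
    W.ev γ (.mul (.mul (.mul (.l 3) (.l 13)) (.l 3)) (.l 13)) ∈ K :=
  TC.mem (D := c75) hL (List.forall_mem_cons.2 ⟨hL.zero_mem K, hK⟩) hr c75_head c75_blocks
    (n := (nat_lit 4)) (w := (nat_lit 429475)) (st := (nat_lit 5043176544)) (by decide +kernel) (by decide +kernel)

theorem c75_mem21 {G : Type*} [Group G] {γ : ℕ → G} (hL : Lab γ ivA) (hr : ∀ t ∈ rn74, t.ev γ = 1) {K : Subgroup G}
    (hK : ∀ t ∈ ([] : List W), t.ev γ ∈ K) :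
    W.ev γ (.mul (.mul (.mul (.l 3) (.l 14)) (.l 3)) (.l 14)) ∈ K :=
  TC.mem (D := c75) hL (List.forall_mem_cons.2 ⟨hL.zero_mem K, hK⟩) hr c75_head c75_blocks
    (n := (nat_lit 4)) (w := (nat_lit 462275)) (st := (nat_lit 8801798240)) (by decide +kernel) (by decide +kernel)

theorem c75_mem22 {G : Type*} [Group G] {γ : ℕ → G} (hL : Lab γ ivA) (hr : ∀ t ∈ rn74, t.ev γ = 1) {K : Subgroup G}
    (hK : ∀ t ∈ ([] : List W), t.ev γ ∈ K) :
    W.ev γ (.mul (.mul (.mul (.l 3) (.l 16)) (.l 3)) (.l 16)) ∈ K :=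
  TC.mem (D := c75) hL (List.forall_mem_cons.2 ⟨hL.zero_mem K, hK⟩) hr c75_head c75_blocks
    (n := (nat_lit 4)) (w := (nat_lit 527875)) (st := (nat_lit 480824416)) (by decide +kernel) (by decide +kernel)

theorem c75_mem23 {G : Type*} [Group G] {γ : ℕ → G} (hL : Lab γ ivA) (hr : ∀ t ∈ rn74, t.ev γ = 1) {K : Subgroup G}
    (hK : ∀ t ∈ ([] : List W), t.ev γ ∈ K) :
    W.ev γ (.mul (.mul (.mul (.l 4) (.l 13)) (.l 4)) (.l 13)) ∈ K :=
  TC.mem (D := c75) hL (List.forall_mem_cons.2 ⟨hL.zero_mem K, hK⟩) hr c75_head c75_blocks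
    (n := (nat_lit 4)) (w := (nat_lit 430500)) (st := (nat_lit 4976409640)) (by decide +kernel) (by decide +kernel)

theorem c75_mem24 {G : Type*} [Group G] {γ : ℕ → G} (hL : Lab γ ivA) (hr : ∀ t ∈ rn74, t.ev γ = 1) {K : Subgroup G}
    (hK : ∀ t ∈ ([] : List W), t.ev γ ∈ K) :
    W.ev γ (.mul (.mul (.mul (.l 4) (.l 14)) (.l 4)) (.l 14)) ∈ K :=
  TC.mem (D := c75) hL (List.forall_mem_cons.2 ⟨hL.zero_mem K, hK⟩) hr c75_head c75_blocks
    (n := (nat_lit 4)) (w := (nat_lit 463300)) (st := (nat_lit 8802848808)) (by decide +kernel) (by decide +kernel)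

theorem c75_mem25 {G : Type*} [Group G] {γ : ℕ → G} (hL : Lab γ ivA) (hr : ∀ t ∈ rn74, t.ev γ = 1) {K : Subgroup G}
    (hK : ∀ t ∈ ([] : List W), t.ev γ ∈ K) :
    W.ev γ (.mul (.mul (.mul (.mul (.l 4) (.l 16)) (.l 4)) (.l 16)) (.l 13)) ∈ K :=
  TC.mem (D := c75) hL (List.forall_mem_cons.2 ⟨hL.zero_mem K, hK⟩) hr c75_head c75_blocks
    (n := (nat_lit 5)) (w := (nat_lit 14160388)) (st := (nat_lit 2583182758952)) (by decide +kernel) (by decide +kernel)

theorem c75_mem26 {G : Type*} [Group G] {γ : ℕ → G} (hL : Lab γ ivA) (hr : ∀ t ∈ rn74, t.ev γ = 1) {K : Subgroup G}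
    (hK : ∀ t ∈ ([] : List W), t.ev γ ∈ K) :
    W.ev γ (.mul (.mul (.mul (.mul (.l 4) (.l 17)) (.l 4)) (.l 17)) (.l 14)) ∈ K :=
  TC.mem (D := c75) hL (List.forall_mem_cons.2 ⟨hL.zero_mem K, hK⟩) hr c75_head c75_blocks
    (n := (nat_lit 5)) (w := (nat_lit 15241764)) (st := (nat_lit 4507866029096)) (by decide +kernel) (by decide +kernel)

theorem c75_mem27 {G : Type*} [Group G] {γ : ℕ → G} (hL : Lab γ ivA) (hr : ∀ t ∈ rn74, t.ev γ = 1) {K : Subgroup G}
    (hK : ∀ t ∈ ([] : List W), t.ev γ ∈ K) :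
    W.ev γ (.mul (.mul (.mul (.l 5) (.l 13)) (.l 5)) (.l 13)) ∈ K :=
  TC.mem (D := c75) hL (List.forall_mem_cons.2 ⟨hL.zero_mem K, hK⟩) hr c75_head c75_blocks
    (n := (nat_lit 4)) (w := (nat_lit 431525)) (st := (nat_lit 4977459244)) (by decide +kernel) (by decide +kernel)

theorem c75_mem28 {G : Type*} [Group G] {γ : ℕ → G} (hL : Lab γ ivA) (hr : ∀ t ∈ rn74, t.ev γ = 1) {K : Subgroup G}
    (hK : ∀ t ∈ ([] : List W), t.ev γ ∈ K) :
    W.ev γ (.mul (.mul (.mul (.mul (.l 5) (.l 14)) (.l 5)) (.l 14)) (.l 13)) ∈ K :=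
  TC.mem (D := c75) hL (List.forall_mem_cons.2 ⟨hL.zero_mem K, hK⟩) hr c75_head c75_blocks
    (n := (nat_lit 5)) (w := (nat_lit 14095813)) (st := (nat_lit 2579074966572)) (by decide +kernel) (by decide +kernel)

theorem c75_mem29 {G : Type*} [Group G] {γ : ℕ → G} (hL : Lab γ ivA) (hr : ∀ t ∈ rn74, t.ev γ = 1) {K : Subgroup G}
    (hK : ∀ t ∈ ([] : List W), t.ev γ ∈ K) :
    W.ev γ (.mul (.mul (.mul (.l 5) (.l 16)) (.l 5)) (.l 16)) ∈ K :=
  TC.mem (D := c75) hL (List.forall_mem_cons.2 ⟨hL.zero_mem K, hK⟩) hr c75_head c75_blocks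
    (n := (nat_lit 4)) (w := (nat_lit 529925)) (st := (nat_lit 484501548)) (by decide +kernel) (by decide +kernel)

theorem c75_mem30 {G : Type*} [Group G] {γ : ℕ → G} (hL : Lab γ ivA) (hr : ∀ t ∈ rn74, t.ev γ = 1) {K : Subgroup G}
    (hK : ∀ t ∈ ([] : List W), t.ev γ ∈ K) :
    W.ev γ (.mul (.mul (.mul (.l 5) (.l 17)) (.l 5)) (.l 18)) ∈ K :=
  TC.mem (D := c75) hL (List.forall_mem_cons.2 ⟨hL.zero_mem K, hK⟩) hr c75_head c75_blocks
    (n := (nat_lit 4)) (w := (nat_lit 595493)) (st := (nat_lit 10954009644)) (by decide +kernel) (by decide +kernel)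

theorem c75_mem31 {G : Type*} [Group G] {γ : ℕ → G} (hL : Lab γ ivA) (hr : ∀ t ∈ rn74, t.ev γ = 1) {K : Subgroup G}
    (hK : ∀ t ∈ ([] : List W), t.ev γ ∈ K) :
    W.ev γ (.mul (.mul (.mul (.l 5) (.l 18)) (.l 5)) (.l 17)) ∈ K :=
  TC.mem (D := c75) hL (List.forall_mem_cons.2 ⟨hL.zero_mem K, hK⟩) hr c75_head c75_blocks
    (n := (nat_lit 4)) (w := (nat_lit 562757)) (st := (nat_lit 10417664044)) (by decide +kernel) (by decide +kernel)

theorem c75_mem32 {G : Type*} [Group G] {γ : ℕ → G} (hL : Lab γ ivA) (hr : ∀ t ∈ rn74, t.ev γ = 1) {K : Subgroup G}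
    (hK : ∀ t ∈ ([] : List W), t.ev γ ∈ K) :
    W.ev γ (.mul (.mul (.mul (.l 6) (.l 13)) (.l 6)) (.l 13)) ∈ K :=
  TC.mem (D := c75) hL (List.forall_mem_cons.2 ⟨hL.zero_mem K, hK⟩) hr c75_head c75_blocks
    (n := (nat_lit 4)) (w := (nat_lit 432550)) (st := (nat_lit 4978508848)) (by decide +kernel) (by decide +kernel)

theorem c75_mem33 {G : Type*} [Group G] {γ : ℕ → G} (hL : Lab γ ivA) (hr : ∀ t ∈ rn74, t.ev γ = 1) {K : Subgroup G}
    (hK : ∀ t ∈ ([] : List W), t.ev γ ∈ K) :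
    W.ev γ (.mul (.mul (.mul (.l 6) (.l 14)) (.l 6)) (.l 14)) ∈ K :=
  TC.mem (D := c75) hL (List.forall_mem_cons.2 ⟨hL.zero_mem K, hK⟩) hr c75_head c75_blocks
    (n := (nat_lit 4)) (w := (nat_lit 465350)) (st := (nat_lit 8807576624)) (by decide +kernel) (by decide +kernel)

theorem c75_mem34 {G : Type*} [Group G] {γ : ℕ → G} (hL : Lab γ ivA) (hr : ∀ t ∈ rn74, t.ev γ = 1) {K : Subgroup G}
    (hK : ∀ t ∈ ([] : List W), t.ev γ ∈ K) :
    W.ev γ (.mul (.mul (.mul (.l 6) (.l 17)) (.l 6)) (.l 17)) ∈ K :=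
  TC.mem (D := c75) hL (List.forall_mem_cons.2 ⟨hL.zero_mem K, hK⟩) hr c75_head c75_blocks
    (n := (nat_lit 4)) (w := (nat_lit 563750)) (st := (nat_lit 10418714672)) (by decide +kernel) (by decide +kernel)

theorem c75_mem35 {G : Type*} [Group G] {γ : ℕ → G} (hL : Lab γ ivA) (hr : ∀ t ∈ rn74, t.ev γ = 1) {K : Subgroup G}
    (hK : ∀ t ∈ ([] : List W), t.ev γ ∈ K) :
    W.ev γ (.mul (.mul (.mul (.l 7) (.l 13)) (.inv (.l 7))) (.l 13)) ∈ K :=
  TC.mem (D := c75) hL (List.forall_mem_cons.2 ⟨hL.zero_mem K, hK⟩) hr c75_head c75_blocks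
    (n := (nat_lit 4)) (w := (nat_lit 434599)) (st := (nat_lit 5050530834)) (by decide +kernel) (by decide +kernel)

theorem c75_mem36 {G : Type*} [Group G] {γ : ℕ → G} (hL : Lab γ ivA) (hr : ∀ t ∈ rn74, t.ev γ = 1) {K : Subgroup G}
    (hK : ∀ t ∈ ([] : List W), t.ev γ ∈ K) :
    W.ev γ (.mul (.mul (.mul (.mul (.l 9) (.l 14)) (.inv (.l 9))) (.l 14)) (.l 13)) ∈ K :=
  TC.mem (D := c75) hL (List.forall_mem_cons.2 ⟨hL.zero_mem K, hK⟩) hr c75_head c75_blocks
    (n := (nat_lit 5)) (w := (nat_lit 14100937)) (st := (nat_lit 2579078643772)) (by decide +kernel) (by decide +kernel)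

theorem c75_mem37 {G : Type*} [Group G] {γ : ℕ → G} (hL : Lab γ ivA) (hr : ∀ t ∈ rn74, t.ev γ = 1) {K : Subgroup G}
    (hK : ∀ t ∈ ([] : List W), t.ev γ ∈ K) :
    W.ev γ (.mul (.mul (.mul (.l 9) (.l 17)) (.inv (.l 9))) (.l 18)) ∈ K :=
  TC.mem (D := c75) hL (List.forall_mem_cons.2 ⟨hL.zero_mem K, hK⟩) hr c75_head c75_blocks
    (n := (nat_lit 4)) (w := (nat_lit 600617)) (st := (nat_lit 10957161532)) (by decide +kernel) (by decide +kernel)

theorem c75_mem38 {G : Type*} [Group G] {γ : ℕ → G} (hL : Lab γ ivA) (hr : ∀ t ∈ rn74, t.ev γ = 1) {K : Subgroup G}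
    (hK : ∀ t ∈ ([] : List W), t.ev γ ∈ K) :
    W.ev γ (.mul (.mul (.mul (.l 9) (.l 18)) (.inv (.l 9))) (.l 16)) ∈ K :=
  TC.mem (D := c75) hL (List.forall_mem_cons.2 ⟨hL.zero_mem K, hK⟩) hr c75_head c75_blocks
    (n := (nat_lit 4)) (w := (nat_lit 535113)) (st := (nat_lit 488704060)) (by decide +kernel) (by decide +kernel)

theorem c75_mem39 {G : Type*} [Group G] {γ : ℕ → G} (hL : Lab γ ivA) (hr : ∀ t ∈ rn74, t.ev γ = 1) {K : Subgroup G}
    (hK : ∀ t ∈ ([] : List W), t.ev γ ∈ K) :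
    W.ev γ (.mul (.mul (.mul (.mul (.l 12) (.l 13)) (.l 12)) (.l 1)) (.l 13)) ∈ K :=
  TC.mem (D := c75) hL (List.forall_mem_cons.2 ⟨hL.zero_mem K, hK⟩) hr c75_head c75_blocks
    (n := (nat_lit 5)) (w := (nat_lit 13676972)) (st := (nat_lit 2580288704646)) (by decide +kernel) (by decide +kernel)

theorem c75_mem40 {G : Type*} [Group G] {γ : ℕ → G} (hL : Lab γ ivA) (hr : ∀ t ∈ rn74, t.ev γ = 1) {K : Subgroup G}
    (hK : ∀ t ∈ ([] : List W), t.ev γ ∈ K) :
    W.ev γ (.mul (.mul (.mul (.mul (.l 12) (.l 14)) (.l 12)) (.l 2)) (.l 14)) ∈ K :=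
  TC.mem (D := c75) hL (List.forall_mem_cons.2 ⟨hL.zero_mem K, hK⟩) hr c75_head c75_blocks
    (n := (nat_lit 5)) (w := (nat_lit 14758348)) (st := (nat_lit 4505508320390)) (by decide +kernel) (by decide +kernel)

theorem c75_mem41 {G : Type*} [Group G] {γ : ℕ → G} (hL : Lab γ ivA) (hr : ∀ t ∈ rn74, t.ev γ = 1) {K : Subgroup G}
    (hK : ∀ t ∈ ([] : List W), t.ev γ ∈ K) :
    W.ev γ (.mul (.mul (.mul (.mul (.l 12) (.l 16)) (.l 12)) (.l 3)) (.l 16)) ∈ K :=
  TC.mem (D := c75) hL (List.forall_mem_cons.2 ⟨hL.zero_mem K, hK⟩) hr c75_head c75_blocks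
    (n := (nat_lit 5)) (w := (nat_lit 16888332)) (st := (nat_lit 246243465350)) (by decide +kernel) (by decide +kernel)

theorem c75_mem42 {G : Type*} [Group G] {γ : ℕ → G} (hL : Lab γ ivA) (hr : ∀ t ∈ rn74, t.ev γ = 1) {K : Subgroup G}
    (hK : ∀ t ∈ ([] : List W), t.ev γ ∈ K) :
    W.ev γ (.mul (.mul (.mul (.mul (.l 12) (.l 17)) (.l 12)) (.l 6)) (.l 17)) ∈ K :=
  TC.mem (D := c75) hL (List.forall_mem_cons.2 ⟨hL.zero_mem K, hK⟩) hr c75_head c75_blocks
    (n := (nat_lit 5)) (w := (nat_lit 18035244)) (st := (nat_lit 5334438059142)) (by decide +kernel) (by decide +kernel)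

theorem c75_mem43 {G : Type*} [Group G] {γ : ℕ → G} (hL : Lab γ ivA) (hr : ∀ t ∈ rn74, t.ev γ = 1) {K : Subgroup G}
    (hK : ∀ t ∈ ([] : List W), t.ev γ ∈ K) :
    W.ev γ (.mul (.mul (.mul (.mul (.mul (.mul (.mul (.mul (.l 12) (.l 18)) (.l 12)) (.l 6)) (.l 4)) (.l 3)) (.l 2)) (.l 1)) (.l 18)) ∈ K :=
  TC.mem (D := c75) hL (List.forall_mem_cons.2 ⟨hL.zero_mem K, hK⟩) hr c75_head c75_blocks
    (n := (nat_lit 9)) (w := (nat_lit 19827821589068)) (st := (nat_lit 0x514ca6eac964a2492086)) (by decide +kernel) (by decide +kernel)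

theorem c75_mem44 {G : Type*} [Group G] {γ : ℕ → G} (hL : Lab γ ivA) (hr : ∀ t ∈ rn74, t.ev γ = 1) {K : Subgroup G}
    (hK : ∀ t ∈ ([] : List W), t.ev γ ∈ K) :
    W.ev γ (.mul (.mul (.mul (.l 13) (.l 14)) (.l 13)) (.l 14)) ∈ K :=
  TC.mem (D := c75) hL (List.forall_mem_cons.2 ⟨hL.zero_mem K, hK⟩) hr c75_head c75_blocks
    (n := (nat_lit 4)) (w := (nat_lit 472525)) (st := (nat_lit 8794020900)) (by decide +kernel) (by decide +kernel)

theorem c75_mem45 {G : Type*} [Group G] {γ : ℕ → G} (hL : Lab γ ivA) (hr : ∀ t ∈ rn74, t.ev γ = 1) {K : Subgroup G}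
    (hK : ∀ t ∈ ([] : List W), t.ev γ ∈ K) :
    W.ev γ (.mul (.mul (.mul (.l 13) (.l 16)) (.l 13)) (.l 16)) ∈ K :=
  TC.mem (D := c75) hL (List.forall_mem_cons.2 ⟨hL.zero_mem K, hK⟩) hr c75_head c75_blocks
    (n := (nat_lit 4)) (w := (nat_lit 538125)) (st := (nat_lit 482762276)) (by decide +kernel) (by decide +kernel)

theorem c75_mem46 {G : Type*} [Group G] {γ : ℕ → G} (hL : Lab γ ivA) (hr : ∀ t ∈ rn74, t.ev γ = 1) {K : Subgroup G}
    (hK : ∀ t ∈ ([] : List W), t.ev γ ∈ K) :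
    W.ev γ (.mul (.mul (.mul (.l 14) (.l 13)) (.l 14)) (.l 13)) ∈ K :=
  TC.mem (D := c75) hL (List.forall_mem_cons.2 ⟨hL.zero_mem K, hK⟩) hr c75_head c75_blocks
    (n := (nat_lit 4)) (w := (nat_lit 440750)) (st := (nat_lit 5037233728)) (by decide +kernel) (by decide +kernel)

theorem c75_mem47 {G : Type*} [Group G] {γ : ℕ → G} (hL : Lab γ ivA) (hr : ∀ t ∈ rn74, t.ev γ = 1) {K : Subgroup G}
    (hK : ∀ t ∈ ([] : List W), t.ev γ ∈ K) :
    W.ev γ (.mul (.mul (.mul (.l 14) (.l 17)) (.l 14)) (.l 17)) ∈ K :=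
  TC.mem (D := c75) hL (List.forall_mem_cons.2 ⟨hL.zero_mem K, hK⟩) hr c75_head c75_blocks
    (n := (nat_lit 4)) (w := (nat_lit 571950)) (st := (nat_lit 10415924800)) (by decide +kernel) (by decide +kernel)

theorem c75_mem48 {G : Type*} [Group G] {γ : ℕ → G} (hL : Lab γ ivA) (hr : ∀ t ∈ rn74, t.ev γ = 1) {K : Subgroup G}
    (hK : ∀ t ∈ ([] : List W), t.ev γ ∈ K) :
    W.ev γ (.mul (.mul (.mul (.l 16) (.l 13)) (.l 16)) (.l 13)) ∈ K :=
  TC.mem (D := c75) hL (List.forall_mem_cons.2 ⟨hL.zero_mem K, hK⟩) hr c75_head c75_blocks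
    (n := (nat_lit 4)) (w := (nat_lit 442800)) (st := (nat_lit 5045379074)) (by decide +kernel) (by decide +kernel)

theorem c75_mem49 {G : Type*} [Group G] {γ : ℕ → G} (hL : Lab γ ivA) (hr : ∀ t ∈ rn74, t.ev γ = 1) {K : Subgroup G}
    (hK : ∀ t ∈ ([] : List W), t.ev γ ∈ K) :
    W.ev γ (.mul (.mul (.mul (.l 17) (.l 14)) (.l 17)) (.l 14)) ∈ K :=
  TC.mem (D := c75) hL (List.forall_mem_cons.2 ⟨hL.zero_mem K, hK⟩) hr c75_head c75_blocks
    (n := (nat_lit 4)) (w := (nat_lit 476625)) (st := (nat_lit 8804526156)) (by decide +kernel) (by decide +kernel)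

theorem c75_mem50 {G : Type*} [Group G] {γ : ℕ → G} (hL : Lab γ ivA) (hr : ∀ t ∈ rn74, t.ev γ = 1) {K : Subgroup G}
    (hK : ∀ t ∈ ([] : List W), t.ev γ ∈ K) :
    W.ev γ (.mul (.mul (.mul (.l 1) (.l 17)) (.l 1)) (.l 17)) ∈ K :=
  TC.mem (D := c75) hL (List.forall_mem_cons.2 ⟨hL.zero_mem K, hK⟩) hr c75_head c75_blocks
    (n := (nat_lit 4)) (w := (nat_lit 558625)) (st := (nat_lit 10425546810)) (by decide +kernel) (by decide +kernel)

theorem c75_mem51 {G : Type*} [Group G] {γ : ℕ → G} (hL : Lab γ ivA) (hr : ∀ t ∈ rn74, t.ev γ = 1) {K : Subgroup G}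
    (hK : ∀ t ∈ ([] : List W), t.ev γ ∈ K) :
    W.ev γ (.mul (.mul (.mul (.l 1) (.l 18)) (.l 1)) (.l 18)) ∈ K :=
  TC.mem (D := c75) hL (List.forall_mem_cons.2 ⟨hL.zero_mem K, hK⟩) hr c75_head c75_blocks
    (n := (nat_lit 4)) (w := (nat_lit 591425)) (st := (nat_lit 10911918650)) (by decide +kernel) (by decide +kernel)

theorem c75_mem52 {G : Type*} [Group G] {γ : ℕ → G} (hL : Lab γ ivA) (hr : ∀ t ∈ rn74, t.ev γ = 1) {K : Subgroup G}
    (hK : ∀ t ∈ ([] : List W), t.ev γ ∈ K) :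
    W.ev γ (.mul (.mul (.mul (.l 2) (.l 18)) (.l 2)) (.l 18)) ∈ K :=
  TC.mem (D := c75) hL (List.forall_mem_cons.2 ⟨hL.zero_mem K, hK⟩) hr c75_head c75_blocks
    (n := (nat_lit 4)) (w := (nat_lit 592450)) (st := (nat_lit 10944256010)) (by decide +kernel) (by decide +kernel)

theorem c75_mem53 {G : Type*} [Group G] {γ : ℕ → G} (hL : Lab γ ivA) (hr : ∀ t ∈ rn74, t.ev γ = 1) {K : Subgroup G}
    (hK : ∀ t ∈ ([] : List W), t.ev γ ∈ K) :
    W.ev γ (.mul (.mul (.mul (.mul (.mul (.l 4) (.l 18)) (.l 4)) (.l 18)) (.l 14)) (.l 13)) ∈ K :=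
  TC.mem (D := c75) hL (List.forall_mem_cons.2 ⟨hL.zero_mem K, hK⟩) hr c75_head c75_blocks
    (n := (nat_lit 6)) (w := (nat_lit 451482180)) (st := (nat_lit 0x4b0fae2813c28)) (by decide +kernel) (by decide +kernel)

theorem c75_mem54 {G : Type*} [Group G] {γ : ℕ → G} (hL : Lab γ ivA) (hr : ∀ t ∈ rn74, t.ev γ = 1) {K : Subgroup G}
    (hK : ∀ t ∈ ([] : List W), t.ev γ ∈ K) :
    W.ev γ (.mul (.mul (.mul (.l 14) (.l 16)) (.mul (.mul (.mul (.mul (.l 4) (.l 6)) (.l 16)) (.l 6)) (.l 4))) (.l 1)) ∈ K :=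
  TC.mem (D := c75) hL (List.forall_mem_cons.2 ⟨hL.zero_mem K, hK⟩) hr c75_head c75_blocks
    (n := (nat_lit 8)) (w := (nat_lit 38873010702)) (st := (nat_lit 0x1daa55760532914440)) (by decide +kernel) (by decide +kernel)

theorem c75_mem55 {G : Type*} [Group G] {γ : ℕ → G} (hL : Lab γ ivA) (hr : ∀ t ∈ rn74, t.ev γ = 1) {K : Subgroup G}
    (hK : ∀ t ∈ ([] : List W), t.ev γ ∈ K) :
    W.ev γ (.mul (.mul (.mul (.mul (.mul (.mul (.l 3) (.l 17)) (.l 3)) (.l 2)) (.l 17)) (.l 14)) (.l 13)) ∈ K :=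
  TC.mem (D := c75) hL (List.forall_mem_cons.2 ⟨hL.zero_mem K, hK⟩) hr c75_head c75_blocks
    (n := (nat_lit 7)) (w := (nat_lit 14446300707)) (st := (nat_lit 0x961f62582b95860)) (by decide +kernel) (by decide +kernel)

theorem c75_mem56 {G : Type*} [Group G] {γ : ℕ → G} (hL : Lab γ ivA) (hr : ∀ t ∈ rn74, t.ev γ = 1) {K : Subgroup G}
    (hK : ∀ t ∈ ([] : List W), t.ev γ ∈ K) :
    W.ev γ (.mul (.mul (.mul (.mul (.mul (.mul (.l 3) (.l 18)) (.l 3)) (.l 2)) (.l 1)) (.l 18)) (.l 14)) ∈ K :=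
  TC.mem (D := c75) hL (List.forall_mem_cons.2 ⟨hL.zero_mem K, hK⟩) hr c75_head c75_blocks
    (n := (nat_lit 7)) (w := (nat_lit 15637483075)) (st := (nat_lit 0x105736f5b2d16460)) (by decide +kernel) (by decide +kernel)

theorem c75_mem57 {G : Type*} [Group G] {γ : ℕ → G} (hL : Lab γ ivA) (hr : ∀ t ∈ rn74, t.ev γ = 1) {K : Subgroup G}
    (hK : ∀ t ∈ ([] : List W), t.ev γ ∈ K) :
    W.ev γ (.mul (.mul (.mul (.mul (.mul (.mul (.l 6) (.l 16)) (.l 6)) (.l 1)) (.l 16)) (.l 14)) (.l 13)) ∈ K :=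
  TC.mem (D := c75) hL (List.forall_mem_cons.2 ⟨hL.zero_mem K, hK⟩) hr c75_head c75_blocks
    (n := (nat_lit 7)) (w := (nat_lit 14445222406)) (st := (nat_lit 0x961f705f2f17430)) (by decide +kernel) (by decide +kernel)

theorem c75_mem58 {G : Type*} [Group G] {γ : ℕ → G} (hL : Lab γ ivA) (hr : ∀ t ∈ rn74, t.ev γ = 1) {K : Subgroup G}
    (hK : ∀ t ∈ ([] : List W), t.ev γ ∈ K) :
    W.ev γ (.mul (.mul (.mul (.mul (.mul (.mul (.l 6) (.l 18)) (.l 6)) (.l 2)) (.l 1)) (.l 18)) (.l 13)) ∈ K :=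
  TC.mem (D := c75) hL (List.forall_mem_cons.2 ⟨hL.zero_mem K, hK⟩) hr c75_head c75_blocks
    (n := (nat_lit 7)) (w := (nat_lit 14563744326)) (st := (nat_lit 0x958f74623098030)) (by decide +kernel) (by decide +kernel)

theorem c75_mem59 {G : Type*} [Group G] {γ : ℕ → G} (hL : Lab γ ivA) (hr : ∀ t ∈ rn74, t.ev γ = 1) {K : Subgroup G}
    (hK : ∀ t ∈ ([] : List W), t.ev γ ∈ K) :
    W.ev γ (.mul (.mul (.mul (.mul (.mul (.l 7) (.l 16)) (.inv (.l 7))) (.l 1)) (.l 16)) (.l 14)) ∈ K :=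
  TC.mem (D := c75) hL (List.forall_mem_cons.2 ⟨hL.zero_mem K, hK⟩) hr c75_head c75_blocks
    (n := (nat_lit 6)) (w := (nat_lit 486580743)) (st := (nat_lit 0x82a3bb3202812)) (by decide +kernel) (by decide +kernel)

theorem c75_mem60 {G : Type*} [Group G] {γ : ℕ → G} (hL : Lab γ ivA) (hr : ∀ t ∈ rn74, t.ev γ = 1) {K : Subgroup G}
    (hK : ∀ t ∈ ([] : List W), t.ev γ ∈ K) :
    W.ev γ (.mul (.mul (.mul (.l 13) (.l 17)) (.l 13)) (.l 17)) ∈ K :=
  TC.mem (D := c75) hL (List.forall_mem_cons.2 ⟨hL.zero_mem K, hK⟩) hr c75_head c75_blocks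
    (n := (nat_lit 4)) (w := (nat_lit 570925)) (st := (nat_lit 10433434660)) (by decide +kernel) (by decide +kernel)

theorem c75_mem61 {G : Type*} [Group G] {γ : ℕ → G} (hL : Lab γ ivA) (hr : ∀ t ∈ rn74, t.ev γ = 1) {K : Subgroup G}
    (hK : ∀ t ∈ ([] : List W), t.ev γ ∈ K) :
    W.ev γ (.mul (.mul (.mul (.l 13) (.l 18)) (.l 13)) (.l 18)) ∈ K :=
  TC.mem (D := c75) hL (List.forall_mem_cons.2 ⟨hL.zero_mem K, hK⟩) hr c75_head c75_blocks
    (n := (nat_lit 4)) (w := (nat_lit 603725)) (st := (nat_lit 10968730660)) (by decide +kernel) (by decide +kernel)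

theorem c75_mem62 {G : Type*} [Group G] {γ : ℕ → G} (hL : Lab γ ivA) (hr : ∀ t ∈ rn74, t.ev γ = 1) {K : Subgroup G}
    (hK : ∀ t ∈ ([] : List W), t.ev γ ∈ K) :
    W.ev γ (.mul (.mul (.mul (.l 14) (.l 16)) (.l 14)) (.l 16)) ∈ K :=
  TC.mem (D := c75) hL (List.forall_mem_cons.2 ⟨hL.zero_mem K, hK⟩) hr c75_head c75_blocks
    (n := (nat_lit 4)) (w := (nat_lit 539150)) (st := (nat_lit 494486592)) (by decide +kernel) (by decide +kernel)

theorem c75_mem63 {G : Type*} [Group G] {γ : ℕ → G} (hL : Lab γ ivA) (hr : ∀ t ∈ rn74, t.ev γ = 1) {K : Subgroup G}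
    (hK : ∀ t ∈ ([] : List W), t.ev γ ∈ K) :
    W.ev γ (.mul (.mul (.mul (.l 14) (.l 18)) (.l 14)) (.l 18)) ∈ K :=
  TC.mem (D := c75) hL (List.forall_mem_cons.2 ⟨hL.zero_mem K, hK⟩) hr c75_head c75_blocks
    (n := (nat_lit 4)) (w := (nat_lit 604750)) (st := (nat_lit 10967150656)) (by decide +kernel) (by decide +kernel)

theorem c75_mem64 {G : Type*} [Group G] {γ : ℕ → G} (hL : Lab γ ivA) (hr : ∀ t ∈ rn74, t.ev γ = 1) {K : Subgroup G}
    (hK : ∀ t ∈ ([] : List W), t.ev γ ∈ K) :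
    W.ev γ (.mul (.mul (.mul (.l 16) (.l 14)) (.l 16)) (.l 14)) ∈ K :=
  TC.mem (D := c75) hL (List.forall_mem_cons.2 ⟨hL.zero_mem K, hK⟩) hr c75_head c75_blocks
    (n := (nat_lit 4)) (w := (nat_lit 475600)) (st := (nat_lit 8767061506)) (by decide +kernel) (by decide +kernel)

theorem c75_mem65 {G : Type*} [Group G] {γ : ℕ → G} (hL : Lab γ ivA) (hr : ∀ t ∈ rn74, t.ev γ = 1) {K : Subgroup G}
    (hK : ∀ t ∈ ([] : List W), t.ev γ ∈ K) :
    W.ev γ (.mul (.mul (.mul (.l 17) (.l 13)) (.l 17)) (.l 13)) ∈ K :=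
  TC.mem (D := c75) hL (List.forall_mem_cons.2 ⟨hL.zero_mem K, hK⟩) hr c75_head c75_blocks
    (n := (nat_lit 4)) (w := (nat_lit 443825)) (st := (nat_lit 5019464268)) (by decide +kernel) (by decide +kernel)

theorem c75_mem66 {G : Type*} [Group G] {γ : ℕ → G} (hL : Lab γ ivA) (hr : ∀ t ∈ rn74, t.ev γ = 1) {K : Subgroup G}
    (hK : ∀ t ∈ ([] : List W), t.ev γ ∈ K) :
    W.ev γ (.mul (.mul (.mul (.l 18) (.l 13)) (.l 18)) (.l 13)) ∈ K :=
  TC.mem (D := c75) hL (List.forall_mem_cons.2 ⟨hL.zero_mem K, hK⟩) hr c75_head c75_blocks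
    (n := (nat_lit 4)) (w := (nat_lit 444850)) (st := (nat_lit 5018412624)) (by decide +kernel) (by decide +kernel)

theorem c75_mem67 {G : Type*} [Group G] {γ : ℕ → G} (hL : Lab γ ivA) (hr : ∀ t ∈ rn74, t.ev γ = 1) {K : Subgroup G}
    (hK : ∀ t ∈ ([] : List W), t.ev γ ∈ K) :
    W.ev γ (.mul (.mul (.mul (.l 18) (.l 14)) (.l 18)) (.l 14)) ∈ K :=
  TC.mem (D := c75) hL (List.forall_mem_cons.2 ⟨hL.zero_mem K, hK⟩) hr c75_head c75_blocks
    (n := (nat_lit 4)) (w := (nat_lit 477650)) (st := (nat_lit 8772835920)) (by decide +kernel) (by decide +kernel)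

theorem c75_mem68 {G : Type*} [Group G] {γ : ℕ → G} (hL : Lab γ ivA) (hr : ∀ t ∈ rn74, t.ev γ = 1) {K : Subgroup G}
    (hK : ∀ t ∈ ([] : List W), t.ev γ ∈ K) :
    W.ev γ (.mul (.mul (.pow (.mul (.l 16) (.l 17)) 2) (.l 2)) (.l 1)) ∈ K :=
  TC.mem (D := c75) hL (List.forall_mem_cons.2 ⟨hL.zero_mem K, hK⟩) hr c75_head c75_blocks
    (n := (nat_lit 6)) (w := (nat_lit 36225584)) (st := (nat_lit 0x76cfc2b300802)) (by decide +kernel) (by decide +kernel)

theorem c75_mem69 {G : Type*} [Group G] {γ : ℕ → G} (hL : Lab γ ivA) (hr : ∀ t ∈ rn74, t.ev γ = 1) {K : Subgroup G}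
    (hK : ∀ t ∈ ([] : List W), t.ev γ ∈ K) :
    W.ev γ (.mul (.mul (.mul (.mul (.mul (.l 16) (.l 17)) (.l 16)) (.l 2)) (.l 1)) (.l 17)) ∈ K :=
  TC.mem (D := c75) hL (List.forall_mem_cons.2 ⟨hL.zero_mem K, hK⟩) hr c75_head c75_blocks
    (n := (nat_lit 6)) (w := (nat_lit 571556400)) (st := (nat_lit 0x9b5abd3300802)) (by decide +kernel) (by decide +kernel)

theorem c75_mem70 {G : Type*} [Group G] {γ : ℕ → G} (hL : Lab γ ivA) (hr : ∀ t ∈ rn74, t.ev γ = 1) {K : Subgroup G}
    (hK : ∀ t ∈ ([] : List W), t.ev γ ∈ K) :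
    W.ev γ (.mul (.mul (.mul (.mul (.l 16) (.l 18)) (.l 16)) (.l 2)) (.l 18)) ∈ K :=
  TC.mem (D := c75) hL (List.forall_mem_cons.2 ⟨hL.zero_mem K, hK⟩) hr c75_head c75_blocks
    (n := (nat_lit 5)) (w := (nat_lit 18956880)) (st := (nat_lit 5603558268930)) (by decide +kernel) (by decide +kernel)

theorem c75_mem71 {G : Type*} [Group G] {γ : ℕ → G} (hL : Lab γ ivA) (hr : ∀ t ∈ rn74, t.ev γ = 1) {K : Subgroup G}
    (hK : ∀ t ∈ ([] : List W), t.ev γ ∈ K) :
    W.ev γ (.mul (.mul (.mul (.mul (.mul (.l 17) (.l 16)) (.l 17)) (.l 2)) (.l 1)) (.l 16)) ∈ K :=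
  TC.mem (D := c75) hL (List.forall_mem_cons.2 ⟨hL.zero_mem K, hK⟩) hr c75_head c75_blocks
    (n := (nat_lit 6)) (w := (nat_lit 538002961)) (st := (nat_lit 125122116691020)) (by decide +kernel) (by decide +kernel)

theorem c75_mem72 {G : Type*} [Group G] {γ : ℕ → G} (hL : Lab γ ivA) (hr : ∀ t ∈ rn74, t.ev γ = 1) {K : Subgroup G}
    (hK : ∀ t ∈ ([] : List W), t.ev γ ∈ K) :
    W.ev γ (.mul (.mul (.mul (.mul (.l 17) (.l 18)) (.l 17)) (.l 1)) (.l 18)) ∈ K :=
  TC.mem (D := c75) hL (List.forall_mem_cons.2 ⟨hL.zero_mem K, hK⟩) hr c75_head c75_blocks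
    (n := (nat_lit 5)) (w := (nat_lit 18925137)) (st := (nat_lit 5586916322380)) (by decide +kernel) (by decide +kernel)

theorem c75_mem73 {G : Type*} [Group G] {γ : ℕ → G} (hL : Lab γ ivA) (hr : ∀ t ∈ rn74, t.ev γ = 1) {K : Subgroup G}
    (hK : ∀ t ∈ ([] : List W), t.ev γ ∈ K) :
    W.ev γ (.mul (.mul (.mul (.mul (.l 18) (.l 16)) (.l 18)) (.l 2)) (.l 16)) ∈ K :=
  TC.mem (D := c75) hL (List.forall_mem_cons.2 ⟨hL.zero_mem K, hK⟩) hr c75_head c75_blocks
    (n := (nat_lit 5)) (w := (nat_lit 16861714)) (st := (nat_lit 245185491024)) (by decide +kernel) (by decide +kernel)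

theorem c75_mem74 {G : Type*} [Group G] {γ : ℕ → G} (hL : Lab γ ivA) (hr : ∀ t ∈ rn74, t.ev γ = 1) {K : Subgroup G}
    (hK : ∀ t ∈ ([] : List W), t.ev γ ∈ K) :
    W.ev γ (.mul (.mul (.mul (.mul (.l 18) (.l 17)) (.l 18)) (.l 1)) (.l 17)) ∈ K :=
  TC.mem (D := c75) hL (List.forall_mem_cons.2 ⟨hL.zero_mem K, hK⟩) hr c75_head c75_blocks
    (n := (nat_lit 5)) (w := (nat_lit 17877554)) (st := (nat_lit 5337943487568)) (by decide +kernel) (by decide +kernel)

theorem c75_mem75 {G : Type*} [Group G] {γ : ℕ → G} (hL : Lab γ ivA) (hr : ∀ t ∈ rn74, t.ev γ = 1) {K : Subgroup G}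
    (hK : ∀ t ∈ ([] : List W), t.ev γ ∈ K) :
    W.ev γ (.mul (.mul (.mul (.mul (.mul (.mul (.mul (.l 16) (.l 17)) (.l 18)) (.l 2)) (.l 16)) (.l 17)) (.l 18)) (.l 2)) ∈ K :=
  TC.mem (D := c75) hL (List.forall_mem_cons.2 ⟨hL.zero_mem K, hK⟩) hr c75_head c75_blocks
    (n := (nat_lit 8)) (w := (nat_lit 88634116656)) (st := (nat_lit 0x58341f82040180802)) (by decide +kernel) (by decide +kernel)

theorem c75_mem76 {G : Type*} [Group G] {γ : ℕ → G} (hL : Lab γ ivA) (hr : ∀ t ∈ rn74, t.ev γ = 1) {K : Subgroup G}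
    (hK : ∀ t ∈ ([] : List W), t.ev γ ∈ K) :
    W.ev γ (.mul (.mul (.mul (.l 7) (.mul (.mul (.mul (.l 16) (.l 17)) (.l 18)) (.l 2))) (.inv (.l 7))) (.mul (.mul (.mul (.mul (.mul (.l 7) (.l 16)) (.l 17)) (.l 18)) (.l 2)) (.inv (.l 7)))) ∈ K :=
  TC.mem (D := c75) hL (List.forall_mem_cons.2 ⟨hL.zero_mem K, hK⟩) hr c75_head c75_blocks
    (n := (nat_lit 10)) (w := (nat_lit 284311268443655)) (st := (nat_lit 0x261d0f887341a0c0582812)) (by decide +kernel) (by decide +kernel)

theorem c75_mem77 {G : Type*} [Group G] {γ : ℕ → G} (hL : Lab γ ivA) (hr : ∀ t ∈ rn74, t.ev γ = 1) {K : Subgroup G}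
    (hK : ∀ t ∈ ([] : List W), t.ev γ ∈ K) :
    W.ev γ (.mul (.mul (.mul (.mul (.mul (.inv (.mul (.mul (.mul (.mul (.inv (.l 7)) (.l 16)) (.l 17)) (.l 18)) (.l 7))) (.mul (.mul (.mul (.l 17) (.l 12)) (.l 18)) (.l 12))) (.mul (.mul (.mul (.mul (.inv (.l 7)) (.l 16)) (.l 17)) (.l 18)) (.l 7))) (.l 6)) (.l 4)) (.l 2)) ∈ K :=
  TC.mem (D := c75) hL (List.forall_mem_cons.2 ⟨hL.zero_mem K, hK⟩) hr c75_head c75_blocks
    (n := (nat_lit 17)) (w := (nat_lit 0x2218f28c10c9322784648)) (st := (nat_lit 0xb76bbde2f37abdf20ea74399c8e270379b834)) (by decide +kernel) (by decide +kernel)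

def c75_loops : List W := [.mul (.mul (.mul (.mul (.l 16) (.l 17)) (.l 18)) (.l 2)) (.mul (.mul (.mul (.l 16) (.l 17)) (.l 18)) (.l 2)), .mul (.mul (.mul (.mul (.mul (.mul (.l 7) (.l 16)) (.l 17)) (.l 18)) (.l 2)) (.inv (.l 7))) (.mul (.mul (.mul (.mul (.mul (.l 7) (.l 16)) (.l 17)) (.l 18)) (.l 2)) (.inv (.l 7))), .mul (.mul (.mul (.inv (.l 13)) (.inv (.l 4))) (.l 13)) (.l 4), .mul (.mul (.mul (.inv (.l 13)) (.inv (.l 5))) (.l 13)) (.l 5), .mul (.mul (.mul (.inv (.l 13)) (.inv (.l 6))) (.l 13)) (.l 6), .mul (.mul (.mul (.inv (.l 13)) (.inv (.l 7))) (.l 13)) (.l 7), .mul (.mul (.mul (.mul (.l 13) (.l 12)) (.l 13)) (.l 12)) (.l 1), .mul (.mul (.mul (.l 9) (.l 13)) (.inv (.l 9))) (.l 14), .mul (.mul (.mul (.inv (.l 9)) (.l 13)) (.l 9)) (.l 15), .mul (.mul (.mul (.l 7) (.l 14)) (.inv (.l 7))) (.l 16), .mul (.mul (.mul (.l 9) (.l 16)) (.inv (.l 9))) (.l 17), .mul (.mul (.mul (.inv (.l 9)) (.l 16)) (.l 9)) (.l 18), .mul (.mul (.l 13) (.l 14)) (.l 15),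 .mul (.mul (.mul (.l 1) (.l 13)) (.l 1)) (.l 13), .mul (.mul (.mul (.l 1) (.l 14)) (.l 1)) (.l 14), .mul (.mul (.mul (.l 1) (.l 16)) (.l 1)) (.l 16), .mul (.mul (.mul (.l 2) (.l 13)) (.l 2)) (.l 13), .mul (.mul (.mul (.l 2) (.l 14)) (.l 2)) (.l 14), .mul (.mul (.mul (.l 2) (.l 16)) (.l 2)) (.l 16), .mul (.mul (.mul (.l 2) (.l 17)) (.l 2)) (.l 17), .mul (.mul (.mul (.l 3) (.l 13)) (.l 3)) (.l 13), .mul (.mul (.mul (.l 3) (.l 14)) (.l 3)) (.l 14), .mul (.mul (.mul (.l 3) (.l 16)) (.l 3)) (.l 16), .mul (.mul (.mul (.l 4) (.l 13)) (.l 4)) (.l 13), .mul (.mul (.mul (.l 4) (.l 14)) (.l 4)) (.l 14), .mul (.mul (.mul (.mul (.l 4) (.l 16)) (.l 4)) (.l 16)) (.l 13), .mul (.mul (.mul (.mul (.l 4) (.l 17)) (.l 4)) (.l 17)) (.l 14), .mul (.mul (.mul (.l 5) (.l 13)) (.l 5)) (.l 13), .mul (.mul (.mul (.mul (.l 5) (.l 14)) (.l 5)) (.l 14)) (.l 13), .mul (.mul (.mul (.l 5) (.l 16)) (.l 5)) (.l 16), .mul (.mul (.mul (.l 5) (.l 17)) (.l 5)) (.l 18), .mul (.mul (.mul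 (.l 5) (.l 18)) (.l 5)) (.l 17), .mul (.mul (.mul (.l 6) (.l 13)) (.l 6)) (.l 13), .mul (.mul (.mul (.l 6) (.l 14)) (.l 6)) (.l 14), .mul (.mul (.mul (.l 6) (.l 17)) (.l 6)) (.l 17), .mul (.mul (.mul (.l 7) (.l 13)) (.inv (.l 7))) (.l 13), .mul (.mul (.mul (.mul (.l 9) (.l 14)) (.inv (.l 9))) (.l 14)) (.l 13), .mul (.mul (.mul (.l 9) (.l 17)) (.inv (.l 9))) (.l 18), .mul (.mul (.mul (.l 9) (.l 18)) (.inv (.l 9))) (.l 16), .mul (.mul (.mul (.mul (.l 12) (.l 13)) (.l 12)) (.l 1)) (.l 13), .mul (.mul (.mul (.mul (.l 12) (.l 14)) (.l 12)) (.l 2)) (.l 14), .mul (.mul (.mul (.mul (.l 12) (.l 16)) (.l 12)) (.l 3)) (.l 16), .mul (.mul (.mul (.mul (.l 12) (.l 17)) (.l 12)) (.l 6)) (.l 17), .mul (.mul (.mul (.mul (.mul (.mul (.mul (.mul (.l 12) (.l 18)) (.l 12)) (.l 6)) (.l 4)) (.l 3)) (.l 2)) (.l 1)) (.l 18), .mul (.mul (.mul (.l 13) (.l 14)) (.l 13)) (.l 14), .mul (.mul (.mul (.l 13) (.l 16)) (.l 13)) (.l 16), .mul (.mul (.mul (.l 14) (.l 13)) (.l 14)) (.l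 13), .mul (.mul (.mul (.l 14) (.l 17)) (.l 14)) (.l 17), .mul (.mul (.mul (.l 16) (.l 13)) (.l 16)) (.l 13), .mul (.mul (.mul (.l 17) (.l 14)) (.l 17)) (.l 14), .mul (.mul (.mul (.l 1) (.l 17)) (.l 1)) (.l 17), .mul (.mul (.mul (.l 1) (.l 18)) (.l 1)) (.l 18), .mul (.mul (.mul (.l 2) (.l 18)) (.l 2)) (.l 18), .mul (.mul (.mul (.mul (.mul (.l 4) (.l 18)) (.l 4)) (.l 18)) (.l 14)) (.l 13), .mul (.mul (.mul (.l 14) (.l 16)) (.mul (.mul (.mul (.mul (.l 4) (.l 6)) (.l 16)) (.l 6)) (.l 4))) (.l 1), .mul (.mul (.mul (.mul (.mul (.mul (.l 3) (.l 17)) (.l 3)) (.l 2)) (.l 17)) (.l 14)) (.l 13), .mul (.mul (.mul (.mul (.mul (.mul (.l 3) (.l 18)) (.l 3)) (.l 2)) (.l 1)) (.l 18)) (.l 14), .mul (.mul (.mul (.mul (.mul (.mul (.l 6) (.l 16)) (.l 6)) (.l 1)) (.l 16)) (.l 14)) (.l 13), .mul (.mul (.mul (.mul (.mul (.mul (.l 6) (.l 18)) (.l 6)) (.l 2)) (.l 1)) (.l 18)) (.l 13), .mul (.mul (.mul (.mul (.mul (.l 7) (.l 16)) (.inv (.l 7))) (.l 1)) (.l 16)) (.l 14), .mul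 (.mul (.mul (.l 13) (.l 17)) (.l 13)) (.l 17), .mul (.mul (.mul (.l 13) (.l 18)) (.l 13)) (.l 18), .mul (.mul (.mul (.l 14) (.l 16)) (.l 14)) (.l 16), .mul (.mul (.mul (.l 14) (.l 18)) (.l 14)) (.l 18), .mul (.mul (.mul (.l 16) (.l 14)) (.l 16)) (.l 14), .mul (.mul (.mul (.l 17) (.l 13)) (.l 17)) (.l 13), .mul (.mul (.mul (.l 18) (.l 13)) (.l 18)) (.l 13), .mul (.mul (.mul (.l 18) (.l 14)) (.l 18)) (.l 14), .mul (.mul (.pow (.mul (.l 16) (.l 17)) 2) (.l 2)) (.l 1), .mul (.mul (.mul (.mul (.mul (.l 16) (.l 17)) (.l 16)) (.l 2)) (.l 1)) (.l 17), .mul (.mul (.mul (.mul (.l 16) (.l 18)) (.l 16)) (.l 2)) (.l 18), .mul (.mul (.mul (.mul (.mul (.l 17) (.l 16)) (.l 17)) (.l 2)) (.l 1)) (.l 16), .mul (.mul (.mul (.mul (.l 17) (.l 18)) (.l 17)) (.l 1)) (.l 18), .mul (.mul (.mul (.mul (.l 18) (.l 16)) (.l 18)) (.l 2)) (.l 16), .mul (.mul (.mul (.mul (.l 18) (.l 17)) (.l 18)) (.l 1)) (.l 17), .mul (.mul (.mul (.mul (.mul (.mul (.mul (.l 16) (.l 17)) (.l 18))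 (.l 2)) (.l 16)) (.l 17)) (.l 18)) (.l 2), .mul (.mul (.mul (.l 7) (.mul (.mul (.mul (.l 16) (.l 17)) (.l 18)) (.l 2))) (.inv (.l 7))) (.mul (.mul (.mul (.mul (.mul (.l 7) (.l 16)) (.l 17)) (.l 18)) (.l 2)) (.inv (.l 7))), .mul (.mul (.mul (.mul (.mul (.inv (.mul (.mul (.mul (.mul (.inv (.l 7)) (.l 16)) (.l 17)) (.l 18)) (.l 7))) (.mul (.mul (.mul (.l 17) (.l 12)) (.l 18)) (.l 12))) (.mul (.mul (.mul (.mul (.inv (.l 7)) (.l 16)) (.l 17)) (.l 18)) (.l 7))) (.l 6)) (.l 4)) (.l 2)]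

theorem c75_mems {G : Type*} [Group G] {γ : ℕ → G} (hL : Lab γ ivA) (hr : ∀ t ∈ rn74, t.ev γ = 1) {K : Subgroup G}
    (hK : ∀ t ∈ ([] : List W), t.ev γ ∈ K) :
    ∀ t ∈ c75_loops, t.ev γ ∈ K :=
  List.forall_mem_cons.2 ⟨c75_mem0 hL hr hK,
    List.forall_mem_cons.2 ⟨c75_mem1 hL hr hK,
    List.forall_mem_cons.2 ⟨c75_mem2 hL hr hK,
    List.forall_mem_cons.2 ⟨c75_mem3 hL hr hK,
    List.forall_mem_cons.2 ⟨c75_mem4 hL hr hK,
    List.forall_mem_cons.2 ⟨c75_mem5 hL hr hK,
    List.forall_mem_cons.2 ⟨c75_mem6 hL hr hK,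
    List.forall_mem_cons.2 ⟨c75_mem7 hL hr hK,
    List.forall_mem_cons.2 ⟨c75_mem8 hL hr hK,
    List.forall_mem_cons.2 ⟨c75_mem9 hL hr hK,
    List.forall_mem_cons.2 ⟨c75_mem10 hL hr hK,
    List.forall_mem_cons.2 ⟨c75_mem11 hL hr hK,
    List.forall_mem_cons.2 ⟨c75_mem12 hL hr hK,
    List.forall_mem_cons.2 ⟨c75_mem13 hL hr hK,
    List.forall_mem_cons.2 ⟨c75_mem14 hL hr hK,
    List.forall_mem_cons.2 ⟨c75_mem15 hL hr hK,
    List.forall_mem_cons.2 ⟨c75_mem16 hL hr hK,
    List.forall_mem_cons.2 ⟨c75_mem17 hL hr hK,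
    List.forall_mem_cons.2 ⟨c75_mem18 hL hr hK,
    List.forall_mem_cons.2 ⟨c75_mem19 hL hr hK,
    List.forall_mem_cons.2 ⟨c75_mem20 hL hr hK,
    List.forall_mem_cons.2 ⟨c75_mem21 hL hr hK,
    List.forall_mem_cons.2 ⟨c75_mem22 hL hr hK,
    List.forall_mem_cons.2 ⟨c75_mem23 hL hr hK,
    List.forall_mem_cons.2 ⟨c75_mem24 hL hr hK,
    List.forall_mem_cons.2 ⟨c75_mem25 hL hr hK,
    List.forall_mem_cons.2 ⟨c75_mem26 hL hr hK,
    List.forall_mem_cons.2 ⟨c75_mem27 hL hr hK,
    List.forall_mem_cons.2 ⟨c75_mem28 hL hr hK,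
    List.forall_mem_cons.2 ⟨c75_mem29 hL hr hK,
    List.forall_mem_cons.2 ⟨c75_mem30 hL hr hK,
    List.forall_mem_cons.2 ⟨c75_mem31 hL hr hK,
    List.forall_mem_cons.2 ⟨c75_mem32 hL hr hK,
    List.forall_mem_cons.2 ⟨c75_mem33 hL hr hK,
    List.forall_mem_cons.2 ⟨c75_mem34 hL hr hK,
    List.forall_mem_cons.2 ⟨c75_mem35 hL hr hK,
    List.forall_mem_cons.2 ⟨c75_mem36 hL hr hK,
    List.forall_mem_cons.2 ⟨c75_mem37 hL hr hK,
    List.forall_mem_cons.2 ⟨c75_mem38 hL hr hK,
    List.forall_mem_cons.2 ⟨c75_mem39 hL hr hK,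
    List.forall_mem_cons.2 ⟨c75_mem40 hL hr hK,
    List.forall_mem_cons.2 ⟨c75_mem41 hL hr hK,
    List.forall_mem_cons.2 ⟨c75_mem42 hL hr hK,
    List.forall_mem_cons.2 ⟨c75_mem43 hL hr hK,
    List.forall_mem_cons.2 ⟨c75_mem44 hL hr hK,
    List.forall_mem_cons.2 ⟨c75_mem45 hL hr hK,
    List.forall_mem_cons.2 ⟨c75_mem46 hL hr hK,
    List.forall_mem_cons.2 ⟨c75_mem47 hL hr hK,
    List.forall_mem_cons.2 ⟨c75_mem48 hL hr hK,
    List.forall_mem_cons.2 ⟨c75_mem49 hL hr hK,
    List.forall_mem_cons.2 ⟨c75_mem50 hL hr hK,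
    List.forall_mem_cons.2 ⟨c75_mem51 hL hr hK,
    List.forall_mem_cons.2 ⟨c75_mem52 hL hr hK,
    List.forall_mem_cons.2 ⟨c75_mem53 hL hr hK,
    List.forall_mem_cons.2 ⟨c75_mem54 hL hr hK,
    List.forall_mem_cons.2 ⟨c75_mem55 hL hr hK,
    List.forall_mem_cons.2 ⟨c75_mem56 hL hr hK,
    List.forall_mem_cons.2 ⟨c75_mem57 hL hr hK,
    List.forall_mem_cons.2 ⟨c75_mem58 hL hr hK,
    List.forall_mem_cons.2 ⟨c75_mem59 hL hr hK,
    List.forall_mem_cons.2 ⟨c75_mem60 hL hr hK,
    List.forall_mem_cons.2 ⟨c75_mem61 hL hr hK,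
    List.forall_mem_cons.2 ⟨c75_mem62 hL hr hK,
    List.forall_mem_cons.2 ⟨c75_mem63 hL hr hK,
    List.forall_mem_cons.2 ⟨c75_mem64 hL hr hK,
    List.forall_mem_cons.2 ⟨c75_mem65 hL hr hK,
    List.forall_mem_cons.2 ⟨c75_mem66 hL hr hK,
    List.forall_mem_cons.2 ⟨c75_mem67 hL hr hK,
    List.forall_mem_cons.2 ⟨c75_mem68 hL hr hK,
    List.forall_mem_cons.2 ⟨c75_mem69 hL hr hK,
    List.forall_mem_cons.2 ⟨c75_mem70 hL hr hK,
    List.forall_mem_cons.2 ⟨c75_mem71 hL hr hK,
    List.forall_mem_cons.2 ⟨c75_mem72 hL hr hK,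
    List.forall_mem_cons.2 ⟨c75_mem73 hL hr hK,
    List.forall_mem_cons.2 ⟨c75_mem74 hL hr hK,
    List.forall_mem_cons.2 ⟨c75_mem75 hL hr hK,
    List.forall_mem_cons.2 ⟨c75_mem76 hL hr hK,
    List.forall_mem_cons.2 ⟨c75_mem77 hL hr hK,
    fun _ h => absurd h List.not_mem_nil⟩⟩⟩⟩⟩⟩⟩⟩⟩⟩⟩⟩⟩⟩⟩⟩⟩⟩⟩⟩⟩⟩⟩⟩⟩⟩⟩⟩⟩⟩⟩⟩⟩⟩⟩⟩⟩⟩⟩⟩⟩⟩⟩⟩⟩⟩⟩⟩⟩⟩⟩⟩⟩⟩⟩⟩⟩⟩⟩⟩⟩⟩⟩⟩⟩⟩⟩⟩⟩⟩⟩⟩⟩⟩⟩⟩⟩⟩

theorem tn74 {γ : ℕ → G} (S : T.Wk D o γ ivA 4096) (F : Fo D) (R : Ps D) (h : Al γ rn74) : T.Fin D :=
  have k := (Al.bot (c75_mems S.lab h (nil_bot γ)))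
  have S' := S.ext [.l 13, .l 14, .l 15, .l 16, .l 17, .l 18, .mul (.mul (.mul (.l 16) (.l 17)) (.l 18)) (.l 2), .mul (.mul (.mul (.mul (.mul (.l 7) (.l 16)) (.l 17)) (.l 18)) (.l 2)) (.inv (.l 7)), .l 0, .l 0, .l 0, .l 0, .l 0, .l 0, .l 0, .l 0, .l 0] ivA 4096 (by decide +kernel) (k.triv S.lab (by decide +kernel))
  tWyub S' F R ((Al.new (k.triv S.lab (by decide +kernel))).app (S'.r0 F))

def rn76 : List W := List.map (sb (.mul (.mul (.inv (.mul (.mul (.mul (.mul (.inv (.l 7)) (.l 16)) (.l 17)) (.l 18)) (.l 7))) (.mul (.mul (.mul (.l 17) (.l 12)) (.l 18)) (.l 12))) (.mul (.mul (.mul (.mul (.inv (.l 7)) (.l 16)) (.l 17)) (.l 18)) (.l 7)))) [.mul (.l 30) (.inv (.mul (.mul (.mul (.l 1) (.l 2)) (.l 4)) (.l 6)))] ++ rn72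

def c77_F : Tr := .leaf (nat_lit 0x81080d00d0118fe8fd80f87d10f17c3fb47594e96d92e96c8cc8eb12b16a8068688e68e78078040040089079660e60af14e1666a66e50d10e40e30e26a86e382385f0db0dc72875c95b92a74c75b74d75a74b7598a38d88558537017519239500a60ce94b9321cd1cb91d94c63e64763364662d64562964409c0c34815424a85414a354039243f32633e32033d2a62bc2a82bb2812ba2a32b97387268a08b86b66818128362202341811b31a01b21921b112612f10112e12012d11212c0810ab0a00aa0920a94a75281061285254a63814247237124a25236a06a351f4a061d61c69969a6976986956966936940fe08c97d90a97c90987b87a8fa8f99799783f84773773762762676756749749736736728f28f14713f087086f8ef8ee96e91a8ed8a886c82896b9268ea8e986982696890116711d8668028e58923e440a9639121621613613609609180df0de35e35d85d81895c92015b15a1da1d99599301581571d71d68d68b035535425421d35335225225185182025024f94f9148ce89d14d14c0cc0a824b24a34a3496496489489438c78c38468437457436c46c364360094291e8c189e74071e6bf6898be89873d71893c9168bb89683a8167397162382378b78942362358358147347148338307327306b16b01b01808af88582e80572d7056ac68582b81d72a71d6a969d9289008278218a688082581e7247097a37806a26a14a150072070069f69e51e48009d08069c69b61b61239a40039941231830031731229628029529221420021321269268081181089088f90f90e10e10910d10c90c90b88b88a80a809409380808807887886906905105100104103903902882881801800000000)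
def c77_T : Tr := .leaf (nat_lit 0x1fbefcf7ebcf8efdbaf4e7cb8f0dfbb6ecd7ab4e8cf9b2e4c78b0e0bf7aedcb76acd8af5aad4a74a8d09f3a6cc972a4c88f1a2c4870a0c07ef9ebc76e9cb86ed9ab466c98b05eb96ac56a94a84e992a446890a03e78e9c3668c982e58a9426488901e3868c16284880e182840608080)
def c77_P : Tr := .node (.node (.leaf (nat_lit 0x3c0b09a00044761614401088e82c01800109c858258780210130526f388040f9c0dc28208030f808526b368040f1b0d428128030f1a050410001d33180060003864301040006cc460128000d178144d000192e02806000305a051040005cb00a128000b1587403000152a0e88200028521d0940004ca043278001a140160d00011260f49600066480900c010c84847002352310c8a0006246208001a9007a3f000301c0d8483b0062f1a094660085c30128bc000b4582515800160a04a270002b))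
  (.leaf (nat_lit 0xff800ff800ff800ff800ff800ff800ff800ff800ff800ff800ff800ff800ff800ff800ff800ff800ffe6044000ca22106532efc0dc0300be82e197e80201be828f9c9802013e03a1f00011753a1cce471381bcdc1a0ed9eed77bc5e6f57b80900368a03b4e80101b60a00b2e8010135898514c80201b51a44c01c7002011a00228c54010099c9dbd0010ce0020000ca10bf3300e0980602be1781a0f00803)))
  (.leaf (nat_lit 0x24a4c018159a01408cc020089b5a00601650909a00014c80a04882a30060962309803012b1c020218c242880005af978ba180961e0100eb88d5ac0004170402880006952a9680020d5b59d340042eb4b2d5c0086d6465ac80006ac15cac300961e0100aa652288803b54aac02039444001800062813c2812c3c01849383a2680007ca480514ca6eac0040c964a249208628a65360145498280ec008411c8626d00010a5188601ca8010a1148620c800109d114b8394c008bd0c3b830011b210780300034410f0a20084c801e0961e0084a7e09094008b8f83026800121e8604100023))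
def c77_N_0 : Tr := .node (.node (.node (.node (.leaf (nat_lit 0x22218f28c10c9322784648))
  (.leaf (nat_lit 132)))
  (.node (.leaf (nat_lit 14095813))
  (.leaf (nat_lit 14350))))
  (.node (.node (.leaf (nat_lit 591425))
  (.leaf (nat_lit 329)))
  (.leaf (nat_lit 469417))))
  (.node (.node (.node (.leaf (nat_lit 14563744326))
  (.leaf (nat_lit 6150)))
  (.node (.leaf (nat_lit 16888332))
  (.leaf (nat_lit 561))))
  (.node (.node (.leaf (nat_lit 526850))
  (.leaf (nat_lit 396)))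
  (.leaf (nat_lit 33))))
def c77_N_1 : Tr := .node (.node (.node (.node (.leaf (nat_lit 36225584))
  (.leaf (nat_lit 165)))
  (.node (.leaf (nat_lit 563750))
  (.leaf (nat_lit 528))))
  (.node (.node (.leaf (nat_lit 460225))
  (.leaf (nat_lit 9226)))
  (.leaf (nat_lit 599562))))
  (.node (.node (.node (.leaf (nat_lit 539150))
  (.leaf (nat_lit 232)))
  (.node (.leaf (nat_lit 177325))
  (.leaf (nat_lit 18450))))
  (.node (.node (.leaf (nat_lit 527875))
  (.leaf (nat_lit 429)))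
  (.leaf (nat_lit 2050))))
def c77_N_2 : Tr := .node (.node (.node (.node (.leaf (nat_lit 18956880))
  (.leaf (nat_lit 4100)))
  (.node (.leaf (nat_lit 595493))
  (.leaf (nat_lit 495))))
  (.node (.node (.leaf (nat_lit 451482180))
  (.leaf (nat_lit 298)))
  (.leaf (nat_lit 532935))))
  (.node (.node (.node (.leaf (nat_lit 570925))
  (.leaf (nat_lit 263)))
  (.node (.leaf (nat_lit 19827821589068))
  (.leaf (nat_lit 594))))
  (.node (.node (.leaf (nat_lit 429475))
  (.leaf (nat_lit 12300)))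
  (.leaf (nat_lit 66))))
def c77_N_3 : Tr := .node (.node (.node (.node (.leaf (nat_lit 15637483075))
  (.leaf (nat_lit 198)))
  (.node (.leaf (nat_lit 600617))
  (.leaf (nat_lit 16400))))
  (.node (.node (.leaf (nat_lit 428450))
  (.leaf (nat_lit 363)))
  (.leaf (nat_lit 45100))))
  (.node (.node (.node (.leaf (nat_lit 38873010702))
  (.leaf (nat_lit 7176)))
  (.node (.leaf (nat_lit 242957))
  (.leaf (nat_lit 0))))
  (.node (.node (.leaf (nat_lit 14160388))
  (.leaf (nat_lit 462)))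
  (.leaf (nat_lit 99))))
def c77_N_4 : Tr := .node (.node (.node (.node (.leaf (nat_lit 571556400))
  (.leaf (nat_lit 132)))
  (.node (.leaf (nat_lit 529925))
  (.leaf (nat_lit 495))))
  (.node (.node (.leaf (nat_lit 592450))
  (.leaf (nat_lit 10249)))
  (.leaf (nat_lit 501162))))
  (.node (.node (.node (.leaf (nat_lit 486580743))
  (.leaf (nat_lit 263)))
  (.node (.leaf (nat_lit 18035244))
  (.leaf (nat_lit 17425))))
  (.node (.node (.leaf (nat_lit 559650))
  (.leaf (nat_lit 396)))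
  (.leaf (nat_lit 1025))))
def c77_N_5 : Tr := .node (.node (.node (.node (.leaf (nat_lit 14446300707))
  (.leaf (nat_lit 5125)))
  (.node (.leaf (nat_lit 14100937))
  (.leaf (nat_lit 528))))
  (.node (.node (.leaf (nat_lit 525825))
  (.leaf (nat_lit 363)))
  (.leaf (nat_lit 15821))))
  (.node (.node (.node (.leaf (nat_lit 604750))
  (.leaf (nat_lit 232)))
  (.node (.leaf (nat_lit 210125))
  (.leaf (nat_lit 0))))
  (.node (.node (.leaf (nat_lit 463300))
  (.leaf (nat_lit 13325)))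
  (.leaf (nat_lit 99))))
def c77_N_6 : Tr := .node (.node (.node (.node (.leaf (nat_lit 18925137))
  (.leaf (nat_lit 165)))
  (.node (.leaf (nat_lit 465350))
  (.leaf (nat_lit 15375))))
  (.node (.node (.leaf (nat_lit 427425))
  (.leaf (nat_lit 298)))
  (.leaf (nat_lit 567817))))
  (.node (.node (.node (.leaf (nat_lit 603725))
  (.leaf (nat_lit 8199)))
  (.node (.leaf (nat_lit 144525))
  (.leaf (nat_lit 594))))
  (.node (.node (.leaf (nat_lit 462275))
  (.leaf (nat_lit 429)))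
  (.leaf (nat_lit 66))))
def c77_N_7 : Tr := .node (.node (.node (.node (.leaf (nat_lit 14445222406))
  (.leaf (nat_lit 198)))
  (.node (.leaf (nat_lit 14758348))
  (.leaf (nat_lit 561))))
  (.node (.node (.leaf (nat_lit 461250))
  (.leaf (nat_lit 11275)))
  (.leaf (nat_lit 33))))
  (.node (.node (.node (.leaf (nat_lit 558625))
  (.leaf (nat_lit 329)))
  (.leaf (nat_lit 1455501)))
  (.node (.node (.leaf (nat_lit 15241764))
  (.leaf (nat_lit 462)))
  (.leaf (nat_lit 3075))))
def c77_N : Tr := .node (.node (.node c77_N_0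
  c77_N_1)
  (.node c77_N_2
  c77_N_3))
  (.node (.node c77_N_4
  c77_N_5)
  (.node c77_N_6
  c77_N_7))
noncomputable def c77 : TC :=
  ⟨[.l 0, .l 1, .l 2, .l 3, .l 4, .l 5, .l 6, .l 7, .l 8, .l 9, .l 10, .l 11, .l 12, .l 13, .l 14, .l 15, .l 16, .l 17, .l 18],
    (nat_lit 7), (nat_lit 9), (nat_lit 0x4a307b9ac5a547418a418820), (nat_lit 1), (nat_lit 127), (nat_lit 0), (nat_lit 32), (nat_lit 3), (nat_lit 111),
    get (nat_lit 10) (nat_lit 0x400c0400c02010030080400c02010030080400c02010030080400c02010030080400c02010030080400c02010030080400c02010030080400c02010030080400c02010030080400c040100401004014040100401009014050140401404010040100501405010040100401004010040100401006010040100801004010040180701c0701c060140501812), Tr.get c77_N, get (nat_lit 20) (nat_lit 0x3ff003ff003ff003ff003ff003ff003ff003ff003ff003ff003ff003ff003ff003ff003ff003ff003ff003ff003ff003ff003ff003ff003ff003ff003ff003ff003ff003ff003ff003ff003ff003ff003ff003ff003ff003ff003ff003ff003ff003ff003ff003ff003ff003ff003ff003ff003ff003ff003ff003ff003ff003ff003ff003ff003ff003ff000560003800037000360003500034000330003200031000300002f0002e0002a000290002800027000260002500024000230002200021000200001f0001e0001d0001c0001b0001a000190001800017000160001500014000130001200011000100000f0000e0000d0000c0000b0000a00009000080000700006000050000400003000020000100000),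
    Tr.get3 c77_F (nat_lit 24) (nat_lit 5), Tr.get3 c77_T (nat_lit 7) (nat_lit 7), Tr.get c77_P⟩

theorem c77_head : c77.headOK rn76 ivA = true := by decide +kernel

theorem c77_b0 : allFrom (nat_lit 0) (nat_lit 3) c77.blockOK = true := by decide +kernel

theorem c77_blocks : ∀ t < c77.k, c77.blockOK t = true :=
  (of_allFrom_append of_lt_zero c77_b0)

theorem c77_mem0 {G : Type*} [Group G] {γ : ℕ → G} (hL : Lab γ ivA) (hr : ∀ t ∈ rn76, t.ev γ = 1) {K : Subgroup G}
    (hK : ∀ t ∈ ([] : List W), t.ev γ ∈ K) :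
    W.ev γ (.mul (.mul (.mul (.mul (.l 16) (.l 17)) (.l 18)) (.l 2)) (.mul (.mul (.mul (.l 16) (.l 17)) (.l 18)) (.l 2))) ∈ K :=
  TC.mem (D := c77) hL (List.forall_mem_cons.2 ⟨hL.zero_mem K, hK⟩) hr c77_head c77_blocks
    (n := (nat_lit 8)) (w := (nat_lit 88634116656)) (st := (nat_lit 0x58341f82040180802)) (by decide +kernel) (by decide +kernel)

theorem c77_mem1 {G : Type*} [Group G] {γ : ℕ → G} (hL : Lab γ ivA) (hr : ∀ t ∈ rn76, t.ev γ = 1) {K : Subgroup G}
    (hK : ∀ t ∈ ([] : List W), t.ev γ ∈ K) :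
    W.ev γ (.mul (.mul (.mul (.mul (.mul (.mul (.l 7) (.l 16)) (.l 17)) (.l 18)) (.l 2)) (.inv (.l 7))) (.mul (.mul (.mul (.mul (.mul (.l 7) (.l 16)) (.l 17)) (.l 18)) (.l 2)) (.inv (.l 7)))) ∈ K :=
  TC.mem (D := c77) hL (List.forall_mem_cons.2 ⟨hL.zero_mem K, hK⟩) hr c77_head c77_blocks
    (n := (nat_lit 10)) (w := (nat_lit 284311268443655)) (st := (nat_lit 0x261d0f887341a0c0582812)) (by decide +kernel) (by decide +kernel)

theorem c77_mem2 {G : Type*} [Group G] {γ : ℕ → G} (hL : Lab γ ivA) (hr : ∀ t ∈ rn76, t.ev γ = 1) {K : Subgroup G}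
    (hK : ∀ t ∈ ([] : List W), t.ev γ ∈ K) :
    W.ev γ (.mul (.mul (.mul (.inv (.l 13)) (.inv (.l 4))) (.l 13)) (.l 4)) ∈ K :=
  TC.mem (D := c77) hL (List.forall_mem_cons.2 ⟨hL.zero_mem K, hK⟩) hr c77_head c77_blocks
    (n := (nat_lit 4)) (w := (nat_lit 144525)) (st := (nat_lit 5569793060)) (by decide +kernel) (by decide +kernel)

theorem c77_mem3 {G : Type*} [Group G] {γ : ℕ → G} (hL : Lab γ ivA) (hr : ∀ t ∈ rn76, t.ev γ = 1) {K : Subgroup G}
    (hK : ∀ t ∈ ([] : List W), t.ev γ ∈ K) :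
    W.ev γ (.mul (.mul (.mul (.inv (.l 13)) (.inv (.l 5))) (.l 13)) (.l 5)) ∈ K :=
  TC.mem (D := c77) hL (List.forall_mem_cons.2 ⟨hL.zero_mem K, hK⟩) hr c77_head c77_blocks
    (n := (nat_lit 4)) (w := (nat_lit 177325)) (st := (nat_lit 6107190308)) (by decide +kernel) (by decide +kernel)

theorem c77_mem4 {G : Type*} [Group G] {γ : ℕ → G} (hL : Lab γ ivA) (hr : ∀ t ∈ rn76, t.ev γ = 1) {K : Subgroup G}
    (hK : ∀ t ∈ ([] : List W), t.ev γ ∈ K) :
    W.ev γ (.mul (.mul (.mul (.inv (.l 13)) (.inv (.l 6))) (.l 13)) (.l 6)) ∈ K :=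
  TC.mem (D := c77) hL (List.forall_mem_cons.2 ⟨hL.zero_mem K, hK⟩) hr c77_head c77_blocks
    (n := (nat_lit 4)) (w := (nat_lit 210125)) (st := (nat_lit 6644587556)) (by decide +kernel) (by decide +kernel)

theorem c77_mem5 {G : Type*} [Group G] {γ : ℕ → G} (hL : Lab γ ivA) (hr : ∀ t ∈ rn76, t.ev γ = 1) {K : Subgroup G}
    (hK : ∀ t ∈ ([] : List W), t.ev γ ∈ K) :
    W.ev γ (.mul (.mul (.mul (.inv (.l 13)) (.inv (.l 7))) (.l 13)) (.l 7)) ∈ K :=
  TC.mem (D := c77) hL (List.forall_mem_cons.2 ⟨hL.zero_mem K, hK⟩) hr c77_head c77_blocks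
    (n := (nat_lit 4)) (w := (nat_lit 242957)) (st := (nat_lit 7181984804)) (by decide +kernel) (by decide +kernel)

theorem c77_mem6 {G : Type*} [Group G] {γ : ℕ → G} (hL : Lab γ ivA) (hr : ∀ t ∈ rn76, t.ev γ = 1) {K : Subgroup G}
    (hK : ∀ t ∈ ([] : List W), t.ev γ ∈ K) :
    W.ev γ (.mul (.mul (.mul (.mul (.l 13) (.l 12)) (.l 13)) (.l 12)) (.l 1)) ∈ K :=
  TC.mem (D := c77) hL (List.forall_mem_cons.2 ⟨hL.zero_mem K, hK⟩) hr c77_head c77_blocks
    (n := (nat_lit 5)) (w := (nat_lit 1455501)) (st := (nat_lit 4089628879908)) (by decide +kernel) (by decide +kernel)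

theorem c77_mem7 {G : Type*} [Group G] {γ : ℕ → G} (hL : Lab γ ivA) (hr : ∀ t ∈ rn76, t.ev γ = 1) {K : Subgroup G}
    (hK : ∀ t ∈ ([] : List W), t.ev γ ∈ K) :
    W.ev γ (.mul (.mul (.mul (.l 9) (.l 13)) (.inv (.l 9))) (.l 14)) ∈ K :=
  TC.mem (D := c77) hL (List.forall_mem_cons.2 ⟨hL.zero_mem K, hK⟩) hr c77_head c77_blocks
    (n := (nat_lit 4)) (w := (nat_lit 469417)) (st := (nat_lit 8793652284)) (by decide +kernel) (by decide +kernel)

theorem c77_mem8 {G : Type*} [Group G] {γ : ℕ → G} (hL : Lab γ ivA) (hr : ∀ t ∈ rn76, t.ev γ = 1) {K : Subgroup G}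
    (hK : ∀ t ∈ ([] : List W), t.ev γ ∈ K) :
    W.ev γ (.mul (.mul (.mul (.inv (.l 9)) (.l 13)) (.l 9)) (.l 15)) ∈ K :=
  TC.mem (D := c77) hL (List.forall_mem_cons.2 ⟨hL.zero_mem K, hK⟩) hr c77_head c77_blocks
    (n := (nat_lit 4)) (w := (nat_lit 501162)) (st := (nat_lit 9600010306)) (by decide +kernel) (by decide +kernel)

theorem c77_mem9 {G : Type*} [Group G] {γ : ℕ → G} (hL : Lab γ ivA) (hr : ∀ t ∈ rn76, t.ev γ = 1) {K : Subgroup G}
    (hK : ∀ t ∈ ([] : List W), t.ev γ ∈ K) :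
    W.ev γ (.mul (.mul (.mul (.l 7) (.l 14)) (.inv (.l 7))) (.l 16)) ∈ K :=
  TC.mem (D := c77) hL (List.forall_mem_cons.2 ⟨hL.zero_mem K, hK⟩) hr c77_head c77_blocks
    (n := (nat_lit 4)) (w := (nat_lit 532935)) (st := (nat_lit 473993234)) (by decide +kernel) (by decide +kernel)

theorem c77_mem10 {G : Type*} [Group G] {γ : ℕ → G} (hL : Lab γ ivA) (hr : ∀ t ∈ rn76, t.ev γ = 1) {K : Subgroup G}
    (hK : ∀ t ∈ ([] : List W), t.ev γ ∈ K) :
    W.ev γ (.mul (.mul (.mul (.l 9) (.l 16)) (.inv (.l 9))) (.l 17)) ∈ K :=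
  TC.mem (D := c77) hL (List.forall_mem_cons.2 ⟨hL.zero_mem K, hK⟩) hr c77_head c77_blocks
    (n := (nat_lit 4)) (w := (nat_lit 567817)) (st := (nat_lit 10406892604)) (by decide +kernel) (by decide +kernel)

theorem c77_mem11 {G : Type*} [Group G] {γ : ℕ → G} (hL : Lab γ ivA) (hr : ∀ t ∈ rn76, t.ev γ = 1) {K : Subgroup G}
    (hK : ∀ t ∈ ([] : List W), t.ev γ ∈ K) :
    W.ev γ (.mul (.mul (.mul (.inv (.l 9)) (.l 16)) (.l 9)) (.l 18)) ∈ K :=
  TC.mem (D := c77) hL (List.forall_mem_cons.2 ⟨hL.zero_mem K, hK⟩) hr c77_head c77_blocks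
    (n := (nat_lit 4)) (w := (nat_lit 599562)) (st := (nat_lit 10944814146)) (by decide +kernel) (by decide +kernel)

theorem c77_mem12 {G : Type*} [Group G] {γ : ℕ → G} (hL : Lab γ ivA) (hr : ∀ t ∈ rn76, t.ev γ = 1) {K : Subgroup G}
    (hK : ∀ t ∈ ([] : List W), t.ev γ ∈ K) :
    W.ev γ (.mul (.mul (.l 13) (.l 14)) (.l 15)) ∈ K :=
  TC.mem (D := c77) hL (List.forall_mem_cons.2 ⟨hL.zero_mem K, hK⟩) hr c77_head c77_blocks
    (n := (nat_lit 3)) (w := (nat_lit 15821)) (st := (nat_lit 18750500)) (by decide +kernel) (by decide +kernel)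

theorem c77_mem13 {G : Type*} [Group G] {γ : ℕ → G} (hL : Lab γ ivA) (hr : ∀ t ∈ rn76, t.ev γ = 1) {K : Subgroup G}
    (hK : ∀ t ∈ ([] : List W), t.ev γ ∈ K) :
    W.ev γ (.mul (.mul (.mul (.l 1) (.l 13)) (.l 1)) (.l 13)) ∈ K :=
  TC.mem (D := c77) hL (List.forall_mem_cons.2 ⟨hL.zero_mem K, hK⟩) hr c77_head c77_blocks
    (n := (nat_lit 4)) (w := (nat_lit 427425)) (st := (nat_lit 5039498298)) (by decide +kernel) (by decide +kernel)

theorem c77_mem14 {G : Type*} [Group G] {γ : ℕ → G} (hL : Lab γ ivA) (hr : ∀ t ∈ rn76, t.ev γ = 1) {K : Subgroup G}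
    (hK : ∀ t ∈ ([] : List W), t.ev γ ∈ K) :
    W.ev γ (.mul (.mul (.mul (.l 1) (.l 14)) (.l 1)) (.l 14)) ∈ K :=
  TC.mem (D := c77) hL (List.forall_mem_cons.2 ⟨hL.zero_mem K, hK⟩) hr c77_head c77_blocks
    (n := (nat_lit 4)) (w := (nat_lit 460225)) (st := (nat_lit 8798119994)) (by decide +kernel) (by decide +kernel)

theorem c77_mem15 {G : Type*} [Group G] {γ : ℕ → G} (hL : Lab γ ivA) (hr : ∀ t ∈ rn76, t.ev γ = 1) {K : Subgroup G}
    (hK : ∀ t ∈ ([] : List W), t.ev γ ∈ K) :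
    W.ev γ (.mul (.mul (.mul (.l 1) (.l 16)) (.l 1)) (.l 16)) ∈ K :=
  TC.mem (D := c77) hL (List.forall_mem_cons.2 ⟨hL.zero_mem K, hK⟩) hr c77_head c77_blocks
    (n := (nat_lit 4)) (w := (nat_lit 525825)) (st := (nat_lit 477146170)) (by decide +kernel) (by decide +kernel)

theorem c77_mem16 {G : Type*} [Group G] {γ : ℕ → G} (hL : Lab γ ivA) (hr : ∀ t ∈ rn76, t.ev γ = 1) {K : Subgroup G}
    (hK : ∀ t ∈ ([] : List W), t.ev γ ∈ K) :
    W.ev γ (.mul (.mul (.mul (.l 2) (.l 13)) (.l 2)) (.l 13)) ∈ K :=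
  TC.mem (D := c77) hL (List.forall_mem_cons.2 ⟨hL.zero_mem K, hK⟩) hr c77_head c77_blocks
    (n := (nat_lit 4)) (w := (nat_lit 428450)) (st := (nat_lit 5041074186)) (by decide +kernel) (by decide +kernel)

theorem c77_mem17 {G : Type*} [Group G] {γ : ℕ → G} (hL : Lab γ ivA) (hr : ∀ t ∈ rn76, t.ev γ = 1) {K : Subgroup G}
    (hK : ∀ t ∈ ([] : List W), t.ev γ ∈ K) :
    W.ev γ (.mul (.mul (.mul (.l 2) (.l 14)) (.l 2)) (.l 14)) ∈ K :=
  TC.mem (D := c77) hL (List.forall_mem_cons.2 ⟨hL.zero_mem K, hK⟩) hr c77_head c77_blocks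
    (n := (nat_lit 4)) (w := (nat_lit 461250)) (st := (nat_lit 8799695882)) (by decide +kernel) (by decide +kernel)

theorem c77_mem18 {G : Type*} [Group G] {γ : ℕ → G} (hL : Lab γ ivA) (hr : ∀ t ∈ rn76, t.ev γ = 1) {K : Subgroup G}
    (hK : ∀ t ∈ ([] : List W), t.ev γ ∈ K) :
    W.ev γ (.mul (.mul (.mul (.l 2) (.l 16)) (.l 2)) (.l 16)) ∈ K :=
  TC.mem (D := c77) hL (List.forall_mem_cons.2 ⟨hL.zero_mem K, hK⟩) hr c77_head c77_blocks
    (n := (nat_lit 4)) (w := (nat_lit 526850)) (st := (nat_lit 478722058)) (by decide +kernel) (by decide +kernel)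

theorem c77_mem19 {G : Type*} [Group G] {γ : ℕ → G} (hL : Lab γ ivA) (hr : ∀ t ∈ rn76, t.ev γ = 1) {K : Subgroup G}
    (hK : ∀ t ∈ ([] : List W), t.ev γ ∈ K) :
    W.ev γ (.mul (.mul (.mul (.l 2) (.l 17)) (.l 2)) (.l 17)) ∈ K :=
  TC.mem (D := c77) hL (List.forall_mem_cons.2 ⟨hL.zero_mem K, hK⟩) hr c77_head c77_blocks
    (n := (nat_lit 4)) (w := (nat_lit 559650)) (st := (nat_lit 10411359242)) (by decide +kernel) (by decide +kernel)

theorem c77_mem20 {G : Type*} [Group G] {γ : ℕ → G} (hL : Lab γ ivA) (hr : ∀ t ∈ rn76, t.ev γ = 1) {K : Subgroup G}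
    (hK : ∀ t ∈ ([] : List W), t.ev γ ∈ K) :
    W.ev γ (.mul (.mul (.mul (.l 3) (.l 13)) (.l 3)) (.l 13)) ∈ K :=
  TC.mem (D := c77) hL (List.forall_mem_cons.2 ⟨hL.zero_mem K, hK⟩) hr c77_head c77_blocks
    (n := (nat_lit 4)) (w := (nat_lit 429475)) (st := (nat_lit 5043176544)) (by decide +kernel) (by decide +kernel)

theorem c77_mem21 {G : Type*} [Group G] {γ : ℕ → G} (hL : Lab γ ivA) (hr : ∀ t ∈ rn76, t.ev γ = 1) {K : Subgroup G}
    (hK : ∀ t ∈ ([] : List W), t.ev γ ∈ K) :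
    W.ev γ (.mul (.mul (.mul (.l 3) (.l 14)) (.l 3)) (.l 14)) ∈ K :=
  TC.mem (D := c77) hL (List.forall_mem_cons.2 ⟨hL.zero_mem K, hK⟩) hr c77_head c77_blocks
    (n := (nat_lit 4)) (w := (nat_lit 462275)) (st := (nat_lit 8801798240)) (by decide +kernel) (by decide +kernel)

theorem c77_mem22 {G : Type*} [Group G] {γ : ℕ → G} (hL : Lab γ ivA) (hr : ∀ t ∈ rn76, t.ev γ = 1) {K : Subgroup G}
    (hK : ∀ t ∈ ([] : List W), t.ev γ ∈ K) :
    W.ev γ (.mul (.mul (.mul (.l 3) (.l 16)) (.l 3)) (.l 16)) ∈ K :=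
  TC.mem (D := c77) hL (List.forall_mem_cons.2 ⟨hL.zero_mem K, hK⟩) hr c77_head c77_blocks
    (n := (nat_lit 4)) (w := (nat_lit 527875)) (st := (nat_lit 480824416)) (by decide +kernel) (by decide +kernel)

theorem c77_mem23 {G : Type*} [Group G] {γ : ℕ → G} (hL : Lab γ ivA) (hr : ∀ t ∈ rn76, t.ev γ = 1) {K : Subgroup G}
    (hK : ∀ t ∈ ([] : List W), t.ev γ ∈ K) :
    W.ev γ (.mul (.mul (.mul (.l 4) (.l 13)) (.l 4)) (.l 13)) ∈ K :=
  TC.mem (D := c77) hL (List.forall_mem_cons.2 ⟨hL.zero_mem K, hK⟩) hr c77_head c77_blocks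
    (n := (nat_lit 4)) (w := (nat_lit 430500)) (st := (nat_lit 4976409640)) (by decide +kernel) (by decide +kernel)

theorem c77_mem24 {G : Type*} [Group G] {γ : ℕ → G} (hL : Lab γ ivA) (hr : ∀ t ∈ rn76, t.ev γ = 1) {K : Subgroup G}
    (hK : ∀ t ∈ ([] : List W), t.ev γ ∈ K) :
    W.ev γ (.mul (.mul (.mul (.l 4) (.l 14)) (.l 4)) (.l 14)) ∈ K :=
  TC.mem (D := c77) hL (List.forall_mem_cons.2 ⟨hL.zero_mem K, hK⟩) hr c77_head c77_blocks
    (n := (nat_lit 4)) (w := (nat_lit 463300)) (st := (nat_lit 8802848808)) (by decide +kernel) (by decide +kernel)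

theorem c77_mem25 {G : Type*} [Group G] {γ : ℕ → G} (hL : Lab γ ivA) (hr : ∀ t ∈ rn76, t.ev γ = 1) {K : Subgroup G}
    (hK : ∀ t ∈ ([] : List W), t.ev γ ∈ K) :
    W.ev γ (.mul (.mul (.mul (.mul (.l 4) (.l 16)) (.l 4)) (.l 16)) (.l 13)) ∈ K :=
  TC.mem (D := c77) hL (List.forall_mem_cons.2 ⟨hL.zero_mem K, hK⟩) hr c77_head c77_blocks
    (n := (nat_lit 5)) (w := (nat_lit 14160388)) (st := (nat_lit 2583182758952)) (by decide +kernel) (by decide +kernel)

theorem c77_mem26 {G : Type*} [Group G] {γ : ℕ → G} (hL : Lab γ ivA) (hr : ∀ t ∈ rn76, t.ev γ = 1) {K : Subgroup G}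
    (hK : ∀ t ∈ ([] : List W), t.ev γ ∈ K) :
    W.ev γ (.mul (.mul (.mul (.mul (.l 4) (.l 17)) (.l 4)) (.l 17)) (.l 14)) ∈ K :=
  TC.mem (D := c77) hL (List.forall_mem_cons.2 ⟨hL.zero_mem K, hK⟩) hr c77_head c77_blocks
    (n := (nat_lit 5)) (w := (nat_lit 15241764)) (st := (nat_lit 4507866029096)) (by decide +kernel) (by decide +kernel)

theorem c77_mem27 {G : Type*} [Group G] {γ : ℕ → G} (hL : Lab γ ivA) (hr : ∀ t ∈ rn76, t.ev γ = 1) {K : Subgroup G}
    (hK : ∀ t ∈ ([] : List W), t.ev γ ∈ K) :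
    W.ev γ (.mul (.mul (.mul (.l 5) (.l 13)) (.l 5)) (.l 13)) ∈ K :=
  TC.mem (D := c77) hL (List.forall_mem_cons.2 ⟨hL.zero_mem K, hK⟩) hr c77_head c77_blocks
    (n := (nat_lit 4)) (w := (nat_lit 431525)) (st := (nat_lit 4977459244)) (by decide +kernel) (by decide +kernel)

theorem c77_mem28 {G : Type*} [Group G] {γ : ℕ → G} (hL : Lab γ ivA) (hr : ∀ t ∈ rn76, t.ev γ = 1) {K : Subgroup G}
    (hK : ∀ t ∈ ([] : List W), t.ev γ ∈ K) :
    W.ev γ (.mul (.mul (.mul (.mul (.l 5) (.l 14)) (.l 5)) (.l 14)) (.l 13)) ∈ K :=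
  TC.mem (D := c77) hL (List.forall_mem_cons.2 ⟨hL.zero_mem K, hK⟩) hr c77_head c77_blocks
    (n := (nat_lit 5)) (w := (nat_lit 14095813)) (st := (nat_lit 2579074966572)) (by decide +kernel) (by decide +kernel)

theorem c77_mem29 {G : Type*} [Group G] {γ : ℕ → G} (hL : Lab γ ivA) (hr : ∀ t ∈ rn76, t.ev γ = 1) {K : Subgroup G}
    (hK : ∀ t ∈ ([] : List W), t.ev γ ∈ K) :
    W.ev γ (.mul (.mul (.mul (.l 5) (.l 16)) (.l 5)) (.l 16)) ∈ K :=
  TC.mem (D := c77) hL (List.forall_mem_cons.2 ⟨hL.zero_mem K, hK⟩) hr c77_head c77_blocks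
    (n := (nat_lit 4)) (w := (nat_lit 529925)) (st := (nat_lit 484501548)) (by decide +kernel) (by decide +kernel)

theorem c77_mem30 {G : Type*} [Group G] {γ : ℕ → G} (hL : Lab γ ivA) (hr : ∀ t ∈ rn76, t.ev γ = 1) {K : Subgroup G}
    (hK : ∀ t ∈ ([] : List W), t.ev γ ∈ K) :
    W.ev γ (.mul (.mul (.mul (.l 5) (.l 17)) (.l 5)) (.l 18)) ∈ K :=
  TC.mem (D := c77) hL (List.forall_mem_cons.2 ⟨hL.zero_mem K, hK⟩) hr c77_head c77_blocks
    (n := (nat_lit 4)) (w := (nat_lit 595493)) (st := (nat_lit 10954009644)) (by decide +kernel) (by decide +kernel)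

theorem c77_mem31 {G : Type*} [Group G] {γ : ℕ → G} (hL : Lab γ ivA) (hr : ∀ t ∈ rn76, t.ev γ = 1) {K : Subgroup G}
    (hK : ∀ t ∈ ([] : List W), t.ev γ ∈ K) :
    W.ev γ (.mul (.mul (.mul (.l 5) (.l 18)) (.l 5)) (.l 17)) ∈ K :=
  TC.mem (D := c77) hL (List.forall_mem_cons.2 ⟨hL.zero_mem K, hK⟩) hr c77_head c77_blocks
    (n := (nat_lit 4)) (w := (nat_lit 562757)) (st := (nat_lit 10417664044)) (by decide +kernel) (by decide +kernel)

theorem c77_mem32 {G : Type*} [Group G] {γ : ℕ → G} (hL : Lab γ ivA) (hr : ∀ t ∈ rn76, t.ev γ = 1) {K : Subgroup G}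
    (hK : ∀ t ∈ ([] : List W), t.ev γ ∈ K) :
    W.ev γ (.mul (.mul (.mul (.l 6) (.l 13)) (.l 6)) (.l 13)) ∈ K :=
  TC.mem (D := c77) hL (List.forall_mem_cons.2 ⟨hL.zero_mem K, hK⟩) hr c77_head c77_blocks
    (n := (nat_lit 4)) (w := (nat_lit 432550)) (st := (nat_lit 4978508848)) (by decide +kernel) (by decide +kernel)

theorem c77_mem33 {G : Type*} [Group G] {γ : ℕ → G} (hL : Lab γ ivA) (hr : ∀ t ∈ rn76, t.ev γ = 1) {K : Subgroup G}
    (hK : ∀ t ∈ ([] : List W), t.ev γ ∈ K) :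
    W.ev γ (.mul (.mul (.mul (.l 6) (.l 14)) (.l 6)) (.l 14)) ∈ K :=
  TC.mem (D := c77) hL (List.forall_mem_cons.2 ⟨hL.zero_mem K, hK⟩) hr c77_head c77_blocks
    (n := (nat_lit 4)) (w := (nat_lit 465350)) (st := (nat_lit 8807576624)) (by decide +kernel) (by decide +kernel)

theorem c77_mem34 {G : Type*} [Group G] {γ : ℕ → G} (hL : Lab γ ivA) (hr : ∀ t ∈ rn76, t.ev γ = 1) {K : Subgroup G}
    (hK : ∀ t ∈ ([] : List W), t.ev γ ∈ K) :
    W.ev γ (.mul (.mul (.mul (.l 6) (.l 17)) (.l 6)) (.l 17)) ∈ K :=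
  TC.mem (D := c77) hL (List.forall_mem_cons.2 ⟨hL.zero_mem K, hK⟩) hr c77_head c77_blocks
    (n := (nat_lit 4)) (w := (nat_lit 563750)) (st := (nat_lit 10418714672)) (by decide +kernel) (by decide +kernel)

theorem c77_mem35 {G : Type*} [Group G] {γ : ℕ → G} (hL : Lab γ ivA) (hr : ∀ t ∈ rn76, t.ev γ = 1) {K : Subgroup G}
    (hK : ∀ t ∈ ([] : List W), t.ev γ ∈ K) :
    W.ev γ (.mul (.mul (.mul (.l 7) (.l 13)) (.inv (.l 7))) (.l 13)) ∈ K :=
  TC.mem (D := c77) hL (List.forall_mem_cons.2 ⟨hL.zero_mem K, hK⟩) hr c77_head c77_blocks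
    (n := (nat_lit 4)) (w := (nat_lit 434599)) (st := (nat_lit 5050530834)) (by decide +kernel) (by decide +kernel)

theorem c77_mem36 {G : Type*} [Group G] {γ : ℕ → G} (hL : Lab γ ivA) (hr : ∀ t ∈ rn76, t.ev γ = 1) {K : Subgroup G}
    (hK : ∀ t ∈ ([] : List W), t.ev γ ∈ K) :
    W.ev γ (.mul (.mul (.mul (.mul (.l 9) (.l 14)) (.inv (.l 9))) (.l 14)) (.l 13)) ∈ K :=
  TC.mem (D := c77) hL (List.forall_mem_cons.2 ⟨hL.zero_mem K, hK⟩) hr c77_head c77_blocks
    (n := (nat_lit 5)) (w := (nat_lit 14100937)) (st := (nat_lit 2579078643772)) (by decide +kernel) (by decide +kernel)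

theorem c77_mem37 {G : Type*} [Group G] {γ : ℕ → G} (hL : Lab γ ivA) (hr : ∀ t ∈ rn76, t.ev γ = 1) {K : Subgroup G}
    (hK : ∀ t ∈ ([] : List W), t.ev γ ∈ K) :
    W.ev γ (.mul (.mul (.mul (.l 9) (.l 17)) (.inv (.l 9))) (.l 18)) ∈ K :=
  TC.mem (D := c77) hL (List.forall_mem_cons.2 ⟨hL.zero_mem K, hK⟩) hr c77_head c77_blocks
    (n := (nat_lit 4)) (w := (nat_lit 600617)) (st := (nat_lit 10957161532)) (by decide +kernel) (by decide +kernel)

theorem c77_mem38 {G : Type*} [Group G] {γ : ℕ → G} (hL : Lab γ ivA) (hr : ∀ t ∈ rn76, t.ev γ = 1) {K : Subgroup G}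
    (hK : ∀ t ∈ ([] : List W), t.ev γ ∈ K) :
    W.ev γ (.mul (.mul (.mul (.l 9) (.l 18)) (.inv (.l 9))) (.l 16)) ∈ K :=
  TC.mem (D := c77) hL (List.forall_mem_cons.2 ⟨hL.zero_mem K, hK⟩) hr c77_head c77_blocks
    (n := (nat_lit 4)) (w := (nat_lit 535113)) (st := (nat_lit 488704060)) (by decide +kernel) (by decide +kernel)

theorem c77_mem39 {G : Type*} [Group G] {γ : ℕ → G} (hL : Lab γ ivA) (hr : ∀ t ∈ rn76, t.ev γ = 1) {K : Subgroup G}
    (hK : ∀ t ∈ ([] : List W), t.ev γ ∈ K) :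
    W.ev γ (.mul (.mul (.mul (.mul (.l 12) (.l 13)) (.l 12)) (.l 1)) (.l 13)) ∈ K :=
  TC.mem (D := c77) hL (List.forall_mem_cons.2 ⟨hL.zero_mem K, hK⟩) hr c77_head c77_blocks
    (n := (nat_lit 5)) (w := (nat_lit 13676972)) (st := (nat_lit 2580288704646)) (by decide +kernel) (by decide +kernel)

theorem c77_mem40 {G : Type*} [Group G] {γ : ℕ → G} (hL : Lab γ ivA) (hr : ∀ t ∈ rn76, t.ev γ = 1) {K : Subgroup G}
    (hK : ∀ t ∈ ([] : List W), t.ev γ ∈ K) :
    W.ev γ (.mul (.mul (.mul (.mul (.l 12) (.l 14)) (.l 12)) (.l 2)) (.l 14)) ∈ K :=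
  TC.mem (D := c77) hL (List.forall_mem_cons.2 ⟨hL.zero_mem K, hK⟩) hr c77_head c77_blocks
    (n := (nat_lit 5)) (w := (nat_lit 14758348)) (st := (nat_lit 4505508320390)) (by decide +kernel) (by decide +kernel)

theorem c77_mem41 {G : Type*} [Group G] {γ : ℕ → G} (hL : Lab γ ivA) (hr : ∀ t ∈ rn76, t.ev γ = 1) {K : Subgroup G}
    (hK : ∀ t ∈ ([] : List W), t.ev γ ∈ K) :
    W.ev γ (.mul (.mul (.mul (.mul (.l 12) (.l 16)) (.l 12)) (.l 3)) (.l 16)) ∈ K :=
  TC.mem (D := c77) hL (List.forall_mem_cons.2 ⟨hL.zero_mem K, hK⟩) hr c77_head c77_blocks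
    (n := (nat_lit 5)) (w := (nat_lit 16888332)) (st := (nat_lit 246243465350)) (by decide +kernel) (by decide +kernel)

theorem c77_mem42 {G : Type*} [Group G] {γ : ℕ → G} (hL : Lab γ ivA) (hr : ∀ t ∈ rn76, t.ev γ = 1) {K : Subgroup G}
    (hK : ∀ t ∈ ([] : List W), t.ev γ ∈ K) :
    W.ev γ (.mul (.mul (.mul (.mul (.l 12) (.l 17)) (.l 12)) (.l 6)) (.l 17)) ∈ K :=
  TC.mem (D := c77) hL (List.forall_mem_cons.2 ⟨hL.zero_mem K, hK⟩) hr c77_head c77_blocks
    (n := (nat_lit 5)) (w := (nat_lit 18035244)) (st := (nat_lit 5334438059142)) (by decide +kernel) (by decide +kernel)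

theorem c77_mem43 {G : Type*} [Group G] {γ : ℕ → G} (hL : Lab γ ivA) (hr : ∀ t ∈ rn76, t.ev γ = 1) {K : Subgroup G}
    (hK : ∀ t ∈ ([] : List W), t.ev γ ∈ K) :
    W.ev γ (.mul (.mul (.mul (.mul (.mul (.mul (.mul (.mul (.l 12) (.l 18)) (.l 12)) (.l 6)) (.l 4)) (.l 3)) (.l 2)) (.l 1)) (.l 18)) ∈ K :=
  TC.mem (D := c77) hL (List.forall_mem_cons.2 ⟨hL.zero_mem K, hK⟩) hr c77_head c77_blocks
    (n := (nat_lit 9)) (w := (nat_lit 19827821589068)) (st := (nat_lit 0x514ca6eac964a2492086)) (by decide +kernel) (by decide +kernel)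

theorem c77_mem44 {G : Type*} [Group G] {γ : ℕ → G} (hL : Lab γ ivA) (hr : ∀ t ∈ rn76, t.ev γ = 1) {K : Subgroup G}
    (hK : ∀ t ∈ ([] : List W), t.ev γ ∈ K) :
    W.ev γ (.mul (.mul (.mul (.l 13) (.l 14)) (.l 13)) (.l 14)) ∈ K :=
  TC.mem (D := c77) hL (List.forall_mem_cons.2 ⟨hL.zero_mem K, hK⟩) hr c77_head c77_blocks
    (n := (nat_lit 4)) (w := (nat_lit 472525)) (st := (nat_lit 8794020900)) (by decide +kernel) (by decide +kernel)

theorem c77_mem45 {G : Type*} [Group G] {γ : ℕ → G} (hL : Lab γ ivA) (hr : ∀ t ∈ rn76, t.ev γ = 1) {K : Subgroup G}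
    (hK : ∀ t ∈ ([] : List W), t.ev γ ∈ K) :
    W.ev γ (.mul (.mul (.mul (.l 13) (.l 16)) (.l 13)) (.l 16)) ∈ K :=
  TC.mem (D := c77) hL (List.forall_mem_cons.2 ⟨hL.zero_mem K, hK⟩) hr c77_head c77_blocks
    (n := (nat_lit 4)) (w := (nat_lit 538125)) (st := (nat_lit 482762276)) (by decide +kernel) (by decide +kernel)

theorem c77_mem46 {G : Type*} [Group G] {γ : ℕ → G} (hL : Lab γ ivA) (hr : ∀ t ∈ rn76, t.ev γ = 1) {K : Subgroup G}
    (hK : ∀ t ∈ ([] : List W), t.ev γ ∈ K) :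
    W.ev γ (.mul (.mul (.mul (.l 14) (.l 13)) (.l 14)) (.l 13)) ∈ K :=
  TC.mem (D := c77) hL (List.forall_mem_cons.2 ⟨hL.zero_mem K, hK⟩) hr c77_head c77_blocks
    (n := (nat_lit 4)) (w := (nat_lit 440750)) (st := (nat_lit 5037233728)) (by decide +kernel) (by decide +kernel)

theorem c77_mem47 {G : Type*} [Group G] {γ : ℕ → G} (hL : Lab γ ivA) (hr : ∀ t ∈ rn76, t.ev γ = 1) {K : Subgroup G}
    (hK : ∀ t ∈ ([] : List W), t.ev γ ∈ K) :
    W.ev γ (.mul (.mul (.mul (.l 14) (.l 17)) (.l 14)) (.l 17)) ∈ K :=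
  TC.mem (D := c77) hL (List.forall_mem_cons.2 ⟨hL.zero_mem K, hK⟩) hr c77_head c77_blocks
    (n := (nat_lit 4)) (w := (nat_lit 571950)) (st := (nat_lit 10415924800)) (by decide +kernel) (by decide +kernel)

theorem c77_mem48 {G : Type*} [Group G] {γ : ℕ → G} (hL : Lab γ ivA) (hr : ∀ t ∈ rn76, t.ev γ = 1) {K : Subgroup G}
    (hK : ∀ t ∈ ([] : List W), t.ev γ ∈ K) :
    W.ev γ (.mul (.mul (.mul (.l 16) (.l 13)) (.l 16)) (.l 13)) ∈ K :=
  TC.mem (D := c77) hL (List.forall_mem_cons.2 ⟨hL.zero_mem K, hK⟩) hr c77_head c77_blocks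
    (n := (nat_lit 4)) (w := (nat_lit 442800)) (st := (nat_lit 5045379074)) (by decide +kernel) (by decide +kernel)

theorem c77_mem49 {G : Type*} [Group G] {γ : ℕ → G} (hL : Lab γ ivA) (hr : ∀ t ∈ rn76, t.ev γ = 1) {K : Subgroup G}
    (hK : ∀ t ∈ ([] : List W), t.ev γ ∈ K) :
    W.ev γ (.mul (.mul (.mul (.l 17) (.l 14)) (.l 17)) (.l 14)) ∈ K :=
  TC.mem (D := c77) hL (List.forall_mem_cons.2 ⟨hL.zero_mem K, hK⟩) hr c77_head c77_blocks
    (n := (nat_lit 4)) (w := (nat_lit 476625)) (st := (nat_lit 8804526156)) (by decide +kernel) (by decide +kernel)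

theorem c77_mem50 {G : Type*} [Group G] {γ : ℕ → G} (hL : Lab γ ivA) (hr : ∀ t ∈ rn76, t.ev γ = 1) {K : Subgroup G}
    (hK : ∀ t ∈ ([] : List W), t.ev γ ∈ K) :
    W.ev γ (.mul (.mul (.mul (.l 1) (.l 17)) (.l 1)) (.l 17)) ∈ K :=
  TC.mem (D := c77) hL (List.forall_mem_cons.2 ⟨hL.zero_mem K, hK⟩) hr c77_head c77_blocks
    (n := (nat_lit 4)) (w := (nat_lit 558625)) (st := (nat_lit 10425546810)) (by decide +kernel) (by decide +kernel)

theorem c77_mem51 {G : Type*} [Group G] {γ : ℕ → G} (hL : Lab γ ivA) (hr : ∀ t ∈ rn76, t.ev γ = 1) {K : Subgroup G}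
    (hK : ∀ t ∈ ([] : List W), t.ev γ ∈ K) :
    W.ev γ (.mul (.mul (.mul (.l 1) (.l 18)) (.l 1)) (.l 18)) ∈ K :=
  TC.mem (D := c77) hL (List.forall_mem_cons.2 ⟨hL.zero_mem K, hK⟩) hr c77_head c77_blocks
    (n := (nat_lit 4)) (w := (nat_lit 591425)) (st := (nat_lit 10911918650)) (by decide +kernel) (by decide +kernel)

theorem c77_mem52 {G : Type*} [Group G] {γ : ℕ → G} (hL : Lab γ ivA) (hr : ∀ t ∈ rn76, t.ev γ = 1) {K : Subgroup G}
    (hK : ∀ t ∈ ([] : List W), t.ev γ ∈ K) :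
    W.ev γ (.mul (.mul (.mul (.l 2) (.l 18)) (.l 2)) (.l 18)) ∈ K :=
  TC.mem (D := c77) hL (List.forall_mem_cons.2 ⟨hL.zero_mem K, hK⟩) hr c77_head c77_blocks
    (n := (nat_lit 4)) (w := (nat_lit 592450)) (st := (nat_lit 10944256010)) (by decide +kernel) (by decide +kernel)

theorem c77_mem53 {G : Type*} [Group G] {γ : ℕ → G} (hL : Lab γ ivA) (hr : ∀ t ∈ rn76, t.ev γ = 1) {K : Subgroup G}
    (hK : ∀ t ∈ ([] : List W), t.ev γ ∈ K) :
    W.ev γ (.mul (.mul (.mul (.mul (.mul (.l 4) (.l 18)) (.l 4)) (.l 18)) (.l 14)) (.l 13)) ∈ K :=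
  TC.mem (D := c77) hL (List.forall_mem_cons.2 ⟨hL.zero_mem K, hK⟩) hr c77_head c77_blocks
    (n := (nat_lit 6)) (w := (nat_lit 451482180)) (st := (nat_lit 0x4b0fae2813c28)) (by decide +kernel) (by decide +kernel)

theorem c77_mem54 {G : Type*} [Group G] {γ : ℕ → G} (hL : Lab γ ivA) (hr : ∀ t ∈ rn76, t.ev γ = 1) {K : Subgroup G}
    (hK : ∀ t ∈ ([] : List W), t.ev γ ∈ K) :
    W.ev γ (.mul (.mul (.mul (.l 14) (.l 16)) (.mul (.mul (.mul (.mul (.l 4) (.l 6)) (.l 16)) (.l 6)) (.l 4))) (.l 1)) ∈ K :=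
  TC.mem (D := c77) hL (List.forall_mem_cons.2 ⟨hL.zero_mem K, hK⟩) hr c77_head c77_blocks
    (n := (nat_lit 8)) (w := (nat_lit 38873010702)) (st := (nat_lit 0x1daa55760532914440)) (by decide +kernel) (by decide +kernel)

theorem c77_mem55 {G : Type*} [Group G] {γ : ℕ → G} (hL : Lab γ ivA) (hr : ∀ t ∈ rn76, t.ev γ = 1) {K : Subgroup G}
    (hK : ∀ t ∈ ([] : List W), t.ev γ ∈ K) :
    W.ev γ (.mul (.mul (.mul (.mul (.mul (.mul (.l 3) (.l 17)) (.l 3)) (.l 2)) (.l 17)) (.l 14)) (.l 13)) ∈ K :=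
  TC.mem (D := c77) hL (List.forall_mem_cons.2 ⟨hL.zero_mem K, hK⟩) hr c77_head c77_blocks
    (n := (nat_lit 7)) (w := (nat_lit 14446300707)) (st := (nat_lit 0x961f62582b95860)) (by decide +kernel) (by decide +kernel)

theorem c77_mem56 {G : Type*} [Group G] {γ : ℕ → G} (hL : Lab γ ivA) (hr : ∀ t ∈ rn76, t.ev γ = 1) {K : Subgroup G}
    (hK : ∀ t ∈ ([] : List W), t.ev γ ∈ K) :
    W.ev γ (.mul (.mul (.mul (.mul (.mul (.mul (.l 3) (.l 18)) (.l 3)) (.l 2)) (.l 1)) (.l 18)) (.l 14)) ∈ K :=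
  TC.mem (D := c77) hL (List.forall_mem_cons.2 ⟨hL.zero_mem K, hK⟩) hr c77_head c77_blocks
    (n := (nat_lit 7)) (w := (nat_lit 15637483075)) (st := (nat_lit 0x105736f5b2d16460)) (by decide +kernel) (by decide +kernel)

theorem c77_mem57 {G : Type*} [Group G] {γ : ℕ → G} (hL : Lab γ ivA) (hr : ∀ t ∈ rn76, t.ev γ = 1) {K : Subgroup G}
    (hK : ∀ t ∈ ([] : List W), t.ev γ ∈ K) :
    W.ev γ (.mul (.mul (.mul (.mul (.mul (.mul (.l 6) (.l 16)) (.l 6)) (.l 1)) (.l 16)) (.l 14)) (.l 13)) ∈ K :=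
  TC.mem (D := c77) hL (List.forall_mem_cons.2 ⟨hL.zero_mem K, hK⟩) hr c77_head c77_blocks
    (n := (nat_lit 7)) (w := (nat_lit 14445222406)) (st := (nat_lit 0x961f705f2f17430)) (by decide +kernel) (by decide +kernel)

theorem c77_mem58 {G : Type*} [Group G] {γ : ℕ → G} (hL : Lab γ ivA) (hr : ∀ t ∈ rn76, t.ev γ = 1) {K : Subgroup G}
    (hK : ∀ t ∈ ([] : List W), t.ev γ ∈ K) :
    W.ev γ (.mul (.mul (.mul (.mul (.mul (.mul (.l 6) (.l 18)) (.l 6)) (.l 2)) (.l 1)) (.l 18)) (.l 13)) ∈ K :=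
  TC.mem (D := c77) hL (List.forall_mem_cons.2 ⟨hL.zero_mem K, hK⟩) hr c77_head c77_blocks
    (n := (nat_lit 7)) (w := (nat_lit 14563744326)) (st := (nat_lit 0x958f74623098030)) (by decide +kernel) (by decide +kernel)

theorem c77_mem59 {G : Type*} [Group G] {γ : ℕ → G} (hL : Lab γ ivA) (hr : ∀ t ∈ rn76, t.ev γ = 1) {K : Subgroup G}
    (hK : ∀ t ∈ ([] : List W), t.ev γ ∈ K) :
    W.ev γ (.mul (.mul (.mul (.mul (.mul (.l 7) (.l 16)) (.inv (.l 7))) (.l 1)) (.l 16)) (.l 14)) ∈ K :=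
  TC.mem (D := c77) hL (List.forall_mem_cons.2 ⟨hL.zero_mem K, hK⟩) hr c77_head c77_blocks
    (n := (nat_lit 6)) (w := (nat_lit 486580743)) (st := (nat_lit 0x82a3bb3202812)) (by decide +kernel) (by decide +kernel)

theorem c77_mem60 {G : Type*} [Group G] {γ : ℕ → G} (hL : Lab γ ivA) (hr : ∀ t ∈ rn76, t.ev γ = 1) {K : Subgroup G}
    (hK : ∀ t ∈ ([] : List W), t.ev γ ∈ K) :
    W.ev γ (.mul (.mul (.mul (.l 13) (.l 17)) (.l 13)) (.l 17)) ∈ K :=
  TC.mem (D := c77) hL (List.forall_mem_cons.2 ⟨hL.zero_mem K, hK⟩) hr c77_head c77_blocks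
    (n := (nat_lit 4)) (w := (nat_lit 570925)) (st := (nat_lit 10433434660)) (by decide +kernel) (by decide +kernel)

theorem c77_mem61 {G : Type*} [Group G] {γ : ℕ → G} (hL : Lab γ ivA) (hr : ∀ t ∈ rn76, t.ev γ = 1) {K : Subgroup G}
    (hK : ∀ t ∈ ([] : List W), t.ev γ ∈ K) :
    W.ev γ (.mul (.mul (.mul (.l 13) (.l 18)) (.l 13)) (.l 18)) ∈ K :=
  TC.mem (D := c77) hL (List.forall_mem_cons.2 ⟨hL.zero_mem K, hK⟩) hr c77_head c77_blocks
    (n := (nat_lit 4)) (w := (nat_lit 603725)) (st := (nat_lit 10968730660)) (by decide +kernel) (by decide +kernel)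

theorem c77_mem62 {G : Type*} [Group G] {γ : ℕ → G} (hL : Lab γ ivA) (hr : ∀ t ∈ rn76, t.ev γ = 1) {K : Subgroup G}
    (hK : ∀ t ∈ ([] : List W), t.ev γ ∈ K) :
    W.ev γ (.mul (.mul (.mul (.l 14) (.l 16)) (.l 14)) (.l 16)) ∈ K :=
  TC.mem (D := c77) hL (List.forall_mem_cons.2 ⟨hL.zero_mem K, hK⟩) hr c77_head c77_blocks
    (n := (nat_lit 4)) (w := (nat_lit 539150)) (st := (nat_lit 494486592)) (by decide +kernel) (by decide +kernel)

theorem c77_mem63 {G : Type*} [Group G] {γ : ℕ → G} (hL : Lab γ ivA) (hr : ∀ t ∈ rn76, t.ev γ = 1) {K : Subgroup G}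
    (hK : ∀ t ∈ ([] : List W), t.ev γ ∈ K) :
    W.ev γ (.mul (.mul (.mul (.l 14) (.l 18)) (.l 14)) (.l 18)) ∈ K :=
  TC.mem (D := c77) hL (List.forall_mem_cons.2 ⟨hL.zero_mem K, hK⟩) hr c77_head c77_blocks
    (n := (nat_lit 4)) (w := (nat_lit 604750)) (st := (nat_lit 10967150656)) (by decide +kernel) (by decide +kernel)

theorem c77_mem64 {G : Type*} [Group G] {γ : ℕ → G} (hL : Lab γ ivA) (hr : ∀ t ∈ rn76, t.ev γ = 1) {K : Subgroup G}
    (hK : ∀ t ∈ ([] : List W), t.ev γ ∈ K) :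
    W.ev γ (.mul (.mul (.mul (.l 16) (.l 14)) (.l 16)) (.l 14)) ∈ K :=
  TC.mem (D := c77) hL (List.forall_mem_cons.2 ⟨hL.zero_mem K, hK⟩) hr c77_head c77_blocks
    (n := (nat_lit 4)) (w := (nat_lit 475600)) (st := (nat_lit 8767061506)) (by decide +kernel) (by decide +kernel)

theorem c77_mem65 {G : Type*} [Group G] {γ : ℕ → G} (hL : Lab γ ivA) (hr : ∀ t ∈ rn76, t.ev γ = 1) {K : Subgroup G}
    (hK : ∀ t ∈ ([] : List W), t.ev γ ∈ K) :
    W.ev γ (.mul (.mul (.mul (.l 17) (.l 13)) (.l 17)) (.l 13)) ∈ K :=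
  TC.mem (D := c77) hL (List.forall_mem_cons.2 ⟨hL.zero_mem K, hK⟩) hr c77_head c77_blocks
    (n := (nat_lit 4)) (w := (nat_lit 443825)) (st := (nat_lit 5019464268)) (by decide +kernel) (by decide +kernel)

theorem c77_mem66 {G : Type*} [Group G] {γ : ℕ → G} (hL : Lab γ ivA) (hr : ∀ t ∈ rn76, t.ev γ = 1) {K : Subgroup G}
    (hK : ∀ t ∈ ([] : List W), t.ev γ ∈ K) :
    W.ev γ (.mul (.mul (.mul (.l 18) (.l 13)) (.l 18)) (.l 13)) ∈ K :=
  TC.mem (D := c77) hL (List.forall_mem_cons.2 ⟨hL.zero_mem K, hK⟩) hr c77_head c77_blocks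
    (n := (nat_lit 4)) (w := (nat_lit 444850)) (st := (nat_lit 5018412624)) (by decide +kernel) (by decide +kernel)

theorem c77_mem67 {G : Type*} [Group G] {γ : ℕ → G} (hL : Lab γ ivA) (hr : ∀ t ∈ rn76, t.ev γ = 1) {K : Subgroup G}
    (hK : ∀ t ∈ ([] : List W), t.ev γ ∈ K) :
    W.ev γ (.mul (.mul (.mul (.l 18) (.l 14)) (.l 18)) (.l 14)) ∈ K :=
  TC.mem (D := c77) hL (List.forall_mem_cons.2 ⟨hL.zero_mem K, hK⟩) hr c77_head c77_blocks
    (n := (nat_lit 4)) (w := (nat_lit 477650)) (st := (nat_lit 8772835920)) (by decide +kernel) (by decide +kernel)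

theorem c77_mem68 {G : Type*} [Group G] {γ : ℕ → G} (hL : Lab γ ivA) (hr : ∀ t ∈ rn76, t.ev γ = 1) {K : Subgroup G}
    (hK : ∀ t ∈ ([] : List W), t.ev γ ∈ K) :
    W.ev γ (.mul (.mul (.pow (.mul (.l 16) (.l 17)) 2) (.l 2)) (.l 1)) ∈ K :=
  TC.mem (D := c77) hL (List.forall_mem_cons.2 ⟨hL.zero_mem K, hK⟩) hr c77_head c77_blocks
    (n := (nat_lit 6)) (w := (nat_lit 36225584)) (st := (nat_lit 0x76cfc2b300802)) (by decide +kernel) (by decide +kernel)

theorem c77_mem69 {G : Type*} [Group G] {γ : ℕ → G} (hL : Lab γ ivA) (hr : ∀ t ∈ rn76, t.ev γ = 1) {K : Subgroup G}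
    (hK : ∀ t ∈ ([] : List W), t.ev γ ∈ K) :
    W.ev γ (.mul (.mul (.mul (.mul (.mul (.l 16) (.l 17)) (.l 16)) (.l 2)) (.l 1)) (.l 17)) ∈ K :=
  TC.mem (D := c77) hL (List.forall_mem_cons.2 ⟨hL.zero_mem K, hK⟩) hr c77_head c77_blocks
    (n := (nat_lit 6)) (w := (nat_lit 571556400)) (st := (nat_lit 0x9b5abd3300802)) (by decide +kernel) (by decide +kernel)

theorem c77_mem70 {G : Type*} [Group G] {γ : ℕ → G} (hL : Lab γ ivA) (hr : ∀ t ∈ rn76, t.ev γ = 1) {K : Subgroup G}
    (hK : ∀ t ∈ ([] : List W), t.ev γ ∈ K) :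
    W.ev γ (.mul (.mul (.mul (.mul (.l 16) (.l 18)) (.l 16)) (.l 2)) (.l 18)) ∈ K :=
  TC.mem (D := c77) hL (List.forall_mem_cons.2 ⟨hL.zero_mem K, hK⟩) hr c77_head c77_blocks
    (n := (nat_lit 5)) (w := (nat_lit 18956880)) (st := (nat_lit 5603558268930)) (by decide +kernel) (by decide +kernel)

theorem c77_mem71 {G : Type*} [Group G] {γ : ℕ → G} (hL : Lab γ ivA) (hr : ∀ t ∈ rn76, t.ev γ = 1) {K : Subgroup G}
    (hK : ∀ t ∈ ([] : List W), t.ev γ ∈ K) :
    W.ev γ (.mul (.mul (.mul (.mul (.mul (.l 17) (.l 16)) (.l 17)) (.l 2)) (.l 1)) (.l 16)) ∈ K :=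
  TC.mem (D := c77) hL (List.forall_mem_cons.2 ⟨hL.zero_mem K, hK⟩) hr c77_head c77_blocks
    (n := (nat_lit 6)) (w := (nat_lit 538002961)) (st := (nat_lit 125122116691020)) (by decide +kernel) (by decide +kernel)

theorem c77_mem72 {G : Type*} [Group G] {γ : ℕ → G} (hL : Lab γ ivA) (hr : ∀ t ∈ rn76, t.ev γ = 1) {K : Subgroup G}
    (hK : ∀ t ∈ ([] : List W), t.ev γ ∈ K) :
    W.ev γ (.mul (.mul (.mul (.mul (.l 17) (.l 18)) (.l 17)) (.l 1)) (.l 18)) ∈ K :=
  TC.mem (D := c77) hL (List.forall_mem_cons.2 ⟨hL.zero_mem K, hK⟩) hr c77_head c77_blocks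
    (n := (nat_lit 5)) (w := (nat_lit 18925137)) (st := (nat_lit 5586916322380)) (by decide +kernel) (by decide +kernel)

theorem c77_mem73 {G : Type*} [Group G] {γ : ℕ → G} (hL : Lab γ ivA) (hr : ∀ t ∈ rn76, t.ev γ = 1) {K : Subgroup G}
    (hK : ∀ t ∈ ([] : List W), t.ev γ ∈ K) :
    W.ev γ (.mul (.mul (.mul (.mul (.l 18) (.l 16)) (.l 18)) (.l 2)) (.l 16)) ∈ K :=
  TC.mem (D := c77) hL (List.forall_mem_cons.2 ⟨hL.zero_mem K, hK⟩) hr c77_head c77_blocks
    (n := (nat_lit 5)) (w := (nat_lit 16861714)) (st := (nat_lit 245185491024)) (by decide +kernel) (by decide +kernel)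

theorem c77_mem74 {G : Type*} [Group G] {γ : ℕ → G} (hL : Lab γ ivA) (hr : ∀ t ∈ rn76, t.ev γ = 1) {K : Subgroup G}
    (hK : ∀ t ∈ ([] : List W), t.ev γ ∈ K) :
    W.ev γ (.mul (.mul (.mul (.mul (.l 18) (.l 17)) (.l 18)) (.l 1)) (.l 17)) ∈ K :=
  TC.mem (D := c77) hL (List.forall_mem_cons.2 ⟨hL.zero_mem K, hK⟩) hr c77_head c77_blocks
    (n := (nat_lit 5)) (w := (nat_lit 17877554)) (st := (nat_lit 5337943487568)) (by decide +kernel) (by decide +kernel)

theorem c77_mem75 {G : Type*} [Group G] {γ : ℕ → G} (hL : Lab γ ivA) (hr : ∀ t ∈ rn76, t.ev γ = 1) {K : Subgroup G}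
    (hK : ∀ t ∈ ([] : List W), t.ev γ ∈ K) :
    W.ev γ (.mul (.mul (.mul (.mul (.mul (.mul (.mul (.l 16) (.l 17)) (.l 18)) (.l 2)) (.l 16)) (.l 17)) (.l 18)) (.l 2)) ∈ K :=
  TC.mem (D := c77) hL (List.forall_mem_cons.2 ⟨hL.zero_mem K, hK⟩) hr c77_head c77_blocks
    (n := (nat_lit 8)) (w := (nat_lit 88634116656)) (st := (nat_lit 0x58341f82040180802)) (by decide +kernel) (by decide +kernel)

theorem c77_mem76 {G : Type*} [Group G] {γ : ℕ → G} (hL : Lab γ ivA) (hr : ∀ t ∈ rn76, t.ev γ = 1) {K : Subgroup G}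
    (hK : ∀ t ∈ ([] : List W), t.ev γ ∈ K) :
    W.ev γ (.mul (.mul (.mul (.l 7) (.mul (.mul (.mul (.l 16) (.l 17)) (.l 18)) (.l 2))) (.inv (.l 7))) (.mul (.mul (.mul (.mul (.mul (.l 7) (.l 16)) (.l 17)) (.l 18)) (.l 2)) (.inv (.l 7)))) ∈ K :=
  TC.mem (D := c77) hL (List.forall_mem_cons.2 ⟨hL.zero_mem K, hK⟩) hr c77_head c77_blocks
    (n := (nat_lit 10)) (w := (nat_lit 284311268443655)) (st := (nat_lit 0x261d0f887341a0c0582812)) (by decide +kernel) (by decide +kernel)

theorem c77_mem77 {G : Type*} [Group G] {γ : ℕ → G} (hL : Lab γ ivA) (hr : ∀ t ∈ rn76, t.ev γ = 1) {K : Subgroup G}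
    (hK : ∀ t ∈ ([] : List W), t.ev γ ∈ K) :
    W.ev γ (.mul (.mul (.mul (.mul (.mul (.mul (.inv (.mul (.mul (.mul (.mul (.inv (.l 7)) (.l 16)) (.l 17)) (.l 18)) (.l 7))) (.mul (.mul (.mul (.l 17) (.l 12)) (.l 18)) (.l 12))) (.mul (.mul (.mul (.mul (.inv (.l 7)) (.l 16)) (.l 17)) (.l 18)) (.l 7))) (.l 6)) (.l 4)) (.l 2)) (.l 1)) ∈ K :=
  TC.mem (D := c77) hL (List.forall_mem_cons.2 ⟨hL.zero_mem K, hK⟩) hr c77_head c77_blocks
    (n := (nat_lit 18)) (w := (nat_lit 0x22218f28c10c9322784648)) (st := (nat_lit 0x76cf76bbde2f37abdf20ea74399c8e270379b834)) (by decide +kernel) (by decide +kernel)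

def c77_loops : List W := [.mul (.mul (.mul (.mul (.l 16) (.l 17)) (.l 18)) (.l 2)) (.mul (.mul (.mul (.l 16) (.l 17)) (.l 18)) (.l 2)), .mul (.mul (.mul (.mul (.mul (.mul (.l 7) (.l 16)) (.l 17)) (.l 18)) (.l 2)) (.inv (.l 7))) (.mul (.mul (.mul (.mul (.mul (.l 7) (.l 16)) (.l 17)) (.l 18)) (.l 2)) (.inv (.l 7))), .mul (.mul (.mul (.inv (.l 13)) (.inv (.l 4))) (.l 13)) (.l 4), .mul (.mul (.mul (.inv (.l 13)) (.inv (.l 5))) (.l 13)) (.l 5), .mul (.mul (.mul (.inv (.l 13)) (.inv (.l 6))) (.l 13)) (.l 6), .mul (.mul (.mul (.inv (.l 13)) (.inv (.l 7))) (.l 13)) (.l 7), .mul (.mul (.mul (.mul (.l 13) (.l 12)) (.l 13)) (.l 12)) (.l 1), .mul (.mul (.mul (.l 9) (.l 13)) (.inv (.l 9))) (.l 14), .mul (.mul (.mul (.inv (.l 9)) (.l 13)) (.l 9)) (.l 15), .mul (.mul (.mul (.l 7) (.l 14)) (.inv (.l 7))) (.l 16), .mul (.mul (.mul (.l 9) (.l 16)) (.inv (.l 9))) (.l 17), .mul (.mul (.mul (.inv (.l 9)) (.l 16)) (.l 9)) (.l 18), .mul (.mul (.l 13) (.l 14)) (.l 15),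 .mul (.mul (.mul (.l 1) (.l 13)) (.l 1)) (.l 13), .mul (.mul (.mul (.l 1) (.l 14)) (.l 1)) (.l 14), .mul (.mul (.mul (.l 1) (.l 16)) (.l 1)) (.l 16), .mul (.mul (.mul (.l 2) (.l 13)) (.l 2)) (.l 13), .mul (.mul (.mul (.l 2) (.l 14)) (.l 2)) (.l 14), .mul (.mul (.mul (.l 2) (.l 16)) (.l 2)) (.l 16), .mul (.mul (.mul (.l 2) (.l 17)) (.l 2)) (.l 17), .mul (.mul (.mul (.l 3) (.l 13)) (.l 3)) (.l 13), .mul (.mul (.mul (.l 3) (.l 14)) (.l 3)) (.l 14), .mul (.mul (.mul (.l 3) (.l 16)) (.l 3)) (.l 16), .mul (.mul (.mul (.l 4) (.l 13)) (.l 4)) (.l 13), .mul (.mul (.mul (.l 4) (.l 14)) (.l 4)) (.l 14), .mul (.mul (.mul (.mul (.l 4) (.l 16)) (.l 4)) (.l 16)) (.l 13), .mul (.mul (.mul (.mul (.l 4) (.l 17)) (.l 4)) (.l 17)) (.l 14), .mul (.mul (.mul (.l 5) (.l 13)) (.l 5)) (.l 13), .mul (.mul (.mul (.mul (.l 5) (.l 14)) (.l 5)) (.l 14)) (.l 13), .mul (.mul (.mul (.l 5) (.l 16)) (.l 5)) (.l 16), .mul (.mul (.mul (.l 5) (.l 17)) (.l 5)) (.l 18), .mul (.mul (.mul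 (.l 5) (.l 18)) (.l 5)) (.l 17), .mul (.mul (.mul (.l 6) (.l 13)) (.l 6)) (.l 13), .mul (.mul (.mul (.l 6) (.l 14)) (.l 6)) (.l 14), .mul (.mul (.mul (.l 6) (.l 17)) (.l 6)) (.l 17), .mul (.mul (.mul (.l 7) (.l 13)) (.inv (.l 7))) (.l 13), .mul (.mul (.mul (.mul (.l 9) (.l 14)) (.inv (.l 9))) (.l 14)) (.l 13), .mul (.mul (.mul (.l 9) (.l 17)) (.inv (.l 9))) (.l 18), .mul (.mul (.mul (.l 9) (.l 18)) (.inv (.l 9))) (.l 16), .mul (.mul (.mul (.mul (.l 12) (.l 13)) (.l 12)) (.l 1)) (.l 13), .mul (.mul (.mul (.mul (.l 12) (.l 14)) (.l 12)) (.l 2)) (.l 14), .mul (.mul (.mul (.mul (.l 12) (.l 16)) (.l 12)) (.l 3)) (.l 16), .mul (.mul (.mul (.mul (.l 12) (.l 17)) (.l 12)) (.l 6)) (.l 17), .mul (.mul (.mul (.mul (.mul (.mul (.mul (.mul (.l 12) (.l 18)) (.l 12)) (.l 6)) (.l 4)) (.l 3)) (.l 2)) (.l 1)) (.l 18), .mul (.mul (.mul (.l 13) (.l 14)) (.l 13)) (.l 14), .mul (.mul (.mul (.l 13) (.l 16)) (.l 13)) (.l 16), .mul (.mul (.mul (.l 14) (.l 13)) (.l 14)) (.l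 13), .mul (.mul (.mul (.l 14) (.l 17)) (.l 14)) (.l 17), .mul (.mul (.mul (.l 16) (.l 13)) (.l 16)) (.l 13), .mul (.mul (.mul (.l 17) (.l 14)) (.l 17)) (.l 14), .mul (.mul (.mul (.l 1) (.l 17)) (.l 1)) (.l 17), .mul (.mul (.mul (.l 1) (.l 18)) (.l 1)) (.l 18), .mul (.mul (.mul (.l 2) (.l 18)) (.l 2)) (.l 18), .mul (.mul (.mul (.mul (.mul (.l 4) (.l 18)) (.l 4)) (.l 18)) (.l 14)) (.l 13), .mul (.mul (.mul (.l 14) (.l 16)) (.mul (.mul (.mul (.mul (.l 4) (.l 6)) (.l 16)) (.l 6)) (.l 4))) (.l 1), .mul (.mul (.mul (.mul (.mul (.mul (.l 3) (.l 17)) (.l 3)) (.l 2)) (.l 17)) (.l 14)) (.l 13), .mul (.mul (.mul (.mul (.mul (.mul (.l 3) (.l 18)) (.l 3)) (.l 2)) (.l 1)) (.l 18)) (.l 14), .mul (.mul (.mul (.mul (.mul (.mul (.l 6) (.l 16)) (.l 6)) (.l 1)) (.l 16)) (.l 14)) (.l 13), .mul (.mul (.mul (.mul (.mul (.mul (.l 6) (.l 18)) (.l 6)) (.l 2)) (.l 1)) (.l 18)) (.l 13), .mul (.mul (.mul (.mul (.mul (.l 7) (.l 16)) (.inv (.l 7))) (.l 1)) (.l 16)) (.l 14), .mul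 (.mul (.mul (.l 13) (.l 17)) (.l 13)) (.l 17), .mul (.mul (.mul (.l 13) (.l 18)) (.l 13)) (.l 18), .mul (.mul (.mul (.l 14) (.l 16)) (.l 14)) (.l 16), .mul (.mul (.mul (.l 14) (.l 18)) (.l 14)) (.l 18), .mul (.mul (.mul (.l 16) (.l 14)) (.l 16)) (.l 14), .mul (.mul (.mul (.l 17) (.l 13)) (.l 17)) (.l 13), .mul (.mul (.mul (.l 18) (.l 13)) (.l 18)) (.l 13), .mul (.mul (.mul (.l 18) (.l 14)) (.l 18)) (.l 14), .mul (.mul (.pow (.mul (.l 16) (.l 17)) 2) (.l 2)) (.l 1), .mul (.mul (.mul (.mul (.mul (.l 16) (.l 17)) (.l 16)) (.l 2)) (.l 1)) (.l 17), .mul (.mul (.mul (.mul (.l 16) (.l 18)) (.l 16)) (.l 2)) (.l 18), .mul (.mul (.mul (.mul (.mul (.l 17) (.l 16)) (.l 17)) (.l 2)) (.l 1)) (.l 16), .mul (.mul (.mul (.mul (.l 17) (.l 18)) (.l 17)) (.l 1)) (.l 18), .mul (.mul (.mul (.mul (.l 18) (.l 16)) (.l 18)) (.l 2)) (.l 16), .mul (.mul (.mul (.mul (.l 18) (.l 17)) (.l 18)) (.l 1)) (.l 17), .mul (.mul (.mul (.mul (.mul (.mul (.mul (.l 16) (.l 17)) (.l 18))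 (.l 2)) (.l 16)) (.l 17)) (.l 18)) (.l 2), .mul (.mul (.mul (.l 7) (.mul (.mul (.mul (.l 16) (.l 17)) (.l 18)) (.l 2))) (.inv (.l 7))) (.mul (.mul (.mul (.mul (.mul (.l 7) (.l 16)) (.l 17)) (.l 18)) (.l 2)) (.inv (.l 7))), .mul (.mul (.mul (.mul (.mul (.mul (.inv (.mul (.mul (.mul (.mul (.inv (.l 7)) (.l 16)) (.l 17)) (.l 18)) (.l 7))) (.mul (.mul (.mul (.l 17) (.l 12)) (.l 18)) (.l 12))) (.mul (.mul (.mul (.mul (.inv (.l 7)) (.l 16)) (.l 17)) (.l 18)) (.l 7))) (.l 6)) (.l 4)) (.l 2)) (.l 1)]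

theorem c77_mems {G : Type*} [Group G] {γ : ℕ → G} (hL : Lab γ ivA) (hr : ∀ t ∈ rn76, t.ev γ = 1) {K : Subgroup G}
    (hK : ∀ t ∈ ([] : List W), t.ev γ ∈ K) :
    ∀ t ∈ c77_loops, t.ev γ ∈ K :=
  List.forall_mem_cons.2 ⟨c77_mem0 hL hr hK,
    List.forall_mem_cons.2 ⟨c77_mem1 hL hr hK,
    List.forall_mem_cons.2 ⟨c77_mem2 hL hr hK,
    List.forall_mem_cons.2 ⟨c77_mem3 hL hr hK,
    List.forall_mem_cons.2 ⟨c77_mem4 hL hr hK,
    List.forall_mem_cons.2 ⟨c77_mem5 hL hr hK,
    List.forall_mem_cons.2 ⟨c77_mem6 hL hr hK,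
    List.forall_mem_cons.2 ⟨c77_mem7 hL hr hK,
    List.forall_mem_cons.2 ⟨c77_mem8 hL hr hK,
    List.forall_mem_cons.2 ⟨c77_mem9 hL hr hK,
    List.forall_mem_cons.2 ⟨c77_mem10 hL hr hK,
    List.forall_mem_cons.2 ⟨c77_mem11 hL hr hK,
    List.forall_mem_cons.2 ⟨c77_mem12 hL hr hK,
    List.forall_mem_cons.2 ⟨c77_mem13 hL hr hK,
    List.forall_mem_cons.2 ⟨c77_mem14 hL hr hK,
    List.forall_mem_cons.2 ⟨c77_mem15 hL hr hK,
    List.forall_mem_cons.2 ⟨c77_mem16 hL hr hK,
    List.forall_mem_cons.2 ⟨c77_mem17 hL hr hK,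
    List.forall_mem_cons.2 ⟨c77_mem18 hL hr hK,
    List.forall_mem_cons.2 ⟨c77_mem19 hL hr hK,
    List.forall_mem_cons.2 ⟨c77_mem20 hL hr hK,
    List.forall_mem_cons.2 ⟨c77_mem21 hL hr hK,
    List.forall_mem_cons.2 ⟨c77_mem22 hL hr hK,
    List.forall_mem_cons.2 ⟨c77_mem23 hL hr hK,
    List.forall_mem_cons.2 ⟨c77_mem24 hL hr hK,
    List.forall_mem_cons.2 ⟨c77_mem25 hL hr hK,
    List.forall_mem_cons.2 ⟨c77_mem26 hL hr hK,
    List.forall_mem_cons.2 ⟨c77_mem27 hL hr hK,
    List.forall_mem_cons.2 ⟨c77_mem28 hL hr hK,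
    List.forall_mem_cons.2 ⟨c77_mem29 hL hr hK,
    List.forall_mem_cons.2 ⟨c77_mem30 hL hr hK,
    List.forall_mem_cons.2 ⟨c77_mem31 hL hr hK,
    List.forall_mem_cons.2 ⟨c77_mem32 hL hr hK,
    List.forall_mem_cons.2 ⟨c77_mem33 hL hr hK,
    List.forall_mem_cons.2 ⟨c77_mem34 hL hr hK,
    List.forall_mem_cons.2 ⟨c77_mem35 hL hr hK,
    List.forall_mem_cons.2 ⟨c77_mem36 hL hr hK,
    List.forall_mem_cons.2 ⟨c77_mem37 hL hr hK,
    List.forall_mem_cons.2 ⟨c77_mem38 hL hr hK,
    List.forall_mem_cons.2 ⟨c77_mem39 hL hr hK,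
    List.forall_mem_cons.2 ⟨c77_mem40 hL hr hK,
    List.forall_mem_cons.2 ⟨c77_mem41 hL hr hK,
    List.forall_mem_cons.2 ⟨c77_mem42 hL hr hK,
    List.forall_mem_cons.2 ⟨c77_mem43 hL hr hK,
    List.forall_mem_cons.2 ⟨c77_mem44 hL hr hK,
    List.forall_mem_cons.2 ⟨c77_mem45 hL hr hK,
    List.forall_mem_cons.2 ⟨c77_mem46 hL hr hK,
    List.forall_mem_cons.2 ⟨c77_mem47 hL hr hK,
    List.forall_mem_cons.2 ⟨c77_mem48 hL hr hK,
    List.forall_mem_cons.2 ⟨c77_mem49 hL hr hK,
    List.forall_mem_cons.2 ⟨c77_mem50 hL hr hK,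
    List.forall_mem_cons.2 ⟨c77_mem51 hL hr hK,
    List.forall_mem_cons.2 ⟨c77_mem52 hL hr hK,
    List.forall_mem_cons.2 ⟨c77_mem53 hL hr hK,
    List.forall_mem_cons.2 ⟨c77_mem54 hL hr hK,
    List.forall_mem_cons.2 ⟨c77_mem55 hL hr hK,
    List.forall_mem_cons.2 ⟨c77_mem56 hL hr hK,
    List.forall_mem_cons.2 ⟨c77_mem57 hL hr hK,
    List.forall_mem_cons.2 ⟨c77_mem58 hL hr hK,
    List.forall_mem_cons.2 ⟨c77_mem59 hL hr hK,
    List.forall_mem_cons.2 ⟨c77_mem60 hL hr hK,
    List.forall_mem_cons.2 ⟨c77_mem61 hL hr hK,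
    List.forall_mem_cons.2 ⟨c77_mem62 hL hr hK,
    List.forall_mem_cons.2 ⟨c77_mem63 hL hr hK,
    List.forall_mem_cons.2 ⟨c77_mem64 hL hr hK,
    List.forall_mem_cons.2 ⟨c77_mem65 hL hr hK,
    List.forall_mem_cons.2 ⟨c77_mem66 hL hr hK,
    List.forall_mem_cons.2 ⟨c77_mem67 hL hr hK,
    List.forall_mem_cons.2 ⟨c77_mem68 hL hr hK,
    List.forall_mem_cons.2 ⟨c77_mem69 hL hr hK,
    List.forall_mem_cons.2 ⟨c77_mem70 hL hr hK,
    List.forall_mem_cons.2 ⟨c77_mem71 hL hr hK,
    List.forall_mem_cons.2 ⟨c77_mem72 hL hr hK,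
    List.forall_mem_cons.2 ⟨c77_mem73 hL hr hK,
    List.forall_mem_cons.2 ⟨c77_mem74 hL hr hK,
    List.forall_mem_cons.2 ⟨c77_mem75 hL hr hK,
    List.forall_mem_cons.2 ⟨c77_mem76 hL hr hK,
    List.forall_mem_cons.2 ⟨c77_mem77 hL hr hK,
    fun _ h => absurd h List.not_mem_nil⟩⟩⟩⟩⟩⟩⟩⟩⟩⟩⟩⟩⟩⟩⟩⟩⟩⟩⟩⟩⟩⟩⟩⟩⟩⟩⟩⟩⟩⟩⟩⟩⟩⟩⟩⟩⟩⟩⟩⟩⟩⟩⟩⟩⟩⟩⟩⟩⟩⟩⟩⟩⟩⟩⟩⟩⟩⟩⟩⟩⟩⟩⟩⟩⟩⟩⟩⟩⟩⟩⟩⟩⟩⟩⟩⟩⟩⟩

theorem tn76 {γ : ℕ → G} (S : T.Wk D o γ ivA 4096) (F : Fo D) (R : Ps D) (h : Al γ rn76) : T.Fin D :=
  have k := (Al.bot (c77_mems S.lab h (nil_bot γ)))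
  have S' := S.ext [.l 13, .l 14, .l 15, .l 16, .l 17, .l 18, .mul (.mul (.mul (.l 16) (.l 17)) (.l 18)) (.l 2), .mul (.mul (.mul (.mul (.mul (.l 7) (.l 16)) (.l 17)) (.l 18)) (.l 2)) (.inv (.l 7)), .l 0, .l 0, .l 0, .l 0, .l 0, .l 0, .l 0, .l 0, .l 0] ivA 4096 (by decide +kernel) (k.triv S.lab (by decide +kernel))
  tWzyub S' F R ((Al.new (k.triv S.lab (by decide +kernel))).app (S'.r0 F))

theorem tn72 {γ : ℕ → G} (S : T.Wk D o γ ivA 4096) (F : Fo D) (R : Ps D) (h : Al γ rn72) : T.Fin D :=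
  let ⟨a, p, q, k⟩ := S.pin R.p4 (.mul (.mul (.inv (.mul (.mul (.mul (.mul (.inv (.l 7)) (.l 16)) (.l 17)) (.l 18)) (.l 7))) (.mul (.mul (.mul (.l 17) (.l 12)) (.l 18)) (.l 12))) (.mul (.mul (.mul (.mul (.inv (.l 7)) (.l 16)) (.l 17)) (.l 18)) (.l 7))) (by decide +kernel) nofun ((Al.bot (c73_mems S.lab h (nil_bot γ))).triv S.lab (by decide +kernel))
  (List.forall_mem_cons.2 ⟨fun _ k => tn74 S F R (k.app h),
    List.forall_mem_cons.2 ⟨fun _ k => tn76 S F R (k.app h),
    nofun⟩⟩ : ∀ a ∈ pn4.alts, (a.1 = true → o = true) → Al γ (a.2.map (sb (.mul (.mul (.inv (.mul (.mul (.mul (.mul (.inv (.l 7)) (.l 16)) (.l 17)) (.l 18)) (.l 7))) (.mul (.mul (.mul (.l 17) (.l 12)) (.l 18)) (.l 12))) (.mul (.mul (.mul (.mul (.inv (.l 7)) (.l 16)) (.l 17)) (.l 18)) (.l 7))))) → T.Fin D) a p q k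

theorem tn70 {γ : ℕ → G} (S : T.Wk D o γ ivA 4096) (F : Fo D) (R : Ps D) (h : Al γ rn70) : T.Fin D :=
  tn72 S F R (((Al.bot (c71_mems S.lab h (nil_bot γ))).triv S.lab (by decide +kernel)).app h)

theorem tn56 {γ : ℕ → G} (S : T.Wk D o γ ivA 4096) (F : Fo D) (R : Ps D) (h : Al γ rn56) : T.Fin D :=
  let ⟨a, p, q, k⟩ := S.pin R.p2 (.pow (.mul (.l 16) (.l 17)) 2) (by decide +kernel) nofun ((Al.bot (c57_mems S.lab h (nil_bot γ))).triv S.lab (by decide +kernel))
  (List.forall_mem_cons.2 ⟨fun _ k => tn58 S F R (k.app h),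
    List.forall_mem_cons.2 ⟨fun _ k => tn66 S F R (k.app h),
    List.forall_mem_cons.2 ⟨fun _ k => tn68 S F R (k.app h),
    List.forall_mem_cons.2 ⟨fun _ k => tn70 S F R (k.app h),
    nofun⟩⟩⟩⟩ : ∀ a ∈ pn2.alts, (a.1 = true → o = true) → Al γ (a.2.map (sb (.pow (.mul (.l 16) (.l 17)) 2))) → T.Fin D) a p q k

theorem tn54 {γ : ℕ → G} (S : T.Wk D o γ ivA 4096) (F : Fo D) (R : Ps D) (h : Al γ rn54) : T.Fin D :=
  tn56 S F R (((Al.bot (c55_mems S.lab h (nil_bot γ))).triv S.lab (by decide +kernel)).app h)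

theorem tn34 {γ : ℕ → G} (S : T.Wk D o γ ivA 4096) (F : Fo D) (R : Ps D) (h : Al γ rn34) : T.Fin D :=
  let ⟨a, p, q, k⟩ := S.pin R.p1 (.mul (.mul (.l 14) (.l 16)) (.mul (.mul (.mul (.mul (.l 4) (.l 6)) (.l 16)) (.l 6)) (.l 4))) (by decide +kernel) nofun ((Al.bot (c35_mems S.lab h (nil_bot γ))).triv S.lab (by decide +kernel))
  (List.forall_mem_cons.2 ⟨fun _ k => tn36 S F R (k.app h),
    List.forall_mem_cons.2 ⟨fun _ k => tn54 S F R (k.app h),
    nofun⟩⟩ : ∀ a ∈ pn1.alts, (a.1 = true → o = true) → Al γ (a.2.map (sb (.mul (.mul (.l 14) (.l 16)) (.mul (.mul (.mul (.mul (.l 4) (.l 6)) (.l 16)) (.l 6)) (.l 4))))) → T.Fin D) a p q k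

theorem tn32 {γ : ℕ → G} (S : T.Wk D o γ ivA 4096) (F : Fo D) (R : Ps D) (h : Al γ rn32) : T.Fin D :=
  tn34 S F R (((Al.bot (c33_mems S.lab h (nil_bot γ))).triv S.lab (by decide +kernel)).app h)

theorem tT {γ : ℕ → G} (S : T.Wk D o γ ivA 4096) (F : Fo D) (R : Ps D) (h : Al γ rT) : T.Fin D :=
  tn32 S F R (((Al.bot (c31_mems S.lab h (nil_bot γ))).triv S.lab (by decide +kernel)).app h)

end Cfsg.Lib.SK.Td
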